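import Cfsg.Agent.Lib.Linear.MinIndexSp.SmallSbar

/-!
# Bounds from the orbits of spans and of pairs
-/

set_option autoImplicit false
set_option linter.unusedSectionVars false

namespace Cfsg.Lib.Linear.MinIndexSp

open Module
open Cfsg.Lib.Linear.Symp

variable {F V : Type*} [Field F] [AddCommGroup V] [Module F V] [FiniteDimensional F V] [Finite V]
  {B : LinearMap.BilinForm F V} {n : ℕ} {v v' : V} (D : Frame B n v v')

include D

theorem Frame.double_mem_rsub {H : Subgroup (iso B)} {a b : V} (ha : a ∈ D.sbar H) (hb : b ∈ D.sbar H) :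
    2 * B b a ∈ D.rsub H := by
  obtain ⟨haW, c, hc⟩ := ha
  obtain ⟨hbW, e, he⟩ := hb
  have h := D.el_comm (D.W_v haW) (D.W_v hbW) c e
  have hm := mul_mem (mul_mem hc he) (inv_mem (mul_mem he hc))
  rwa [h, mul_inv_cancel_right] at hm

/-- The span of the image is moved by the lifts only within itself. -/
theorem Frame.span_bound [Fintype F] {H : Subgroup (iso B)} {U : Submodule F V}
    (hUspan : U = Submodule.span F (D.sbar H : Set V)) (h0 : U ≠ ⊥) (h1 : U ≠ D.W) :
    Nat.card D.W - 1 ≤ (D.levi H).relIndex D.lev * (Fintype.card F - 1) := by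
  haveI := finite_iso (B := B)
  haveI : Finite (Submodule F V) := Finite.of_injective (fun S : Submodule F V => (S : Set V)) SetLike.coe_injective
  have hle : U ≤ D.W := hUspan ▸ Submodule.span_le.2 fun a ha => ha.1
  refine (card_orbit_ge D.nondeg D.alt D.hX hle h0 h1).trans (Nat.mul_le_mul_right _ ?_)
  refine le_trans ?_ (card_img_le_of_fixed mv (D.levi_le H) (fun g _ k _ X => mv_mul g k X) (x := U) fun g hg => ?_)
  · rw [Nat.card_coe_set_eq, Nat.card_coe_set_eq]
    exact Set.ncard_le_ncard (fun Y ⟨g, hg, e⟩ => ⟨g, D.fx_le_lev hg, e⟩) (Set.toFinite _)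
  · refine Submodule.eq_of_le_of_finrank_eq ?_ (LinearEquiv.finrank_map_eq g.1 U)
    rw [hUspan, mv, Submodule.map_span, Submodule.span_le]
    rintro _ ⟨a, ha, rfl⟩
    have h := D.levi_sbar hg ha
    have e : g.1 a = (D.nu g)⁻¹ • (D.nu g • g.1 a) := by rw [inv_smul_smul₀ (D.nu_ne hg.1)]
    show g.1 a ∈ Submodule.span F _
    rw [e]
    exact Submodule.smul_mem _ _ (Submodule.subset_span h)

/-- The pairs with product in a given square class form one orbit. -/
theorem Frame.pair_bound [Fintype F] {H : Subgroup (iso B)} {a b : V} (ha : a ∈ D.sbar H) (hb : b ∈ D.sbar H)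
    (hab : B a b ≠ 0) :
    (Nat.card D.W - 1) * Nat.card D.W * (Fintype.card F - 1) ≤
      (D.levi H).relIndex D.lev * (Nat.card (D.sbar H) * Nat.card (D.sbar H)) *
        (Fintype.card F * Nat.card {x : F // x * x = 1}) := by
  classical
  haveI := finite_iso (B := B)
  set β := B a b
  let act : iso B → V × V → V × V := fun g p => (D.nu g • g.1 p.1, D.nu g • g.1 p.2)
  have hact : ∀ g ∈ D.lev, ∀ h ∈ D.lev, ∀ p, act (g * h) p = act g (act h p) := by
    intro g hg h hh p
    have e : ∀ z, D.nu (g * h) • (g * h).1 z = D.nu g • g.1 (D.nu h • h.1 z) := fun z => by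
      rw [map_smul, smul_smul, D.nu_mul hg hh]; rfl
    exact Prod.ext (e _) (e _)
  set T : Set (V × V) := {p | p.1 ∈ D.W ∧ p.2 ∈ D.W ∧ ∃ μ : F, μ ≠ 0 ∧ B p.1 p.2 = μ ^ 2 * β} with hT
  have hreach : T ⊆ img act D.lev (a, b) := by
    rintro ⟨x, y⟩ ⟨hx, hy, μ, hμ, hxy⟩
    set x' := μ⁻¹ • x with hx'def
    set y' := μ⁻¹ • y with hy'def
    have hx'W : x' ∈ D.W := D.W.smul_mem _ hx
    have hy'W : y' ∈ D.W := D.W.smul_mem _ hy
    have hxy' : B x' y' = β := by
      rw [hx'def, hy'def]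
      simp only [map_smul, LinearMap.smul_apply, smul_eq_mul]
      simp only at hxy
      rw [hxy]
      field_simp
    have ha0 : a ≠ 0 := fun e => hab (show B a b = 0 by rw [e]; simp)
    have hx'0 : x' ≠ 0 := fun e => hab (by rw [← hxy', e]; simp)
    obtain ⟨g, hg, eg⟩ := exists_Fx D.nondeg D.alt (not_mem_of_perp D.hX ha.1 ha0)
      (not_mem_of_perp D.hX hx'W hx'0) (fun z hz => (ha.1 z hz).trans (hx'W z hz).symm)
    have hgb : g.1 b ∈ D.W := D.lev_mem_W (D.fx_le_lev hg) hb.1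
    have hgab : B x' (g.1 b) = β := by rw [← eg, g.2]
    have hnot : ∀ z, B x' z = β → z ∉ plane F v v' ⊔ Submodule.span F {x'} := by
      intro z hz hm
      obtain ⟨p, hp, t, ht, rfl⟩ := Submodule.mem_sup.1 hm
      obtain ⟨l, rfl⟩ := Submodule.mem_span_singleton.1 ht
      rw [map_add, (B x').map_smul, D.self, smul_zero, add_zero, D.alt.isRefl _ _ (hx'W p hp)] at hz
      exact hab hz.symm
    obtain ⟨k, hk, ek⟩ := exists_Fx D.nondeg D.alt (hnot _ hgab) (hnot _ hxy') (fun z hz => by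
      obtain ⟨p, hp, t, ht, rfl⟩ := Submodule.mem_sup.1 hz
      obtain ⟨l, rfl⟩ := Submodule.mem_span_singleton.1 ht
      rw [map_add, map_smul, LinearMap.add_apply, LinearMap.add_apply, LinearMap.smul_apply, LinearMap.smul_apply,
        hgab, hxy', show B p (g.1 b) = 0 from hgb p hp, show B p y' = 0 from hy'W p hp])
    have hkF : k ∈ Fx B (plane F v v') := mem_Fx.2 fun z hz => mem_Fx.1 hk z (Submodule.mem_sup_left hz)
    have hkg : k * g ∈ Fx B (plane F v v') := mul_mem hkF hg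
    refine ⟨D.tor (Units.mk0 μ hμ) * (k * g), mul_mem (D.tor_mem _) (D.fx_le_lev hkg), ?_⟩
    have hnu : D.nu (D.tor (Units.mk0 μ hμ) * (k * g)) = μ := by
      rw [D.nu_mul (D.tor_mem _) (D.fx_le_lev hkg), D.nu_tor, D.nu_fx hkg, mul_one, Units.val_mk0]
    show (_ • _, _ • _) = (x, y)
    rw [hnu]
    show (μ • (D.tor _).1 (k.1 (g.1 a)), μ • (D.tor _).1 (k.1 (g.1 b))) = (x, y)
    rw [eg, ek, mem_Fx.1 hk x' (Submodule.mem_sup_right (Submodule.mem_span_singleton_self x')), D.tor_W _ hx'W,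
      D.tor_W _ hy'W, hx'def, hy'def, smul_inv_smul₀ hμ, smul_inv_smul₀ hμ]
  have h1 : T.ncard ≤ (D.levi H).relIndex D.lev * (Nat.card (D.sbar H) * Nat.card (D.sbar H)) := by
    refine (Set.ncard_le_ncard hreach (Set.toFinite _)).trans ?_
    rw [← Nat.card_coe_set_eq, ← Nat.card_prod]
    refine (card_img_le_of_stable act (D.levi_le H) hact (x := (a, b))
      (T := (D.sbar H : Set V) ×ˢ (D.sbar H : Set V)) (Set.toFinite _)
      (fun g hg => ⟨D.levi_sbar hg ha, D.levi_sbar hg hb⟩)).trans (le_of_eq ?_)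
    rw [Set.ncard_prod, Nat.card_prod, ← Nat.card_coe_set_eq]
    rfl
  -- counting the pairs
  have hz : ∀ x : {x : D.W // x ≠ 0}, ∃ z ∈ D.W, B (x.1 : V) z = β := by
    intro x
    obtain ⟨f, hf⟩ := Module.Projective.exists_dual_ne_zero F x.2
    obtain ⟨z, hz, hzf⟩ := exists_rep D.nondeg D.hX le_rfl ((β / f x.1) • f)
    exact ⟨z, hz, by rw [hzf x.1, LinearMap.smul_apply, smul_eq_mul, div_mul_cancel₀ _ hf]⟩
  choose z hzW hzβ using hz
  let rep : F → F := Function.invFun fun μ : F => μ ^ 2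
  have hrep : ∀ μ : F, rep (μ ^ 2) ^ 2 = μ ^ 2 := fun μ => Function.invFun_eq (f := fun μ : F => μ ^ 2) ⟨μ, rfl⟩
  have hrep0 : ∀ μ : Fˣ, rep ((μ : F) ^ 2) ≠ 0 := fun μ e => by
    have := hrep μ
    rw [e, zero_pow two_ne_zero] at this
    exact pow_ne_zero 2 μ.ne_zero this.symm
  have h2 : Nat.card ({x : D.W // x ≠ 0} × D.W × Fˣ) ≤ Nat.card (T × F × {x : F // x * x = 1}) := by
    refine Nat.card_le_card_of_injective (fun p =>
      ((⟨((p.1.1 : V), (p.2.1 : V) - (B (p.1.1 : V) (p.2.1 : V) / β) • z p.1 + ((p.2.2 : F) ^ 2) • z p.1),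
        p.1.1.2, add_mem (sub_mem p.2.1.2 (D.W.smul_mem _ (hzW p.1))) (D.W.smul_mem _ (hzW p.1)),
        (p.2.2 : F), p.2.2.ne_zero, by
          rw [map_add, map_sub, map_smul, map_smul, hzβ, smul_eq_mul, smul_eq_mul, div_mul_cancel₀ _ hab,
            sub_self, zero_add]⟩ : T), B (p.1.1 : V) (p.2.1 : V),
        (⟨(p.2.2 : F) / rep ((p.2.2 : F) ^ 2), by
          rw [div_mul_div_comm, ← sq, ← sq, hrep, div_self (pow_ne_zero 2 p.2.2.ne_zero)]⟩ :
          {x : F // x * x = 1}))) ?_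
    rintro ⟨x, y, μ⟩ ⟨x', y', μ'⟩ h
    simp only [Prod.mk.injEq, Subtype.mk.injEq] at h
    obtain ⟨⟨h1, h2⟩, h3, h4⟩ := h
    obtain rfl : x = x' := Subtype.ext (Subtype.ext h1)
    have h5 := congrArg (B (x.1 : V)) h2
    simp only [map_add, map_sub, map_smul, hzβ, smul_eq_mul, div_mul_cancel₀ _ hab, sub_self, zero_add] at h5
    have hsq : (μ : F) ^ 2 = (μ' : F) ^ 2 := mul_right_cancel₀ hab h5
    rw [hsq] at h4
    obtain rfl : μ = μ' := Units.ext (by rwa [div_left_inj' (hrep0 μ')] at h4)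
    rw [← h3, add_left_inj, sub_left_inj] at h2
    exact Prod.ext rfl (Prod.ext (Subtype.ext h2) rfl)
  haveI := Fintype.ofFinite D.W
  rw [Nat.card_prod, Nat.card_prod, Nat.card_prod, Nat.card_prod, Nat.card_units,
    Nat.card_eq_fintype_card (α := F), show Nat.card {x : D.W // x ≠ 0} = Nat.card D.W - 1 by
      rw [Nat.card_eq_fintype_card, Nat.card_eq_fintype_card, Fintype.card_subtype_compl, Fintype.card_subtype_eq],
    Nat.card_coe_set_eq, ← mul_assoc] at h2
  exact h2.trans (Nat.mul_le_mul_right _ h1)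

/-- In odd characteristic the image is isotropic for a form over the prime field. -/
theorem Frame.sbar_sq_le [Fintype F] {H : Subgroup (iso B)} (hR : D.rsub H ≠ ⊤) (h2 : (2 : F) ≠ 0) :
    Nat.card (D.sbar H) * Nat.card (D.sbar H) ≤ Nat.card D.W := by
  classical
  obtain ⟨c0, hc0⟩ : ∃ c, c ∉ D.rsub H := by
    by_contra h
    push Not at h
    exact hR ((AddSubgroup.eq_top_iff' _).2 h)
  obtain ⟨χ, hχ⟩ := AddChar.exists_apply_ne_zero.2 (show ((c0 : F) : F ⧸ D.rsub H) ≠ 0 from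
    fun h => hc0 ((QuotientAddGroup.eq_zero_iff _).1 h))
  set S : AddSubgroup D.W := (D.sbar H).comap D.W.subtype.toAddMonoidHom with hS
  have hScard : Nat.card S = Nat.card (D.sbar H) := by
    refine Nat.card_congr ?_
    exact
      { toFun := fun a => ⟨(a.1 : V), a.2⟩
        invFun := fun a => ⟨⟨a.1, a.2.1⟩, a.2⟩
        left_inv := fun a => rfl
        right_inv := fun a => rfl }
  -- half of every product lies in the central part
  have hhalf : ∀ a b : S, B (a.1 : V) (b.1 : V) ∈ D.rsub H := by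
    intro a b
    have hm := D.double_mem_rsub (H := H) (show (b.1 : V) ∈ D.sbar H from b.2) (show (a.1 : V) ∈ D.sbar H from a.2)
    set R := D.rsub H
    have hs : Function.Surjective (fun z : R => z + z) := by
      refine Finite.injective_iff_surjective.1 fun z w e => Subtype.ext ?_
      have e' : z.1 + z.1 = w.1 + w.1 := congrArg Subtype.val e
      refine mul_left_cancel₀ h2 ?_
      rw [two_mul, two_mul, e']
    obtain ⟨z, hz⟩ := hs ⟨_, hm⟩
    have e' : z.1 + z.1 = 2 * B (a.1 : V) (b.1 : V) := congrArg Subtype.val hz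
    have : z.1 = B (a.1 : V) (b.1 : V) := mul_left_cancel₀ h2 (by rw [two_mul, e'])
    exact this ▸ z.2
  let g : S → D.W →+ F ⧸ D.rsub H := fun a =>
    (QuotientAddGroup.mk' (D.rsub H)).comp ((B (a.1 : V)).toAddMonoidHom.comp D.W.subtype.toAddMonoidHom)
  have hg : ∀ a, S ≤ (g a).ker := fun a b hb =>
    (QuotientAddGroup.eq_zero_iff _).2 (hhalf a ⟨b, hb⟩)
  haveI : Finite (D.W ⧸ S) := Finite.of_surjective _ QuotientAddGroup.mk_surjective
  haveI := Fintype.ofFinite (D.W ⧸ S)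
  have h1 : Nat.card S ≤ Nat.card (D.W ⧸ S) := by
    rw [Nat.card_eq_fintype_card (α := D.W ⧸ S), ← AddChar.card_eq, ← Nat.card_eq_fintype_card]
    refine Nat.card_le_card_of_injective (fun a => χ.compAddMonoidHom (QuotientAddGroup.lift S (g a) (hg a))) ?_
    intro a b h
    have h3 : ∀ w : D.W, χ (g a w) = χ (g b w) := fun w =>
      DFunLike.congr_fun h (QuotientAddGroup.mk w)
    by_contra hne
    have hd : (a.1 - b.1 : D.W) ≠ 0 := sub_ne_zero.2 fun e => hne (Subtype.ext e)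
    obtain ⟨f, hf⟩ := Module.Projective.exists_dual_ne_zero F hd
    obtain ⟨w, hw, hwf⟩ := exists_rep D.nondeg D.hX le_rfl f
    have h5 : B (a.1 : V) w - B (b.1 : V) w = f (a.1 - b.1) := by
      rw [← hwf, Submodule.coe_sub, map_sub, LinearMap.sub_apply]
    have h4 := h3 ⟨(c0 / f (a.1 - b.1)) • w, D.W.smul_mem _ hw⟩
    have e1 : g a ⟨(c0 / f (a.1 - b.1)) • w, D.W.smul_mem _ hw⟩ =
        ((c0 : F) : F ⧸ D.rsub H) + g b ⟨(c0 / f (a.1 - b.1)) • w, D.W.smul_mem _ hw⟩ := by
      show ((B (a.1 : V) ((c0 / f (a.1 - b.1)) • w) : F) : F ⧸ D.rsub H) =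
        (c0 : F ⧸ D.rsub H) + ((B (b.1 : V) ((c0 / f (a.1 - b.1)) • w) : F) : F ⧸ D.rsub H)
      rw [← QuotientAddGroup.mk_add]
      congr 1
      rw [map_smul, map_smul, smul_eq_mul, smul_eq_mul, show B (a.1 : V) w = f (a.1 - b.1) + B (b.1 : V) w by
        rw [← h5, sub_add_cancel], mul_add, div_mul_cancel₀ _ hf]
    rw [e1, AddChar.map_add_eq_mul] at h4
    exact hχ ((mul_eq_right₀ (χ.val_isUnit _).ne_zero).1 h4)
  rw [← hScard, ← AddSubgroup.card_mul_index S, AddSubgroup.index]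
  exact Nat.mul_le_mul_left _ h1

end Cfsg.Lib.Linear.MinIndexSp
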