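import Cfsg.Agent.Lib.Linear.MinIndexSp.Bounds

/-!
# Small images in the quotient of the radical, and odd characteristic
-/

set_option autoImplicit false
set_option linter.unusedSectionVars false

namespace Cfsg.Lib.Linear.MinIndexSp

open Module
open Cfsg.Lib.Linear.Symp

theorem arith_span {q X N r s k : ℕ} (hX : 2 ≤ X) (hr : 2 ≤ r) (hs : s * q ^ 2 ≤ X) (hb : k * (X * r) ≤ N * s)
    (hk : X - 1 ≤ k * (q - 1)) (hN : N * (q - 1) + 1 < q ^ 2 * X) : False := by
  have h1 : (X - 1) * (X * r) < X * X := by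
    have hs0 : s ≠ 0 := fun e => by
      rw [e, mul_zero, Nat.le_zero] at hb
      have hk0 : k * (q - 1) = 0 := by
        rcases Nat.mul_eq_zero.1 hb with h | h
        · rw [h, zero_mul]
        · exact absurd h (Nat.mul_ne_zero (by omega) (by omega))
      omega
    calc (X - 1) * (X * r) ≤ k * (q - 1) * (X * r) := Nat.mul_le_mul_right _ hk
      _ = k * (X * r) * (q - 1) := by ring
      _ ≤ N * s * (q - 1) := Nat.mul_le_mul_right _ hb
      _ = N * (q - 1) * s := by ring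
      _ < q ^ 2 * X * s := (Nat.mul_lt_mul_right (Nat.pos_of_ne_zero hs0)).2 (by omega)
      _ = X * (s * q ^ 2) := by ring
      _ ≤ X * X := Nat.mul_le_mul_left _ hs
  have h2 : (X - 1) * r < X := by
    rw [mul_left_comm] at h1
    exact Nat.lt_of_mul_lt_mul_left h1
  have h3 : (X - 1) * 2 ≤ (X - 1) * r := Nat.mul_le_mul_left _ hr
  omega

/-- The inequality from the pairs, in general form. -/
theorem arith_pairs {q X N r s k c : ℕ} (hq : 2 ≤ q) (hs : 0 < s) (hc : 0 < c) (hb : k * (X * r) ≤ N * s)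
    (hk : (X - 1) * X * (q - 1) ≤ k * (s * s) * (q * c)) (hN : N * (q - 1) + 1 < q ^ 2 * X) :
    r * (q - 1) * (q - 1) * (X - 1) * X < q ^ 3 * c * (s * s * s) := by
  refine Nat.lt_of_mul_lt_mul_left (a := X) ?_
  calc X * (r * (q - 1) * (q - 1) * (X - 1) * X)
      = (X - 1) * X * (q - 1) * (X * r * (q - 1)) := by ring
    _ ≤ k * (s * s) * (q * c) * (X * r * (q - 1)) := Nat.mul_le_mul_right _ hk
    _ = k * (X * r) * ((s * s) * (q * c) * (q - 1)) := by ring
    _ ≤ N * s * ((s * s) * (q * c) * (q - 1)) := Nat.mul_le_mul_right _ hb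
    _ = N * (q - 1) * (s * s * s * (q * c)) := by ring
    _ < q ^ 2 * X * (s * s * s * (q * c)) := (Nat.mul_lt_mul_right (by positivity)).2 (by omega)
    _ = _ := by ring

theorem arith_odd_four {q w r : ℕ} (hw : q = w + 1) (hq : 7 ≤ q) (hr : 3 ≤ r)
    (h : r * w * w * (q ^ 2 - 1) < 2 * q ^ 4) : False := by
  subst hw
  have h1 : 2 * (w + 1) ^ 2 + 5 ≤ r * w * w := by nlinarith [Nat.mul_le_mul_right (w * w) hr]
  have h2 := Nat.mul_le_mul_right ((w + 1) ^ 2 - 1) h1
  obtain ⟨t, ht⟩ : ∃ t, (w + 1) ^ 2 = t + 1 :=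
    ⟨(w + 1) ^ 2 - 1, by have : 1 ≤ (w + 1) ^ 2 := Nat.one_le_pow _ _ (by omega); omega⟩
  have h3 : 49 ≤ (w + 1) ^ 2 := le_trans (by norm_num) (Nat.pow_le_pow_left hq 2)
  rw [show (w + 1) ^ 4 = (w + 1) ^ 2 * (w + 1) ^ 2 by ring, ht, Nat.add_sub_cancel] at h
  rw [ht, Nat.add_sub_cancel] at h2
  rw [ht] at h3
  nlinarith

theorem arith_odd {q w r X : ℕ} (hw : q = w + 1) (hq : 3 ≤ q) (hr : 3 ≤ r)
    (h : r * w * w * (X - 1) < 2 * q * X) (hX : 9 ≤ X) : False := by
  subst hw
  have h1 : 4 * (w + 1) ≤ r * w * w + 0 := by nlinarith [Nat.mul_le_mul_right (w * w) hr]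
  have h2 : 4 * (w + 1) * (X - 1) ≤ r * w * w * (X - 1) := Nat.mul_le_mul_right _ h1
  obtain ⟨t, rfl⟩ : ∃ t, X = t + 1 := ⟨X - 1, by omega⟩
  simp only [Nat.add_sub_cancel] at h h2
  nlinarith

theorem arith_even_four {q w : ℕ} (hw : q = w + 1) (hq : 4 ≤ q) (h : 2 * w * w * (q ^ 2 - 1) < q ^ 4) : False := by
  subst hw
  have h1 : (w + 1) ^ 2 + 2 ≤ 2 * w * w := by nlinarith
  have h2 := Nat.mul_le_mul_right ((w + 1) ^ 2 - 1) h1
  obtain ⟨t, ht⟩ : ∃ t, (w + 1) ^ 2 = t + 1 :=
    ⟨(w + 1) ^ 2 - 1, by have : 1 ≤ (w + 1) ^ 2 := Nat.one_le_pow _ _ (by omega); omega⟩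
  have h3 : 16 ≤ (w + 1) ^ 2 := le_trans (by norm_num) (Nat.pow_le_pow_left hq 2)
  rw [show (w + 1) ^ 4 = (w + 1) ^ 2 * (w + 1) ^ 2 by ring, ht, Nat.add_sub_cancel] at h
  rw [ht, Nat.add_sub_cancel] at h2
  rw [ht] at h3
  nlinarith

theorem arith_even {q w X : ℕ} (hw : q = w + 1) (hq : 4 ≤ q) (hX : q ^ 4 ≤ X)
    (h : 2 * w * w * (X - 1) < q ^ 5) : False := by
  subst hw
  have h1 : 4 * (w + 1) ≤ 2 * w * w := by nlinarith
  have h2 : 4 * (w + 1) * ((w + 1) ^ 4 - 1) ≤ 2 * w * w * (X - 1) :=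
    Nat.mul_le_mul h1 (Nat.sub_le_sub_right hX 1)
  have h3 : 256 ≤ (w + 1) ^ 4 := le_trans (by norm_num) (Nat.pow_le_pow_left hq 4)
  rw [show (w + 1) ^ 5 = (w + 1) * (w + 1) ^ 4 by ring] at h
  obtain ⟨t, ht⟩ : ∃ t, (w + 1) ^ 4 = t + 1 := ⟨(w + 1) ^ 4 - 1, by omega⟩
  rw [ht] at h h3
  rw [ht, Nat.add_sub_cancel] at h2
  nlinarith

variable {F V : Type*} [Field F] [AddCommGroup V] [Module F V] [FiniteDimensional F V] [Finite V]
  {B : LinearMap.BilinForm F V} {n : ℕ} {v v' : V} (D : Frame B n v v')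

include D

theorem Frame.rsub_index_ge [Finite F] {H : Subgroup (iso B)} (hR : D.rsub H ≠ ⊤) : 2 ≤ (D.rsub H).index := by
  have h0 : (D.rsub H).index ≠ 0 := AddSubgroup.index_ne_zero_of_finite
  have h1 : (D.rsub H).index ≠ 1 := fun h => hR (AddSubgroup.index_eq_one.1 h)
  omega

/-- The dichotomy between a proper span and a pair. -/
theorem Frame.span_or_pair {H : Subgroup (iso B)} :
    Submodule.span F (D.sbar H : Set V) ≠ D.W ∨ n = 0 ∨ ∃ a ∈ D.sbar H, ∃ b ∈ D.sbar H, B a b ≠ 0 := by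
  by_contra hc
  push Not at hc
  obtain ⟨hspan, hn, hiso⟩ := hc
  have key : ∀ x ∈ Submodule.span F (D.sbar H : Set V), ∀ y ∈ Submodule.span F (D.sbar H : Set V), B x y = 0 := by
    intro x hx y hy
    induction hx using Submodule.span_induction with
    | mem a ha =>
      induction hy using Submodule.span_induction with
      | mem b hb => exact hiso a ha b hb
      | zero => simp
      | add y y' _ _ hy hy' => simp [hy, hy']
      | smul c y _ hy => simp [hy]
    | zero => simp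
    | add y y' _ _ hy hy' => simp [hy, hy']
    | smul c y _ hy => simp [hy]
  obtain ⟨w, hw, hw0⟩ : ∃ w ∈ D.W, w ≠ 0 := Submodule.exists_mem_ne_zero_of_ne_bot fun e => by
    have := D.finrank_W
    rw [show D.W = ⊥ from e, finrank_bot] at this
    omega
  obtain ⟨f, hf⟩ := Module.Projective.exists_dual_ne_zero F (show (⟨w, hw⟩ : D.W) ≠ 0 from
    fun e => hw0 (congrArg Subtype.val e))
  obtain ⟨z, hz, hzf⟩ := exists_rep D.nondeg D.hX le_rfl f
  exact hf ((hzf ⟨w, hw⟩).symm.trans (key w (hspan ▸ hw) z (hspan ▸ hz)))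

/-- In dimension four a proper span is a line. -/
theorem Frame.span_false_four [Fintype F] {H : Subgroup (iso B)} (S : Small D H) (hn : n = 1)
    (hne : ∃ a ∈ D.sbar H, a ≠ 0) (hspan : Submodule.span F (D.sbar H : Set V) ≠ D.W) : False := by
  set U := Submodule.span F (D.sbar H : Set V) with hU
  have hle : U ≤ D.W := Submodule.span_le.2 fun a ha => ha.1
  obtain ⟨a, ha, ha0⟩ := hne
  have h2 : finrank F U < 2 := by
    have := Submodule.finrank_lt_finrank_of_lt (lt_of_le_of_ne hle hspan)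
    rw [D.finrank_W, hn] at this
    exact this
  have haU : a ∈ U := Submodule.subset_span ha
  have hline : U = Submodule.span F {a} :=
    (Submodule.eq_of_le_of_finrank_le ((Submodule.span_singleton_le_iff_mem _ _).2 haU) (by
      rw [finrank_span_singleton ha0]; omega)).symm
  exact D.line_false S hn ha.1 ha0 (fun b hb => hline ▸ Submodule.subset_span hb) ⟨a, ha, ha0⟩

/-- A proper span in higher dimension. -/
theorem Frame.span_false [Fintype F] {H : Subgroup (iso B)} (S : Small D H)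
    (hne : ∃ a ∈ D.sbar H, a ≠ 0) (hspan : Submodule.span F (D.sbar H : Set V) ≠ D.W)
    (hs : Nat.card (D.sbar H) * Fintype.card F ^ 2 ≤ Nat.card D.W) : False := by
  obtain ⟨a, ha, ha0⟩ := hne
  have h0 : Submodule.span F (D.sbar H : Set V) ≠ ⊥ := fun e =>
    ha0 ((Submodule.mem_bot F).1 (e ▸ Submodule.subset_span ha))
  have hk := D.span_bound rfl h0 hspan
  have hX : 2 ≤ Nat.card D.W :=
    Finite.one_lt_card_iff_nontrivial.2 (nontrivial_of_ne ⟨a, ha.1⟩ 0 fun e => ha0 (congrArg Subtype.val e))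
  have hbound := S.bound
  rw [show 2 * (n + 1) = 2 + 2 * n by ring, pow_add, ← Nat.card_eq_fintype_card (α := F), ← D.card_W,
    Nat.card_eq_fintype_card] at hbound
  exact arith_span hX (D.rsub_index_ge S.bad) hs (D.basic H) hk hbound

/-- Odd characteristic. -/
theorem Frame.odd_false [Fintype F] {H : Subgroup (iso B)} (S : Small D H) (h2 : (2 : F) ≠ 0)
    (hne : ∃ a ∈ D.sbar H, a ≠ 0) : False := by
  have hR := S.bad
  have hiso := D.sbar_sq_le hR h2
  have hb := D.basic H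
  have hr2 := D.rsub_index_ge hR
  have hs0 : 0 < Nat.card (D.sbar H) := Nat.card_pos
  rw [D.card_W, Nat.card_eq_fintype_card (α := F)] at hiso
  have hs : Nat.card (D.sbar H) ≤ Fintype.card F ^ n := by
    rw [show 2 * n = n + n by ring, pow_add] at hiso
    exact Nat.mul_self_le_mul_self_iff.1 hiso
  have hodd : Odd (Fintype.card F) := Nat.odd_iff.2 (FiniteField.odd_card_of_char_ne_two (fun h => h2 (by
    haveI := ringChar.of_eq h
    exact CharTwo.two_eq_zero)))
  have hr3 : 3 ≤ (D.rsub H).index := by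
    by_contra hc
    have h : (D.rsub H).index = 2 := by omega
    have hd := (D.rsub H).index_dvd_card
    rw [h, Nat.card_eq_fintype_card] at hd
    exact (Nat.not_even_iff_odd.2 hodd) (even_iff_two_dvd.2 hd)
  rcases D.span_or_pair (H := H) with hspan | hn0 | ⟨a, ha, b, hb', hab⟩
  · rcases (show n = 1 ∨ 2 ≤ n by have := S.hn; omega) with hn | hn
    · exact D.span_false_four S hn hne hspan
    · refine D.span_false S hne hspan ?_
      rw [D.card_W, Nat.card_eq_fintype_card (α := F), show 2 * n = n + n by ring, pow_add]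
      exact Nat.mul_le_mul hs (Nat.pow_le_pow_right Fintype.card_pos hn)
  · have := S.hn; omega
  have hk := D.pair_bound ha hb' hab
  have hbound := S.bound
  rw [show 2 * (n + 1) = 2 + 2 * n by ring, pow_add, ← Nat.card_eq_fintype_card (α := F), ← D.card_W,
    Nat.card_eq_fintype_card] at hbound
  have hc0 : 0 < Nat.card {x : F // x * x = 1} := by
    haveI : Nonempty {x : F // x * x = 1} := ⟨⟨1, one_mul 1⟩⟩
    exact Nat.card_pos
  have h := arith_pairs (by have := S.hq; omega) hs0 hc0 hb hk hbound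
  rw [D.card_W, Nat.card_eq_fintype_card] at h
  have hc2 := sign_card_le_two (F := F)
  set q := Fintype.card F with hq
  set s := Nat.card (D.sbar H)
  set r := (D.rsub H).index
  set X := q ^ (2 * n) with hXdef
  have hXs : X = q ^ n * q ^ n := by rw [hXdef, ← pow_add]; ring_nf
  have hq3 : 3 ≤ q := S.hq
  have hs3 : s * s * s ≤ X * q ^ n := by
    rw [hXs]; exact Nat.mul_le_mul (Nat.mul_le_mul hs hs) hs
  have h' : r * (q - 1) * (q - 1) * (X - 1) < q ^ 3 * 2 * q ^ n := by
    refine Nat.lt_of_mul_lt_mul_right (a := X) ?_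
    calc r * (q - 1) * (q - 1) * (X - 1) * X < q ^ 3 * Nat.card {x : F // x * x = 1} * (s * s * s) := h
      _ ≤ q ^ 3 * 2 * (X * q ^ n) := Nat.mul_le_mul (Nat.mul_le_mul_left _ hc2) hs3
      _ = _ := by ring
  obtain ⟨w, hw⟩ : ∃ w, q = w + 1 := ⟨q - 1, by omega⟩
  rw [show q - 1 = w by omega] at h'
  rcases (show n = 1 ∨ 2 ≤ n by have := S.hn; omega) with hn | hn
  · have hq4 : 4 ≤ q := S.hexc.resolve_left (by omega)
    rw [hn, pow_one] at h'
    rw [hXdef, hn] at h'
    have h5 : r * w * w * (q ^ 2 - 1) < 2 * q ^ 4 := by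
      calc r * w * w * (q ^ 2 - 1) = r * w * w * (q ^ (2 * 1) - 1) := by norm_num
        _ < q ^ 3 * 2 * q := h'
        _ = 2 * q ^ 4 := by ring
    rcases (show q = 5 ∨ 7 ≤ q by obtain ⟨t, ht⟩ := hodd; omega) with hq5 | hq7
    · have hd := (D.rsub H).index_dvd_card
      rw [Nat.card_eq_fintype_card, ← hq, hq5] at hd
      have hr5 : r = 5 := ((Nat.dvd_prime (by norm_num)).1 hd).resolve_left (by omega)
      rw [hr5, show w = 4 by omega, hq5] at h5
      norm_num at h5
    · exact arith_odd_four hw hq7 hr3 h5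
  · have h5 : q ^ 3 * 2 * q ^ n ≤ 2 * q * X := by
      rw [show q ^ 3 * 2 * q ^ n = 2 * q * (q ^ 2 * q ^ n) by ring, hXs]
      exact Nat.mul_le_mul_left _ (Nat.mul_le_mul_right _ (Nat.pow_le_pow_right (by omega) hn))
    exact arith_odd hw hq3 hr3 (lt_of_lt_of_le h' h5) (le_trans (by norm_num : 9 ≤ 3 ^ 2)
      (le_trans (Nat.pow_le_pow_left hq3 2) (Nat.pow_le_pow_right (by omega) (by omega))))

/-- Even characteristic, small image. -/
theorem Frame.even_small_false [Fintype F] {H : Subgroup (iso B)} (S : Small D H) (h2 : (2 : F) = 0)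
    (hne : ∃ a ∈ D.sbar H, a ≠ 0) (hs : Nat.card (D.sbar H) ≤ Fintype.card F ^ (if n = 1 then 1 else 2)) :
    False := by
  have hb := D.basic H
  have hr2 := D.rsub_index_ge S.bad
  have hs0 : 0 < Nat.card (D.sbar H) := Nat.card_pos
  have hq4 : 4 ≤ Fintype.card F := by
    haveI : CharP F 2 := CharTwo.of_one_ne_zero_of_two_eq_zero one_ne_zero h2
    obtain ⟨k, -, hk⟩ := FiniteField.card F 2
    have := S.hq
    rcases (show (k : ℕ) = 1 ∨ 2 ≤ (k : ℕ) by have := k.pos; omega) with h | h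
    · rw [h] at hk; omega
    · rw [hk]; exact le_trans (by norm_num) (Nat.pow_le_pow_right two_pos h)
  rcases D.span_or_pair (H := H) with hspan | hn0 | ⟨a, ha, b, hb', hab⟩
  · rcases (show n = 1 ∨ 2 ≤ n by have := S.hn; omega) with hn | hn
    · exact D.span_false_four S hn hne hspan
    · refine D.span_false S hne hspan ?_
      rw [if_neg (by omega)] at hs
      rw [D.card_W, Nat.card_eq_fintype_card (α := F)]
      calc _ ≤ Fintype.card F ^ 2 * Fintype.card F ^ 2 := Nat.mul_le_mul_right _ hs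
        _ ≤ _ := by rw [← pow_add]; exact Nat.pow_le_pow_right Fintype.card_pos (by omega)
  · have := S.hn; omega
  have hk := D.pair_bound ha hb' hab
  have hbound := S.bound
  rw [show 2 * (n + 1) = 2 + 2 * n by ring, pow_add, ← Nat.card_eq_fintype_card (α := F), ← D.card_W,
    Nat.card_eq_fintype_card] at hbound
  have h := arith_pairs (by omega) hs0 (by rw [sign_card_eq_one h2]; exact one_pos) hb hk hbound
  rw [sign_card_eq_one h2, mul_one, D.card_W, Nat.card_eq_fintype_card] at h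
  set q := Fintype.card F with hq
  set s := Nat.card (D.sbar H)
  set r := (D.rsub H).index
  obtain ⟨w, hw⟩ : ∃ w, q = w + 1 := ⟨q - 1, by omega⟩
  rw [show q - 1 = w by omega] at h
  have h' : 2 * w * w * (q ^ (2 * n) - 1) * q ^ (2 * n) < q ^ 3 * (s * s * s) :=
    lt_of_le_of_lt (Nat.mul_le_mul_right _ (Nat.mul_le_mul_right _ (Nat.mul_le_mul_right _
      (Nat.mul_le_mul_right _ hr2)))) h
  rcases (show n = 1 ∨ 2 ≤ n by have := S.hn; omega) with hn | hn
  · rw [if_pos hn, pow_one] at hs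
    subst hn
    have h3 : q ^ 3 * (s * s * s) ≤ q ^ 3 * (q * q * q) :=
      Nat.mul_le_mul_left _ (Nat.mul_le_mul (Nat.mul_le_mul hs hs) hs)
    have h4 : 2 * w * w * (q ^ 2 - 1) < q ^ 4 := by
      refine Nat.lt_of_mul_lt_mul_right (a := q ^ 2) ?_
      calc _ < q ^ 3 * (q * q * q) := lt_of_lt_of_le h' h3
        _ = _ := by ring
    exact arith_even_four hw hq4 h4
  · rw [if_neg (by omega)] at hs
    have hX : q ^ 4 ≤ q ^ (2 * n) := Nat.pow_le_pow_right (by omega) (by omega)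
    have h3 : q ^ 3 * (s * s * s) ≤ q ^ 5 * q ^ (2 * n) := by
      calc q ^ 3 * (s * s * s) ≤ q ^ 3 * (q ^ 2 * q ^ 2 * q ^ 2) :=
            Nat.mul_le_mul_left _ (Nat.mul_le_mul (Nat.mul_le_mul hs hs) hs)
        _ = q ^ 5 * q ^ 4 := by ring
        _ ≤ _ := Nat.mul_le_mul_left _ hX
    have h4 : 2 * w * w * (q ^ (2 * n) - 1) < q ^ 5 := Nat.lt_of_mul_lt_mul_right (lt_of_lt_of_le h' h3)
    exact arith_even hw hq4 hX h4

end Cfsg.Lib.Linear.MinIndexSp
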