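import Mathlib

/-!
# Counting lemmas for subgroups of small index
-/

set_option autoImplicit false

namespace Cfsg.Lib.Linear.MinIndexSp

open scoped Pointwise

section Orbits

variable {G α : Type*} [Group G]

/-- The image of a point under the elements of a subgroup, for a partially defined action. -/
def img (act : G → α → α) (K : Subgroup G) (x : α) : Set α := {y | ∃ g ∈ K, act g x = y}

/-- An orbit of a group is at most the index times the orbit of the subgroup. -/
theorem card_img_le [Finite G] (act : G → α → α) {J K : Subgroup G} (hJK : J ≤ K)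
    (hact : ∀ g ∈ K, ∀ h ∈ K, ∀ x, act (g * h) x = act g (act h x)) (x : α) :
    Nat.card (img act K x) ≤ J.relIndex K * Nat.card (img act J x) := by
  classical
  haveI : Finite (img act J x) := by
    refine Finite.of_surjective (fun g : J => (⟨act g.1 x, g.1, g.2, rfl⟩ : img act J x)) ?_
    rintro ⟨y, g, hg, rfl⟩
    exact ⟨⟨g, hg⟩, rfl⟩
  rw [Subgroup.relIndex, Subgroup.index_eq_card, ← Nat.card_prod]
  refine Nat.card_le_card_of_surjective
    (fun p : (K ⧸ J.subgroupOf K) × img act J x => (⟨act (p.1.out : K).1 p.2.1, ?_⟩ : img act K x)) ?_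
  · obtain ⟨h, hh, e⟩ := p.2.2
    exact ⟨_, mul_mem p.1.out.2 (hJK hh), by rw [hact _ p.1.out.2 _ (hJK hh), e]⟩
  · rintro ⟨y, g, hg, rfl⟩
    obtain ⟨j, hj⟩ := QuotientGroup.mk_out_eq_mul (J.subgroupOf K) ⟨g, hg⟩
    have hjJ : ((j : K) : G) ∈ J := Subgroup.mem_subgroupOf.1 j.2
    refine ⟨(QuotientGroup.mk ⟨g, hg⟩, ⟨act ((j : K) : G)⁻¹ x, _, inv_mem hjJ, rfl⟩), Subtype.ext ?_⟩
    show act (QuotientGroup.mk (⟨g, hg⟩ : K) : K ⧸ J.subgroupOf K).out.1 (act ((j : K) : G)⁻¹ x) = act g x
    rw [← hact _ (SetLike.coe_mem _) _ (hJK (inv_mem hjJ)), hj, Subgroup.coe_mul, mul_inv_cancel_right]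

/-- A subgroup fixing a point has index at least the orbit. -/
theorem card_img_le_of_fixed [Finite G] (act : G → α → α) {J K : Subgroup G} (hJK : J ≤ K)
    (hact : ∀ g ∈ K, ∀ h ∈ K, ∀ x, act (g * h) x = act g (act h x)) {x : α}
    (hfix : ∀ g ∈ J, act g x = x) : Nat.card (img act K x) ≤ J.relIndex K := by
  refine (card_img_le act hJK hact x).trans (le_of_eq ?_)
  have : img act J x = {x} := Set.eq_singleton_iff_unique_mem.2
    ⟨⟨1, one_mem J, hfix 1 (one_mem J)⟩, fun y ⟨g, hg, e⟩ => e.symm.trans (hfix g hg)⟩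
  rw [this, Nat.card_coe_set_eq, Set.ncard_singleton, mul_one]

/-- The same, the orbit of the subgroup lying in a given set. -/
theorem card_img_le_of_stable [Finite G] (act : G → α → α) {J K : Subgroup G} (hJK : J ≤ K)
    (hact : ∀ g ∈ K, ∀ h ∈ K, ∀ x, act (g * h) x = act g (act h x)) {x : α} {T : Set α} (hT : T.Finite)
    (hx : ∀ g ∈ J, act g x ∈ T) : Nat.card (img act K x) ≤ J.relIndex K * T.ncard := by
  refine (card_img_le act hJK hact x).trans (Nat.mul_le_mul_left _ ?_)
  rw [Nat.card_coe_set_eq]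
  exact Set.ncard_le_ncard (fun y ⟨g, hg, e⟩ => e ▸ hx g hg) hT

end Orbits

/-! ### An additive subgroup of a field and the squares stabilising it -/

section Field

variable {F : Type*} [Field F]

/-- The units whose square stabilises an additive subgroup. -/
def sqStab [Finite F] (R : AddSubgroup F) : Subgroup Fˣ where
  carrier := {ν | ∀ x ∈ R, (ν : F) ^ 2 * x ∈ R}
  one_mem' := fun x hx => by simpa using hx
  mul_mem' := fun {a b} ha hb x hx => by
    rw [Units.val_mul, mul_pow, mul_assoc]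
    exact ha _ (hb x hx)
  inv_mem' := fun {a} ha x hx => by
    haveI : Finite R := inferInstance
    have hs : Function.Surjective (fun y : R => (⟨(a : F) ^ 2 * y.1, ha _ y.2⟩ : R)) :=
      Finite.injective_iff_surjective.1 fun y z h =>
        Subtype.ext (mul_left_cancel₀ (pow_ne_zero 2 a.ne_zero) (congrArg Subtype.val h))
    obtain ⟨y, hy⟩ := hs ⟨x, hx⟩
    have hy' : (a : F) ^ 2 * y.1 = x := congrArg Subtype.val hy
    rw [← hy', Units.val_inv_eq_inv_val, inv_pow, ← mul_assoc, inv_mul_cancel₀ (pow_ne_zero 2 a.ne_zero),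
      one_mul]
    exact y.2

theorem mem_sqStab [Finite F] {R : AddSubgroup F} {ν : Fˣ} :
    ν ∈ sqStab R ↔ ∀ x ∈ R, (ν : F) ^ 2 * x ∈ R := Iff.rfl

theorem neg_one_mem_sqStab [Finite F] (R : AddSubgroup F) : (-1 : Fˣ) ∈ sqStab R := fun x hx => by simpa using hx

/-- The squares stabilising a proper additive subgroup act freely on the cosets outside it. -/
theorem card_sqStab_le [Finite F] (R : AddSubgroup F) (hR : R ≠ ⊤) :
    Nat.card (sqStab R) ≤ Nat.card {x : F // x * x = 1} * (R.index - 1) := by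
  classical
  obtain ⟨x0, hx0⟩ : ∃ x0, x0 ∉ R := by
    by_contra h
    push Not at h
    exact hR ((AddSubgroup.eq_top_iff' R).2 h)
  have hμ : ∀ ν : sqStab R, (ν.1 : F) ^ 2 * x0 ∉ R := fun ν h => by
    have := (sqStab R).inv_mem ν.2 _ h
    rw [← mul_assoc, Units.val_inv_eq_inv_val, inv_pow, inv_mul_cancel₀ (pow_ne_zero 2 ν.1.ne_zero), one_mul] at this
    exact hx0 this
  let f : sqStab R → {c : F ⧸ R // c ≠ 0} := fun ν =>
    ⟨(((ν.1 : F) ^ 2 * x0 : F) : F ⧸ R), fun h => hμ ν ((QuotientAddGroup.eq_zero_iff _).1 h)⟩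
  have hsq : ∀ ν ν' : sqStab R, f ν = f ν' → (ν.1 : F) ^ 2 = (ν'.1 : F) ^ 2 := by
    intro ν ν' h
    by_contra hne
    have h' : -((ν.1 : F) ^ 2 * x0) + (ν'.1 : F) ^ 2 * x0 ∈ R := QuotientAddGroup.eq.1 (congrArg Subtype.val h)
    set μ : F := -(ν.1 : F) ^ 2 + (ν'.1 : F) ^ 2 with hμdef
    have hμ0 : μ ≠ 0 := fun e => hne (by rw [hμdef] at e; linear_combination -e)
    have hst : ∀ x ∈ R, μ * x ∈ R := fun x hx => by
      rw [hμdef, add_mul, neg_mul]
      exact add_mem (neg_mem (ν.2 x hx)) (ν'.2 x hx)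
    have hs : Function.Surjective (fun y : R => (⟨μ * y.1, hst _ y.2⟩ : R)) :=
      Finite.injective_iff_surjective.1 fun y z e => Subtype.ext (mul_left_cancel₀ hμ0 (congrArg Subtype.val e))
    obtain ⟨y, hy⟩ := hs ⟨μ * x0, by rwa [hμdef, add_mul, neg_mul]⟩
    exact hx0 (mul_left_cancel₀ hμ0 (congrArg Subtype.val hy) ▸ y.2)
  haveI : Finite (F ⧸ R) := inferInstance
  have hcard : Nat.card {c : F ⧸ R // c ≠ 0} = R.index - 1 := by
    haveI := Fintype.ofFinite (F ⧸ R)
    rw [AddSubgroup.index, Nat.card_eq_fintype_card, Nat.card_eq_fintype_card, Fintype.card_subtype_compl,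
      Fintype.card_subtype_eq]
  rw [← hcard, mul_comm, ← Nat.card_prod]
  -- an element is determined by its coset and a sign
  let pick : {c : F ⧸ R // c ≠ 0} → sqStab R := Function.invFun f
  have hpick : ∀ ν, f (pick (f ν)) = f ν := fun ν => Function.invFun_eq ⟨ν, rfl⟩
  refine Nat.card_le_card_of_injective
    (fun ν => (f ν, (⟨(ν.1 : F) * ((pick (f ν)).1 : F)⁻¹, ?_⟩ : {x : F // x * x = 1}))) ?_
  · have := hsq _ _ (hpick ν)
    have hne := (pick (f ν)).1.ne_zero
    field_simp
    linear_combination -this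
  · intro ν ν' h
    simp only [Prod.mk.injEq, Subtype.mk.injEq] at h
    rw [h.1] at h
    exact Subtype.ext (Units.ext (mul_right_cancel₀ (inv_ne_zero (pick (f ν')).1.ne_zero) h.2))

theorem sign_card_eq_one [Finite F] (h : (2 : F) = 0) : Nat.card {x : F // x * x = 1} = 1 := by
  rw [Nat.card_eq_one_iff_unique]
  refine ⟨⟨fun a b => Subtype.ext ?_⟩, ⟨⟨1, one_mul 1⟩⟩⟩
  have : ∀ c : {x : F // x * x = 1}, c.1 = 1 := fun c => by
    have h1 : (c.1 - 1) * (c.1 - 1) = 0 := by linear_combination c.2 + (1 - c.1) * h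
    exact sub_eq_zero.1 (mul_self_eq_zero.1 h1)
  rw [this a, this b]

theorem sign_card_le_two [Finite F] : Nat.card {x : F // x * x = 1} ≤ 2 := by
  classical
  haveI := Fintype.ofFinite F
  rw [Nat.card_eq_fintype_card, Fintype.card_subtype]
  refine (Finset.card_le_card (t := {1, -1}) fun x hx => ?_).trans Finset.card_le_two
  rw [Finset.mem_filter] at hx
  rcases mul_self_eq_one_iff.1 hx.2 with h | h <;> simp [h]

/-- The arithmetical inequality behind the stabiliser bounds. -/
theorem two_mul_index_gt [Fintype F] (R : AddSubgroup F) (hR : R ≠ ⊤) (hq : 3 ≤ Fintype.card F) :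
    Fintype.card F + 1 < 2 * ((sqStab R).index * R.index) := by
  classical
  set q := Fintype.card F with hqdef
  set f := (sqStab R).index
  set r := R.index
  set e := Nat.card (sqStab R)
  have he : e * f = q - 1 := by
    rw [Subgroup.card_mul_index, Nat.card_eq_fintype_card, Fintype.card_units]
  have hr : 2 ≤ r := by
    have h0 : r ≠ 0 := AddSubgroup.index_ne_zero_of_finite
    have h1 : r ≠ 1 := fun h => hR (AddSubgroup.index_eq_one.1 h)
    omega
  have hle := card_sqStab_le R hR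
  obtain ⟨s, hs⟩ : ∃ s, r = s + 1 := ⟨r - 1, by omega⟩
  rw [show R.index - 1 = s by rw [← show r = R.index from rfl]; omega] at hle
  obtain ⟨w, hw⟩ : ∃ w, q = w + 1 := ⟨q - 1, by omega⟩
  rw [show q - 1 = w by omega] at he
  rw [hs]
  by_cases h2 : (2 : F) = 0
  · rw [sign_card_eq_one h2, one_mul] at hle
    have h3 : w ≤ s * f := he ▸ Nat.mul_le_mul_right f hle
    have hf : 0 < f := Nat.pos_of_ne_zero Subgroup.index_ne_zero_of_finite
    nlinarith
  · have h3 : w ≤ 2 * (s * f) := by
      rw [← mul_assoc, ← he]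
      exact Nat.mul_le_mul_right f (hle.trans (Nat.mul_le_mul_right s sign_card_le_two))
    have hf : 0 < f := Nat.pos_of_ne_zero Subgroup.index_ne_zero_of_finite
    -- the characteristic divides the index
    obtain ⟨p, hp⟩ := CharP.exists F
    obtain ⟨hpp, ⟨k, hk⟩⟩ : p.Prime ∧ ∃ k : ℕ, q = p ^ k := by
      obtain ⟨k, hpp, hk⟩ := FiniteField.card F p
      exact ⟨hpp, k, hk⟩
    obtain ⟨i, -, hi⟩ : ∃ i ≤ k, r = p ^ i := by
      refine (Nat.dvd_prime_pow hpp).1 ?_
      rw [← hk, hqdef, ← Nat.card_eq_fintype_card]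
      exact R.index_dvd_card
    have hdr : p ∣ f * r := by
      rw [hi]
      exact Dvd.dvd.mul_left (dvd_pow_self p (fun h => by rw [h, pow_zero] at hi; omega)) _
    have hdq : p ∣ q := by
      rw [hk]
      exact dvd_pow_self p (fun h => by rw [h, pow_zero] at hk; omega)
    by_contra hcon
    have h4 : 2 * (f * (s + 1)) = q + 1 := by
      have h5 : 2 ∣ w := by
        have hodd : Odd q := Nat.odd_iff.2 (FiniteField.odd_card_of_char_ne_two (fun h => h2 (by
          haveI := ringChar.of_eq h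
          exact CharTwo.two_eq_zero)))
        obtain ⟨t, ht⟩ := hodd
        exact ⟨t, by omega⟩
      have h6 : w < 2 * (f * (s + 1)) := by nlinarith
      omega
    rw [← hs] at h4
    have := (Nat.dvd_add_right hdq).1 (h4 ▸ hdr.mul_left 2 : p ∣ q + 1)
    exact hpp.one_lt.ne' (Nat.dvd_one.1 this)

end Field

end Cfsg.Lib.Linear.MinIndexSp
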