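import Cfsg.Agent.Lib.Linear.MinIndexSp.Spread

/-!
# The intersection with a radical lying over a trivial group or over a line
-/

set_option autoImplicit false
set_option linter.unusedSectionVars false

namespace Cfsg.Lib.Linear.MinIndexSp

open Module
open Cfsg.Lib.Linear.Symp
open scoped commutatorElement

variable {F V : Type*} [Field F] [AddCommGroup V] [Module F V] [FiniteDimensional F V]
  {B : LinearMap.BilinForm F V} {n : ℕ} {v v' : V} (D : Frame B n v v')

/-- The hypotheses on a subgroup of too small an index at a point whose root group it does not contain. -/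
structure Small [Fintype F] (H : Subgroup (iso B)) : Prop where
  proper : H ≠ ⊤
  bound : H.index * (Fintype.card F - 1) + 1 < Fintype.card F ^ (2 * (n + 1))
  bad : D.rsub H ≠ ⊤
  hq : 3 ≤ Fintype.card F
  hn : 1 ≤ n
  hexc : 2 ≤ n ∨ 4 ≤ Fintype.card F

theorem finite_iso [Finite V] : Finite (iso B) :=
  Finite.of_injective (fun g => (⇑(g.1) : _ → _)) fun g k h => Subtype.ext (LinearEquiv.ext (congrFun h))

include D

theorem Frame.not_good_of_bad {H : Subgroup (iso B)} (h : D.rsub H ≠ ⊤) : ¬ Good D.alt H v := fun hg =>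
  h ((AddSubgroup.eq_top_iff' _).2 fun c => by
    rw [D.mem_rsub, D.el_zero]
    exact hg c)

/-- The elements of the Levi complement whose factor stabilises the central part. -/
def Frame.stabR [Finite F] (H : Subgroup (iso B)) : Subgroup (iso B) :=
  ((sqStab (D.rsub H)).comap D.nuHom).map D.lev.subtype

theorem Frame.mem_stabR [Finite F] {H : Subgroup (iso B)} {g : iso B} :
    g ∈ D.stabR H ↔ g ∈ D.lev ∧ ∀ x ∈ D.rsub H, D.nu g ^ 2 * x ∈ D.rsub H := by
  constructor
  · rintro ⟨⟨g, hg⟩, hx, rfl⟩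
    exact ⟨hg, hx⟩
  · rintro ⟨hg, hx⟩
    exact ⟨⟨g, hg⟩, hx, rfl⟩

theorem Frame.stabR_le [Finite F] (H : Subgroup (iso B)) : D.stabR H ≤ D.lev := fun _ h => (D.mem_stabR.1 h).1

theorem Frame.levi_le_stabR [Finite F] (H : Subgroup (iso B)) : D.levi H ≤ D.stabR H := fun _ hg =>
  D.mem_stabR.2 ⟨hg.1, fun _ hx => D.levi_rsub hg hx⟩

theorem Frame.stabR_index [Finite F] (H : Subgroup (iso B)) :
    (D.stabR H).relIndex D.lev = (sqStab (D.rsub H)).index := by
  rw [Subgroup.relIndex, Frame.stabR, Subgroup.subgroupOf,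
    Subgroup.comap_map_eq_self_of_injective D.lev.subtype_injective,
    Subgroup.index_comap_of_surjective _ D.nuHom_surjective]

theorem Frame.fx_le_stabR [Finite F] (H : Subgroup (iso B)) : Fx B (plane F v v') ≤ D.stabR H := fun g hg =>
  D.mem_stabR.2 ⟨D.fx_le_lev hg, fun x hx => by rwa [D.nu_fx hg, one_pow, one_mul]⟩

theorem Frame.tor_mem_stabR [Finite F] {H : Subgroup (iso B)} {ν : Fˣ} (h : ν ∈ sqStab (D.rsub H)) :
    D.tor ν ∈ D.stabR H :=
  D.mem_stabR.2 ⟨D.tor_mem ν, fun x hx => by rw [D.nu_tor]; exact h x hx⟩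

theorem Frame.levi_index [Finite F] [Finite V] (H : Subgroup (iso B)) :
    (D.levi H).relIndex (D.stabR H) * (sqStab (D.rsub H)).index = (D.levi H).relIndex D.lev := by
  rw [← D.stabR_index]
  exact Subgroup.relIndex_mul_relIndex _ _ _ (D.levi_le_stabR H) (D.stabR_le H)

/-- The basic inequality. -/
theorem Frame.basic [Finite F] [Finite V] (H : Subgroup (iso B)) :
    (D.levi H).relIndex D.lev * (Nat.card D.W * (D.rsub H).index) ≤ H.index * Nat.card (D.sbar H) := by
  haveI := finite_iso (B := B)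
  rw [← D.rad_relIndex, ← mul_assoc]
  exact Nat.mul_le_mul_right _ (D.index_bound H)

/-- A torus element other than the identity stabilising the central part. -/
theorem Frame.exists_torus [Fintype F] {H : Subgroup (iso B)} (hR : D.rsub H ≠ ⊤) (hq : 3 ≤ Fintype.card F)
    (h : (sqStab (D.rsub H)).index * (D.rsub H).index ≤ Fintype.card F + 1) :
    ∃ ν ∈ sqStab (D.rsub H), ν ≠ 1 := by
  by_cases hneg : (-1 : Fˣ) = 1
  swap
  · exact ⟨-1, neg_one_mem_sqStab _, hneg⟩
  have h2 : (2 : F) = 0 := by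
    have := congrArg Units.val hneg
    rw [Units.val_neg, Units.val_one] at this
    linear_combination -this
  by_contra hc
  push Not at hc
  have hbot : sqStab (D.rsub H) = ⊥ := (Subgroup.eq_bot_iff_forall _).2 hc
  have he : (sqStab (D.rsub H)).index = Fintype.card F - 1 := by
    classical
    rw [hbot, Subgroup.index_bot, Nat.card_eq_fintype_card, Fintype.card_units]
  have hr : 2 ≤ (D.rsub H).index := by
    have h0 : (D.rsub H).index ≠ 0 := AddSubgroup.index_ne_zero_of_finite
    have h1 : (D.rsub H).index ≠ 1 := fun h => hR (AddSubgroup.index_eq_one.1 h)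
    omega
  rw [he] at h
  have h3 := Nat.mul_le_mul_left (Fintype.card F - 1) hr
  have h4 : Fintype.card F = 3 := by omega
  haveI : CharP F 2 := CharTwo.of_one_ne_zero_of_two_eq_zero one_ne_zero h2
  obtain ⟨k, -, hk⟩ := FiniteField.card F 2
  rw [h4] at hk
  have : 2 ∣ 3 := hk ▸ dvd_pow_self 2 k.ne_zero
  omega

/-- A trivial image in the quotient of the radical. -/
theorem Frame.zero_false [Fintype F] [Finite V] {H : Subgroup (iso B)} (S : Small D H)
    (h0 : Nat.card (D.sbar H) = 1) : False := by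
  haveI := finite_iso (B := B)
  have hb := D.basic H
  rw [h0, mul_one, D.card_W, Nat.card_eq_fintype_card, ← D.levi_index] at hb
  have hR := S.bad
  have h2 := two_mul_index_gt (D.rsub H) hR S.hq
  have hbound := S.bound
  set q := Fintype.card F with hq
  set j := (D.levi H).relIndex (D.stabR H)
  set f := (sqStab (D.rsub H)).index
  set r := (D.rsub H).index
  have hj0 : 0 < j :=
    Nat.pos_of_ne_zero (show ((D.levi H).subgroupOf (D.stabR H)).index ≠ 0 from Subgroup.index_ne_zero_of_finite)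
  have hjfr : j * (f * r) ≤ q + 1 := by
    rw [show 2 * (n + 1) = 2 * n + 2 by ring, pow_add] at hbound
    have hX : 0 < q ^ (2 * n) := pow_pos (lt_of_lt_of_le (by norm_num) S.hq : 0 < q) _
    have hq0 : 3 ≤ q := S.hq
    have h1 : j * (f * r) * (q - 1) * q ^ (2 * n) < q ^ 2 * q ^ (2 * n) := by
      calc j * (f * r) * (q - 1) * q ^ (2 * n) = j * f * (q ^ (2 * n) * r) * (q - 1) := by ring
        _ ≤ H.index * (q - 1) := Nat.mul_le_mul_right _ hb
        _ < _ := by rw [mul_comm (q ^ 2)]; omega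
    have h1' := Nat.lt_of_mul_lt_mul_right h1
    have h3q := S.hq
    rw [← hq] at h3q
    obtain ⟨w, hw⟩ : ∃ w, q = w + 2 := ⟨q - 2, by omega⟩
    rw [hw, show w + 2 - 1 = w + 1 by omega] at h1'
    by_contra hc
    have : (q + 2) * (w + 1) ≤ j * (f * r) * (w + 1) := Nat.mul_le_mul_right _ (by omega)
    rw [hw] at this
    nlinarith
  have hj1 : j = 1 := by
    by_contra hj
    have : 2 * (f * r) ≤ j * (f * r) := Nat.mul_le_mul_right _ (by omega)
    omega
  have hle : D.stabR H ≤ D.levi H := Subgroup.relIndex_eq_one.1 hj1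
  rw [hj1, one_mul] at hjfr
  obtain ⟨ν, hν, hν1⟩ := D.exists_torus hR S.hq hjfr
  obtain ⟨q0, hq0, htor⟩ := D.exists_tor_mem hν1 (hle (D.tor_mem_stabR hν))
  have hfx : Fx B (plane F v v') ≤ conjBy q0 H :=
    (D.fx_perfect S.hq S.hexc).trans (D.comm_le hν1 htor le_rfl
      (((D.fx_le_stabR H).trans hle).trans (D.levi_le_conjBy hq0 H)))
  refine D.spread_false S.hq S.hn (irred_of_small D.nondeg D.alt ?_) (D.not_good_of_bad ?_)
    (fun w hw c => hfx (D.tv_mem_fx hw c))
  · rw [index_conjBy, D.dim]; exact S.bound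
  · rw [D.rsub_conjBy hq0]; exact hR

/-- In dimension four an image lying on a line. -/
theorem Frame.line_false [Fintype F] [Finite V] {H : Subgroup (iso B)} (S : Small D H) (hn : n = 1)
    {w : V} (hw : w ∈ D.W) (hw0 : w ≠ 0) (hsb : ∀ a ∈ D.sbar H, a ∈ Submodule.span F {w})
    (hne : ∃ a ∈ D.sbar H, a ≠ 0) : False := by
  classical
  subst hn
  haveI := finite_iso (B := B)
  haveI : Finite (Submodule F V) := Finite.of_injective (fun S : Submodule F V => (S : Set V)) SetLike.coe_injective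
  have hq4 : 4 ≤ Fintype.card F := S.hexc.resolve_left (by omega)
  have hR := S.bad
  have hbound := S.bound
  set ℓ := Submodule.span F {w} with hℓ
  -- the stabiliser of the line
  let P : Subgroup (iso B) :=
    { carrier := {g | g ∈ D.stabR H ∧ mv g ℓ = ℓ}
      one_mem' := ⟨one_mem _, mv_one ℓ⟩
      mul_mem' := fun {g k} hg hk => ⟨mul_mem hg.1 hk.1, by rw [mv_mul, hk.2, hg.2]⟩
      inv_mem' := fun {g} hg => ⟨inv_mem hg.1, by
        conv_lhs => rw [← hg.2, ← mv_mul, inv_mul_cancel, mv_one]⟩ }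
  have hPle : P ≤ D.stabR H := fun g hg => hg.1
  have hJP : D.levi H ≤ P := by
    intro g hg
    refine ⟨D.levi_le_stabR H hg, ?_⟩
    obtain ⟨a, ha, ha0⟩ := hne
    obtain ⟨s, hs⟩ := Submodule.mem_span_singleton.1 (hsb a ha)
    obtain ⟨t, ht⟩ := Submodule.mem_span_singleton.1 (hsb _ (D.levi_sbar hg ha))
    have hs0 : s ≠ 0 := fun e => ha0 (by rw [← hs, e, zero_smul])
    have hgw : g.1 w ∈ ℓ := by
      refine Submodule.mem_span_singleton.2 ⟨t / (D.nu g * s), ?_⟩
      rw [← hs, map_smul, smul_smul] at ht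
      rw [div_eq_mul_inv, mul_comm, ← smul_smul, ht, smul_smul,
        inv_mul_cancel₀ (mul_ne_zero (D.nu_ne hg.1) hs0), one_smul]
    refine Submodule.eq_of_le_of_finrank_eq ?_ (LinearEquiv.finrank_map_eq g.1 ℓ)
    rw [hℓ, mv, Submodule.map_span, Set.image_singleton, Submodule.span_singleton_le_iff_mem]
    exact hgw
  have hPidx : Fintype.card F + 1 ≤ P.relIndex (D.stabR H) := by
    have h1 : Nat.card (img mv (Fx B (plane F v v')) ℓ) ≤ Nat.card (img mv (D.stabR H) ℓ) := by
      rw [Nat.card_coe_set_eq, Nat.card_coe_set_eq]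
      exact Set.ncard_le_ncard (fun U ⟨g, hg, e⟩ => ⟨g, D.fx_le_stabR H hg, e⟩) (Set.toFinite _)
    have h2 : Nat.card (img mv (D.stabR H) ℓ) ≤ P.relIndex (D.stabR H) :=
      card_img_le_of_fixed mv hPle (fun g _ k _ U => mv_mul g k U) fun g hg => hg.2
    have h3 := card_orbit_ge D.nondeg D.alt D.hX (U := ℓ) ((Submodule.span_singleton_le_iff_mem _ _).2 hw)
      (by rw [hℓ, Ne, Submodule.span_singleton_eq_bot]; exact hw0)
      (fun e => by
        have := D.finrank_W
        rw [Frame.W, ← e, hℓ, finrank_span_singleton hw0] at this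
        omega)
    rw [D.card_W, Nat.card_eq_fintype_card] at h3
    have h4 := h3.trans (Nat.mul_le_mul_right _ (h1.trans h2))
    by_contra hc
    have h5 : P.relIndex (D.stabR H) * (Fintype.card F - 1) ≤ Fintype.card F * (Fintype.card F - 1) :=
      Nat.mul_le_mul_right _ (by omega)
    simp only [Nat.mul_sub_one, show (2 : ℕ) * 1 = 2 from rfl, sq] at h4 h5
    have h7 := S.hq
    have h6 : Fintype.card F ≤ Fintype.card F * Fintype.card F := Nat.le_mul_self _
    omega
  have hs1 : Nat.card (D.sbar H) ∣ Fintype.card F := by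
    rw [show Fintype.card F = Nat.card ℓ by
      rw [hℓ, Module.natCard_eq_pow_finrank (K := F), finrank_span_singleton hw0, pow_one, Nat.card_eq_fintype_card]]
    have hle : D.sbar H ≤ ℓ.toAddSubgroup := fun a ha => hsb a ha
    rw [← Nat.card_congr (AddSubgroup.addSubgroupOfEquivOfLe hle).toEquiv]
    exact AddSubgroup.card_addSubgroup_dvd_card _
  have hb := D.basic H
  rw [D.card_W, Nat.card_eq_fintype_card, ← D.levi_index,
    ← Subgroup.relIndex_mul_relIndex _ _ _ hJP hPle] at hb
  have h2 := two_mul_index_gt (D.rsub H) hR S.hq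
  set q := Fintype.card F with hq
  set j := (D.levi H).relIndex P
  set k := P.relIndex (D.stabR H)
  set f := (sqStab (D.rsub H)).index
  set r := (D.rsub H).index
  set s := Nat.card (D.sbar H)
  have hj0 : 0 < j :=
    Nat.pos_of_ne_zero (show ((D.levi H).subgroupOf P).index ≠ 0 from Subgroup.index_ne_zero_of_finite)
  have hN : H.index < (q + 1) * (q ^ 2 + 1) := by
    obtain ⟨u, hu⟩ : ∃ u, q = u + 1 := ⟨q - 1, by omega⟩
    rw [show 2 * (1 + 1) = 4 from rfl, hu, Nat.add_sub_cancel] at hbound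
    by_contra hc
    have h5 := Nat.mul_le_mul_right u (Nat.le_of_not_lt hc)
    rw [hu] at h5
    nlinarith
  have hmain : j * (f * r) * q ^ 2 < (q ^ 2 + 1) * s := by
    have hs0 : 0 < s := Nat.card_pos
    refine Nat.lt_of_mul_lt_mul_left (a := q + 1) ?_
    calc (q + 1) * (j * (f * r) * q ^ 2) ≤ k * (j * (f * r) * q ^ 2) := Nat.mul_le_mul_right _ hPidx
      _ = j * k * f * (q ^ (2 * 1) * r) := by ring
      _ ≤ H.index * s := hb
      _ < (q + 1) * (q ^ 2 + 1) * s := (Nat.mul_lt_mul_right hs0).2 hN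
      _ = _ := by ring
  obtain ⟨c, hc⟩ := hs1
  have hc0 : 0 < c := by
    rcases Nat.eq_zero_or_pos c with h | h
    · rw [h, mul_zero] at hc; omega
    · exact h
  have hc1 : c = 1 := by
    by_contra hne1
    have hcs : 2 * s ≤ q := by rw [hc, mul_comm]; exact Nat.mul_le_mul_left s (by omega)
    have : (q + 2) * q ^ 2 ≤ 2 * (j * (f * r)) * q ^ 2 := Nat.mul_le_mul_right _ (by
      have : f * r ≤ j * (f * r) := Nat.le_mul_of_pos_left _ hj0
      omega)
    nlinarith [Nat.mul_le_mul_left (q ^ 2 + 1) hcs]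
  rw [hc1, mul_one] at hc
  rw [← hc] at hmain
  have hjfr : j * (f * r) ≤ q := by
    by_contra h
    have : (q + 1) * q ^ 2 ≤ j * (f * r) * q ^ 2 := Nat.mul_le_mul_right _ (by omega)
    nlinarith
  have hj1 : j = 1 := by
    by_contra hj
    have : 2 * (f * r) ≤ j * (f * r) := Nat.mul_le_mul_right _ (by omega)
    omega
  have hle : P ≤ D.levi H := Subgroup.relIndex_eq_one.1 hj1
  rw [hj1, one_mul] at hjfr
  obtain ⟨ν, hν, hν1⟩ := D.exists_torus hR S.hq (hjfr.trans (Nat.le_succ _))
  have htP : D.tor ν ∈ P := ⟨D.tor_mem_stabR hν, by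
    rw [hℓ, mv, Submodule.map_span, Set.image_singleton]
    show Submodule.span F {(D.tor ν).1 w} = _
    rw [D.tor_W ν hw]⟩
  obtain ⟨q0, hq0, htor⟩ := D.exists_tor_mem hν1 (hle htP)
  have hcomm := D.comm_le (H := conjBy q0 H) hν1 htor (K := Fx B (plane F v v') ⊓ P) inf_le_left
    ((inf_le_right.trans hle).trans (D.levi_le_conjBy hq0 H))
  have hgood : Good D.alt (conjBy q0 H) w := by
    intro c
    obtain ⟨κ, hκ0, hκ1⟩ : ∃ κ : F, κ ≠ 0 ∧ κ ^ 2 ≠ 1 := by
      by_contra hc'
      push Not at hc'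
      have : (Finset.univ : Finset F) ⊆ {0, 1, -1} := fun x _ => by
        simp only [Finset.mem_insert, Finset.mem_singleton]
        rcases eq_or_ne x 0 with h | h
        · exact Or.inl h
        · exact Or.inr (sq_eq_one_iff.1 (hc' x h))
      have h5 := (Finset.card_le_card this).trans Finset.card_le_three
      rw [Finset.card_univ] at h5
      omega
    obtain ⟨g, hg, hgw, e⟩ := D.tv_eq_comm hw hw0 hκ0 hκ1 c
    rw [e]
    refine hcomm (Subgroup.commutator_mem_commutator ⟨hg, D.fx_le_stabR H hg, ?_⟩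
      ⟨D.tv_mem_fx hw _, D.fx_le_stabR H (D.tv_mem_fx hw _), ?_⟩)
    · rw [hℓ, mv, Submodule.map_span, Set.image_singleton]
      show Submodule.span F {g.1 w} = _
      rw [hgw, Submodule.span_singleton_smul_eq (IsUnit.mk0 _ hκ0)]
    · rw [hℓ, mv, Submodule.map_span, Set.image_singleton]
      show Submodule.span F {tv D.alt w _ w} = _
      rw [tv_apply, D.self, mul_zero, zero_smul, add_zero]
  refine good_false D.nondeg D.alt D.dim S.hq ?_ ?_ hgood hw0
  · rw [index_conjBy]; exact S.bound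
  · intro e
    apply S.proper
    rw [← Subgroup.index_eq_one, ← index_conjBy q0 H, e, Subgroup.index_top]

end Cfsg.Lib.Linear.MinIndexSp
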