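import Cfsg.Agent.Lib.Linear.MinIndexSp.Quad
import Cfsg.Agent.Lib.Linear.MinIndexSp.SmallSbar

/-!
# Even characteristic, a large image in the quotient of the radical

The characters of the radical trivial on the intersection with the subgroup form a small group stable under the
lifts; the orbit of a pair of a character trivial on the centre and one that is not is large.
-/

set_option autoImplicit false
set_option linter.unusedSectionVars false

namespace Cfsg.Lib.Linear.MinIndexSp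

open Module
open Cfsg.Lib.Linear.Symp

/-- The annihilator of a subgroup under a perfect parametrisation of the characters. -/
theorem card_annihilator {P A : Type*} [Finite P] [AddCommGroup A] [Finite A] (Ψ : P → AddChar A ℂ)
    (hinj : Function.Injective Ψ) (hcard : Nat.card P = Nat.card A) (G : AddSubgroup A) :
    Nat.card {p : P // ∀ g ∈ G, Ψ p g = 1} = G.index := by
  classical
  haveI := Fintype.ofFinite A
  haveI : Finite (A ⧸ G) := Finite.of_surjective _ QuotientAddGroup.mk_surjective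
  haveI := Fintype.ofFinite (A ⧸ G)
  have hbij : Function.Bijective Ψ :=
    (Nat.bijective_iff_injective_and_card _).2 ⟨hinj, by
      rw [hcard, Nat.card_eq_fintype_card, Nat.card_eq_fintype_card, AddChar.card_eq]⟩
  have key : ∀ ψ : AddChar (A ⧸ G) ℂ, ∀ g ∈ G, ψ.compAddMonoidHom (QuotientAddGroup.mk' G) g = 1 := by
    intro ψ g hg
    rw [AddChar.compAddMonoidHom_apply, QuotientAddGroup.mk'_apply, (QuotientAddGroup.eq_zero_iff g).2 hg,
      AddChar.map_zero_eq_one]
  rw [AddSubgroup.index, Nat.card_eq_fintype_card (α := A ⧸ G), ← AddChar.card_eq, ← Nat.card_eq_fintype_card]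
  refine (Nat.card_congr (Equiv.ofBijective (fun ψ : AddChar (A ⧸ G) ℂ =>
    (⟨(Equiv.ofBijective Ψ hbij).symm (ψ.compAddMonoidHom (QuotientAddGroup.mk' G)), fun g hg => by
      rw [Equiv.ofBijective_apply_symm_apply Ψ hbij]
      exact key ψ g hg⟩ : {p : P // ∀ g ∈ G, Ψ p g = 1})) ⟨?_, ?_⟩)).symm
  · intro ψ ψ' h
    have h1 : ψ.compAddMonoidHom (QuotientAddGroup.mk' G) = ψ'.compAddMonoidHom (QuotientAddGroup.mk' G) :=
      (Equiv.ofBijective Ψ hbij).symm.injective (congrArg Subtype.val h)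
    refine DFunLike.ext _ _ fun x => ?_
    obtain ⟨a, rfl⟩ := QuotientAddGroup.mk_surjective x
    exact DFunLike.congr_fun h1 a
  · rintro ⟨p, hp⟩
    have hwd : ∀ a b : A, -a + b ∈ G → Ψ p a = Ψ p b := fun a b h => by
      have h1 := hp _ h
      calc Ψ p a = Ψ p a * Ψ p (-a + b) := by rw [h1, mul_one]
        _ = Ψ p (a + (-a + b)) := ((Ψ p).map_add_eq_mul _ _).symm
        _ = Ψ p b := by rw [add_neg_cancel_left]
    let ψ : AddChar (A ⧸ G) ℂ :=
      { toFun := fun x => Quotient.liftOn' x (fun a => Ψ p a) fun a b h => hwd a b (QuotientAddGroup.leftRel_apply.1 h)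
        map_zero_eq_one' := (Ψ p).map_zero_eq_one
        map_add_eq_mul' := fun x y => by
          obtain ⟨a, rfl⟩ := QuotientAddGroup.mk_surjective x
          obtain ⟨b, rfl⟩ := QuotientAddGroup.mk_surjective y
          exact (Ψ p).map_add_eq_mul a b }
    refine ⟨ψ, Subtype.ext ?_⟩
    show (Equiv.ofBijective Ψ hbij).symm _ = p
    rw [Equiv.symm_apply_eq]
    exact DFunLike.ext _ _ fun a => rfl

theorem arith_fourier_four {w t N : ℕ} (hw : 2 ≤ w) (ht : (w + 2) ^ 2 = t + 1)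
    (h : t * ((w + 1) * (w + 1) * (w + 2)) ≤ N * (w + 1) * w) (hN : N * (w + 1) + 1 < (t + 1) * (t + 1)) :
    False := by
  have h7 : N * (w + 1) * w ≤ t * (t + 2) * w := Nat.mul_le_mul_right _ (by nlinarith)
  have h8 : t * ((w + 1) * (w + 1) * (w + 2)) ≤ t * ((t + 2) * w) := by
    rw [← mul_assoc t (t + 2)]; exact h.trans h7
  have ht0 : 0 < t := by
    by_contra h0
    obtain rfl : t = 0 := by omega
    nlinarith
  have h9 := Nat.le_of_mul_le_mul_left h8 ht0
  obtain rfl : t = w * w + 4 * w + 3 := by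
    have : (w + 2) ^ 2 = w * w + 4 * w + 4 := by ring
    omega
  nlinarith

theorem arith_fourier_big {w t N : ℕ} (hw : 2 ≤ w) (ht : 15 ≤ t) (h : t * w * (w + 2) * (w + 1) ≤ N * (w + 1))
    (hN : N * (w + 1) + 1 < (w + 2) ^ 2 * (t + 1)) : False := by
  have h1 : t * 2 * (w + 2) * (w + 1) ≤ t * w * (w + 2) * (w + 1) :=
    Nat.mul_le_mul_right _ (Nat.mul_le_mul_right _ (Nat.mul_le_mul_left _ hw))
  have h2 : t * 2 * (w + 1) < (w + 2) * (t + 1) := by
    refine Nat.lt_of_mul_lt_mul_left (a := w + 2) ?_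
    calc (w + 2) * (t * 2 * (w + 1)) = t * 2 * (w + 2) * (w + 1) := by ring
      _ < (w + 2) ^ 2 * (t + 1) := by omega
      _ = _ := by ring
  nlinarith

variable {F V : Type*} [Field F] [AddCommGroup V] [Module F V] [FiniteDimensional F V] [Finite V] [Fintype F]
  [CharP F 2] {B : LinearMap.BilinForm F V} {n : ℕ} {v v' : V} (D : Frame B n v v')

include D

theorem Frame.symm_even (x y : V) : B x y = B y x := by rw [D.swap y x, CharTwo.neg_eq]

/-- A quadratic function differs from another on the orthogonal space by a square. -/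
theorem Frame.exists_shift {Q0 R : V → F} (h0 : Polar B Q0)
    (hadd : ∀ a ∈ D.W, ∀ b ∈ D.W, R (a + b) = R a + R b + B a b)
    (hsmul : ∀ c : F, ∀ a ∈ D.W, R (c • a) = c ^ 2 * R a) :
    ∃ w ∈ D.W, ∀ a ∈ D.W, R a = Q0 a + B a w ^ 2 := by
  haveI : ExpChar F 2 := ExpChar.prime Nat.prime_two
  let f : D.W →ₗ[F] F :=
    { toFun := fun a => (frobeniusEquiv F 2).symm (R a + Q0 a)
      map_add' := fun a b => by
        rw [← map_add]
        congr 1
        rw [Submodule.coe_add, hadd _ a.2 _ b.2, h0.add]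
        linear_combination B (a : V) (b : V) * CharTwo.two_eq_zero (R := F)
      map_smul' := fun c a => by
        refine (frobeniusEquiv F 2).injective ?_
        rw [RingHom.id_apply, smul_eq_mul, map_mul, RingEquiv.apply_symm_apply, RingEquiv.apply_symm_apply,
          frobeniusEquiv_apply, frobenius_def, Submodule.coe_smul, hsmul c _ a.2, h0.smul]
        ring }
  obtain ⟨w, hw, hwf⟩ := exists_rep D.nondeg D.hX le_rfl f
  refine ⟨w, hw, fun a ha => ?_⟩
  rw [hwf ⟨a, ha⟩]
  show R a = Q0 a + ((frobeniusEquiv F 2).symm (R a + Q0 a)) ^ 2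
  rw [← frobenius_def, ← frobeniusEquiv_apply, RingEquiv.apply_symm_apply]
  linear_combination -Q0 a * CharTwo.two_eq_zero (R := F)

theorem Frame.levi_el_even {H : Subgroup (iso B)} {g : iso B} (hg : g ∈ D.levi H) {a : V} (ha : a ∈ D.W)
    {c : F} (hc : D.el a c ∈ H) : D.el (D.nu g • g.1 a) (D.nu g ^ 2 * c) ∈ H := by
  obtain ⟨b, hb, e, hbH⟩ := D.exists_lift hg
  have hga := Submodule.smul_mem D.W (D.nu g) (D.lev_mem_W hg.1 ha)
  have h := mul_mem (mul_mem hbH hc) (inv_mem hbH)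
  have hcomm := D.el_comm (D.W_v hb) (D.W_v hga) e (D.nu g ^ 2 * c)
  rw [CharTwo.two_eq_zero (R := F), zero_mul, D.el_zero_zero, one_mul] at hcomm
  rwa [show D.el b e * g * D.el a c * (D.el b e * g)⁻¹ = D.el b e * (g * D.el a c * g⁻¹) * (D.el b e)⁻¹ by group,
    D.el_conj hg.1 ha, hcomm, mul_inv_cancel_right] at h

omit D in
theorem arith_fourier {q X n N d k r : ℕ} (hq : 4 ≤ q) (hn : 1 ≤ n) (hX : X = q ^ (2 * n)) (hd : 1 < d) (hr : 2 ≤ r)
    (hdX : 2 * d * q ^ (if n = 1 then 1 else 2) ≤ X)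
    (hk : (X - 1) * (2 * (q - 1) + (q ^ (2 * n - 1) - 1) * (q - 2)) ≤ 2 * (k * ((d - 1) * (d * r - d))))
    (hb : k * (d * r) ≤ N) (hN : N * (q - 1) + 1 < q ^ (2 * (n + 1))) : False := by
  have h1 : k * ((d - 1) * (d * r - d)) ≤ N * (d - 1) :=
    calc k * ((d - 1) * (d * r - d)) ≤ k * ((d - 1) * (d * r)) :=
          Nat.mul_le_mul_left _ (Nat.mul_le_mul_left _ (Nat.sub_le _ _))
      _ = k * (d * r) * (d - 1) := by ring
      _ ≤ _ := Nat.mul_le_mul_right _ hb
  have h2 := hk.trans (Nat.mul_le_mul_left 2 h1)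
  obtain ⟨w, rfl⟩ : ∃ w, q = w + 2 := ⟨q - 2, by omega⟩
  obtain ⟨e, rfl⟩ : ∃ e, d = e + 1 := ⟨d - 1, by omega⟩
  rw [show w + 2 - 1 = w + 1 by omega, Nat.add_sub_cancel, Nat.add_sub_cancel] at h2
  rw [show w + 2 - 1 = w + 1 by omega] at hN
  rcases (show n = 1 ∨ 2 ≤ n by omega) with rfl | hn2
  · rw [if_pos rfl, pow_one, hX, show 2 * 1 = 2 from rfl] at hdX
    rw [hX, show 2 * 1 - 1 = 1 from rfl, pow_one, show 2 * 1 = 2 from rfl, show w + 2 - 1 = w + 1 by omega,
      show 2 * (w + 1) + (w + 1) * w = (w + 1) * (w + 2) by ring] at h2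
    rw [show 2 * (1 + 1) = 4 from rfl] at hN
    have h3 : 2 * (e + 1) ≤ w + 2 := Nat.le_of_mul_le_mul_right (by rw [← sq]; exact hdX) (by omega : 0 < w + 2)
    have h4 : N * (2 * e) ≤ N * w := Nat.mul_le_mul_left _ (by omega)
    have h5 : ((w + 2) ^ 2 - 1) * ((w + 1) * (w + 2)) ≤ N * w :=
      h2.trans (le_trans (le_of_eq (by ring)) h4)
    have h6 : ((w + 2) ^ 2 - 1) * ((w + 1) * (w + 1) * (w + 2)) ≤ N * (w + 1) * w := by
      have := Nat.mul_le_mul_right (w + 1) h5
      nlinarith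
    obtain ⟨t, ht⟩ : ∃ t, (w + 2) ^ 2 = t + 1 :=
      ⟨(w + 2) ^ 2 - 1, by have : 1 ≤ (w + 2) ^ 2 := Nat.one_le_pow _ _ (by omega); omega⟩
    rw [ht, Nat.add_sub_cancel] at h6
    rw [show (w + 2) ^ 4 = (w + 2) ^ 2 * (w + 2) ^ 2 by ring, ht] at hN
    exact arith_fourier_four (by omega) ht h6 hN
  · rw [if_neg (by omega)] at hdX
    set Y := (w + 2) ^ (2 * n - 1) with hY
    have hXY : X = (w + 2) * Y := by
      rw [hX, hY, ← pow_succ']
      congr 1
      omega
    have hY1 : 1 ≤ Y := Nat.one_le_pow _ _ (by omega)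
    obtain ⟨y, hy⟩ : ∃ y, Y = y + 1 := ⟨Y - 1, by omega⟩
    have hbr : Y * w ≤ 2 * (w + 1) + (Y - 1) * w := by rw [hy, Nat.add_sub_cancel]; nlinarith
    have h3 : (X - 1) * (Y * w) ≤ 2 * (N * e) := le_trans (Nat.mul_le_mul_left _ hbr) h2
    have h4 : 2 * e * (w + 2) ≤ Y := by
      refine Nat.le_of_mul_le_mul_left (?_ : (w + 2) * _ ≤ (w + 2) * Y) (Nat.succ_pos _)
      rw [← hXY]
      refine le_trans ?_ hdX
      nlinarith
    have h5 : (X - 1) * w * (w + 2) * Y ≤ N * Y := by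
      calc (X - 1) * w * (w + 2) * Y = (X - 1) * (Y * w) * (w + 2) := by ring
        _ ≤ 2 * (N * e) * (w + 2) := Nat.mul_le_mul_right _ h3
        _ = N * (2 * e * (w + 2)) := by ring
        _ ≤ _ := Nat.mul_le_mul_left _ h4
    have h6 := Nat.mul_le_mul_right (w + 1) (Nat.le_of_mul_le_mul_right h5 (by omega))
    rw [show 2 * (n + 1) = 2 + 2 * n by ring, pow_add, ← hX] at hN
    have hX16 : 16 ≤ X := by
      rw [hX]
      exact le_trans (le_trans (by norm_num) (Nat.pow_le_pow_left hq 2)) (Nat.pow_le_pow_right (by omega) (by omega))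
    obtain ⟨t, rfl⟩ : ∃ t, X = t + 1 := ⟨X - 1, by omega⟩
    rw [Nat.add_sub_cancel] at h6
    exact arith_fourier_big (by omega) (by omega) h6 hN

set_option maxHeartbeats 1000000 in
/-- A large image in even characteristic. -/
theorem Frame.fourier_false {H : Subgroup (iso B)} (S : Small D H)
    (hfull : ∃ w ∈ D.W, w ∉ D.sbar H)
    (hs : 2 * Fintype.card F ^ (if n = 1 then 1 else 2) ≤ Nat.card (D.sbar H)) : False := by
  classical
  haveI := finite_iso (B := B)
  haveI := Fintype.ofFinite V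
  haveI : ExpChar F 2 := ExpChar.prime Nat.prime_two
  have hq4 : 4 ≤ Fintype.card F := by
    obtain ⟨k, -, hk⟩ := FiniteField.card F 2
    have := S.hq
    rcases (show (k : ℕ) = 1 ∨ 2 ≤ (k : ℕ) by have := k.pos; omega) with h | h
    · rw [h] at hk; omega
    · rw [hk]; exact le_trans (by norm_num) (Nat.pow_le_pow_right two_pos h)
  obtain ⟨Q0, hQ0⟩ := exists_polar (B := B) D.alt
  obtain ⟨χ, hχ⟩ := AddChar.exists_apply_ne_zero.2 (one_ne_zero (α := F))
  -- separation
  have hsep : ∀ a ∈ D.W, (∀ z ∈ D.W, B a z = 0) → a = 0 := by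
    intro a ha h
    by_contra hne
    obtain ⟨f, hf⟩ := Module.Projective.exists_dual_ne_zero F (show (⟨a, ha⟩ : D.W) ≠ 0 from
      fun e => hne (congrArg Subtype.val e))
    obtain ⟨z, hz, hzf⟩ := exists_rep D.nondeg D.hX le_rfl f
    exact hf ((hzf ⟨a, ha⟩).symm.trans (h z hz))
  have hsq : ∀ x : F, ∃ y, y ^ 2 = x := fun x => ⟨(frobeniusEquiv F 2).symm x, by
    rw [← frobenius_def, ← frobeniusEquiv_apply, RingEquiv.apply_symm_apply]⟩
  -- the characters of the radical
  let quad : D.W → V → F := fun w a => Q0 a + B a (w : V) ^ 2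
  have hquad : ∀ w : D.W, Polar B (quad w) := fun w => ⟨fun x y => by
      show Q0 (x + y) + B (x + y) (w : V) ^ 2 = _
      rw [hQ0.add, map_add, LinearMap.add_apply, CharTwo.add_sq]
      simp only [quad]
      ring,
    fun c x => by
      show Q0 (c • x) + B (c • x) (w : V) ^ 2 = _
      rw [hQ0.smul, map_smul, LinearMap.smul_apply, smul_eq_mul]
      simp only [quad]
      ring⟩
  let lin : F → D.W → D.W × F → F := fun ρ w p =>
    if ρ = 0 then B (p.1 : V) (w : V) else ρ * (p.2 + B (p.1 : V) (w : V) ^ 2)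
  have hlin : ∀ ρ w p p', lin ρ w (p + p') = lin ρ w p + lin ρ w p' := by
    intro ρ w p p'
    simp only [lin, Prod.fst_add, Prod.snd_add, Submodule.coe_add, map_add, LinearMap.add_apply]
    split_ifs
    · rfl
    · rw [CharTwo.add_sq]; ring
  let Ψ : F × D.W → AddChar (D.W × F) ℂ := fun q =>
    { toFun := fun p => χ (lin q.1 q.2 p)
      map_zero_eq_one' := by
        have : lin q.1 q.2 0 = 0 := by simp [lin]
        rw [this, χ.map_zero_eq_one]
      map_add_eq_mul' := fun p p' => by rw [hlin, χ.map_add_eq_mul] }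
  have hΨ : ∀ (q : F × D.W) (p : D.W × F), Ψ q p = χ (lin q.1 q.2 p) := fun _ _ => rfl
  have hlin0 : ∀ (w : D.W) (p : D.W × F), lin 0 w p = B (p.1 : V) (w : V) := fun w p => if_pos rfl
  have hlin1 : ∀ {ρ : F}, ρ ≠ 0 → ∀ (w : D.W) (p : D.W × F),
      lin ρ w p = ρ * (p.2 + B (p.1 : V) (w : V) ^ 2) := fun h w p => if_neg h
  have hχv : ∀ x : F, χ x = χ (1 * x) := fun x => by rw [one_mul]
  have hχinj : ∀ ρ ρ' : F, (∀ c, χ (ρ * c) = χ (ρ' * c)) → ρ = ρ' := by
    intro ρ ρ' h
    by_contra hne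
    apply hχ
    have h1 := h (1 / (ρ + ρ'))
    have hne' : ρ + ρ' ≠ 0 := fun e => hne (CharTwo.add_eq_zero.1 e)
    have e : ρ * (1 / (ρ + ρ')) = ρ' * (1 / (ρ + ρ')) + 1 := by
      field_simp
      linear_combination -ρ' * CharTwo.two_eq_zero (R := F)
    rw [e, χ.map_add_eq_mul] at h1
    exact (mul_eq_left₀ (χ.val_isUnit _).ne_zero).1 h1
  have hBinj : ∀ w w' : D.W, (∀ a ∈ D.W, B a (w : V) = B a (w' : V)) → w = w' := by
    intro w w' h
    refine Subtype.ext (eq_of_sub_eq_zero (hsep _ (sub_mem w.2 w'.2) fun a ha => ?_))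
    rw [D.symm_even, map_sub, h a ha, sub_self]
  have hΨinj : Function.Injective Ψ := by
    rintro ⟨ρ, w⟩ ⟨ρ', w'⟩ h
    have h' : ∀ p, χ (lin ρ w p) = χ (lin ρ' w' p) := fun p => DFunLike.congr_fun h p
    have hc : ∀ c, χ (lin ρ w (0, c)) = χ (ρ * c) := fun c => by
      rcases eq_or_ne ρ 0 with e | e
      · subst e; simp [hlin0]
      · rw [hlin1 e]; simp
    have hc' : ∀ c, χ (lin ρ' w' (0, c)) = χ (ρ' * c) := fun c => by
      rcases eq_or_ne ρ' 0 with e | e
      · subst e; simp [hlin0]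
      · rw [hlin1 e]; simp
    have hρ : ρ = ρ' := hχinj _ _ fun c => by rw [← hc, ← hc', h']
    subst hρ
    refine Prod.ext rfl (hBinj w w' fun a ha => ?_)
    -- scale the vector
    by_contra hne
    have hd : B a (w : V) + B a (w' : V) ≠ 0 := fun e => hne (CharTwo.add_eq_zero.1 e)
    rcases eq_or_ne ρ 0 with e | e
    · subst e
      apply hχ
      have h1 := h' (⟨(1 / (B a (w : V) + B a (w' : V))) • a, D.W.smul_mem _ ha⟩, 0)
      simp only [hlin0, map_smul, LinearMap.smul_apply, smul_eq_mul] at h1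
      rw [show 1 / (B a (w : V) + B a (w' : V)) * B a (w : V) =
        1 / (B a (w : V) + B a (w' : V)) * B a (w' : V) + 1 by
          field_simp
          linear_combination -(B a (w' : V)) * CharTwo.two_eq_zero (R := F), χ.map_add_eq_mul] at h1
      exact (mul_eq_left₀ (χ.val_isUnit _).ne_zero).1 h1
    · apply hχ
      obtain ⟨s, hs⟩ := hsq (1 / (ρ * (B a (w : V) + B a (w' : V)) ^ 2))
      have h1 := h' (⟨s • a, D.W.smul_mem _ ha⟩, 0)
      simp only [hlin1 e, map_smul, LinearMap.smul_apply, smul_eq_mul, zero_add, mul_pow, hs] at h1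
      rw [show ρ * (1 / (ρ * (B a (w : V) + B a (w' : V)) ^ 2) * B a (w : V) ^ 2) =
        ρ * (1 / (ρ * (B a (w : V) + B a (w' : V)) ^ 2) * B a (w' : V) ^ 2) + 1 by
          field_simp
          linear_combination (-(B a (w' : V) ^ 2) - B a (w : V) * B a (w' : V)) * CharTwo.two_eq_zero (R := F),
        χ.map_add_eq_mul] at h1
      exact (mul_eq_left₀ (χ.val_isUnit _).ne_zero).1 h1
  -- the subgroup of the parameters
  let G : AddSubgroup (D.W × F) :=
    { carrier := {p | D.el (p.1 : V) (p.2 + Q0 p.1) ∈ H}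
      zero_mem' := by
        show D.el ((0 : D.W) : V) ((0 : F) + Q0 ((0 : D.W) : V)) ∈ H
        rw [Submodule.coe_zero, hQ0.zero, add_zero, D.el_zero_zero]
        exact one_mem H
      neg_mem' := fun {p} hp => by
        show D.el ((-p).1 : V) ((-p).2 + Q0 ((-p).1 : V)) ∈ H
        rw [Prod.fst_neg, Prod.snd_neg, Submodule.coe_neg, CharTwo.neg_eq,
          show -(p.1 : V) = p.1 by rw [← neg_one_smul F (p.1 : V), CharTwo.neg_eq, one_smul]]
        exact hp
      add_mem' := fun {p p'} hp hp' => by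
        show D.el ((p + p').1 : V) ((p + p').2 + Q0 ((p + p').1 : V)) ∈ H
        have h := mul_mem (show D.el (p.1 : V) (p.2 + Q0 p.1) ∈ H from hp)
          (show D.el (p'.1 : V) (p'.2 + Q0 p'.1) ∈ H from hp')
        rw [D.el_mul (D.W_v p.1.2) (D.W_v p'.1.2)] at h
        rw [Prod.fst_add, Prod.snd_add, Submodule.coe_add, hQ0.add]
        convert h using 2
        rw [D.symm_even (p'.1 : V) (p.1 : V)]
        ring }
  set SW : AddSubgroup D.W := (D.sbar H).comap D.W.subtype.toAddMonoidHom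
  set d := SW.index with hd
  set r := (D.rsub H).index with hr
  have hSW : Nat.card SW = Nat.card (D.sbar H) := by
    refine Nat.card_congr ?_
    exact
      { toFun := fun a => ⟨(a.1 : V), a.2⟩
        invFun := fun a => ⟨⟨a.1, a.2.1⟩, a.2⟩
        left_inv := fun a => rfl
        right_inv := fun a => rfl }
  have hds : Nat.card (D.sbar H) * d = Nat.card D.W := by rw [← hSW]; exact SW.card_mul_index
  have hs0 : 0 < Nat.card (D.sbar H) := Nat.card_pos
  have hd1 : 1 < d := by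
    have h0 : SW.index ≠ 0 := AddSubgroup.index_ne_zero_of_finite
    have h1 : SW.index ≠ 1 := fun h => by
      obtain ⟨w, hw, hw'⟩ := hfull
      exact hw' (show (⟨w, hw⟩ : D.W) ∈ SW by rw [AddSubgroup.index_eq_one.1 h]; trivial)
    omega
  have hr2 : 2 ≤ r := by
    have h0 : r ≠ 0 := AddSubgroup.index_ne_zero_of_finite
    have h1 : r ≠ 1 := fun h => S.bad (AddSubgroup.index_eq_one.1 h)
    omega
  have hG : G.index = d * r := by
    have hcard : Nat.card G = Nat.card (D.sbar H) * Nat.card (D.rsub H) := by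
      rw [← D.card_inter]
      refine Nat.card_congr (Equiv.ofBijective (fun p : G => (⟨D.el (p.1.1 : V) (p.1.2 + Q0 p.1.1), p.2,
        D.el_mem_rad p.1.1.2 _⟩ : (H ⊓ D.rad : Subgroup (iso B)))) ⟨?_, ?_⟩)
      · intro p p' h
        obtain ⟨h1, h2⟩ := D.el_inj p.1.1.2 p'.1.1.2 (congrArg Subtype.val h)
        rw [h1] at h2
        exact Subtype.ext (Prod.ext (Subtype.ext h1) (add_right_cancel h2))
      · rintro ⟨g, hgH, a, ha, c, rfl⟩
        refine ⟨⟨(⟨a, ha⟩, c + Q0 a), ?_⟩, Subtype.ext ?_⟩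
        · show D.el a (c + Q0 a + Q0 a) ∈ H
          rwa [add_assoc, CharTwo.add_self_eq_zero, add_zero]
        · show D.el a (c + Q0 a + Q0 a) = D.el a c
          rw [add_assoc, CharTwo.add_self_eq_zero, add_zero]
    have h1 := G.card_mul_index
    rw [hcard, Nat.card_prod, ← hds, ← (D.rsub H).card_mul_index] at h1
    refine Nat.eq_of_mul_eq_mul_left (Nat.mul_pos hs0 (Nat.card_pos (α := D.rsub H))) ?_
    rw [h1, hr]
    ring
  -- annihilators
  have hD' : Nat.card {q : F × D.W // ∀ g ∈ G, Ψ q g = 1} = d * r := by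
    rw [card_annihilator Ψ hΨinj (by rw [Nat.card_prod, Nat.card_prod, mul_comm]) G, hG]
  let ψ : D.W → AddChar D.W ℂ := fun z =>
    { toFun := fun a => χ (B (a : V) (z : V))
      map_zero_eq_one' := by rw [Submodule.coe_zero, LinearMap.map_zero, LinearMap.zero_apply, χ.map_zero_eq_one]
      map_add_eq_mul' := fun a b => by rw [Submodule.coe_add, map_add, LinearMap.add_apply, χ.map_add_eq_mul] }
  have hψinj : Function.Injective ψ := fun z z' h => by
    have := hΨinj (a₁ := (0, z)) (a₂ := (0, z')) (DFunLike.ext _ _ fun p => by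
      rw [hΨ, hΨ, hlin0, hlin0]
      exact DFunLike.congr_fun h p.1)
    exact congrArg Prod.snd this
  have hDc : Nat.card {z : D.W // ∀ a ∈ SW, ψ z a = 1} = d := card_annihilator ψ hψinj rfl SW
  set T1 : Set D.W := {z | z ≠ 0 ∧ ∀ a ∈ SW, ψ z a = 1}
  set T2 : Set (F × D.W) := {q | q.1 ≠ 0 ∧ ∀ g ∈ G, Ψ q g = 1}
  have hDset : ({z : D.W | ∀ a ∈ SW, ψ z a = 1} : Set D.W).ncard = d := by
    rw [← Nat.card_coe_set_eq]; exact hDc
  have hT1 : T1.ncard = d - 1 := by
    have e : T1 = {z : D.W | ∀ a ∈ SW, ψ z a = 1} \ {0} := Set.ext fun z => ⟨fun h => ⟨h.2, h.1⟩, fun h => ⟨h.2, h.1⟩⟩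
    rw [e, Set.ncard_sdiff_singleton_of_mem, hDset]
    intro a _
    show χ (B (a : V) ((0 : D.W) : V)) = 1
    rw [Submodule.coe_zero, map_zero, χ.map_zero_eq_one]
  have hT2 : T2.ncard = d * r - d := by
    have hall : ({q : F × D.W | ∀ g ∈ G, Ψ q g = 1} : Set _).ncard = d * r := by
      rw [← Nat.card_coe_set_eq]; exact hD'
    have hzero : {q : F × D.W | q.1 = 0 ∧ ∀ g ∈ G, Ψ q g = 1} =
        (fun z => ((0 : F), z)) '' {z : D.W | ∀ a ∈ SW, ψ z a = 1} := by
      ext ⟨ρ, z⟩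
      simp only [Set.mem_setOf_eq, Set.mem_image, Prod.mk.injEq]
      constructor
      · rintro ⟨rfl, h⟩
        refine ⟨z, fun a ha => ?_, rfl, rfl⟩
        obtain ⟨-, c, hc⟩ := (show (a : V) ∈ D.sbar H from ha)
        have := h (a, c + Q0 a) (show D.el (a : V) (c + Q0 a + Q0 a) ∈ H by
          rwa [add_assoc, CharTwo.add_self_eq_zero, add_zero])
        rw [hΨ, hlin0] at this
        exact this
      · rintro ⟨z', hz', rfl, rfl⟩
        refine ⟨rfl, fun g hg => ?_⟩
        rw [hΨ, hlin0]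
        exact hz' g.1 (show (g.1 : V) ∈ D.sbar H from ⟨g.1.2, _, hg⟩)
    have e : T2 = {q : F × D.W | ∀ g ∈ G, Ψ q g = 1} \ {q : F × D.W | q.1 = 0 ∧ ∀ g ∈ G, Ψ q g = 1} := Set.ext fun q => ⟨fun h => ⟨h.2, fun h' => h.1 h'.1⟩, fun h => ⟨fun e => h.2 ⟨e, h.1⟩, h.1⟩⟩
    rw [e, Set.ncard_sdiff (fun q h => h.2) (Set.toFinite _), hall, hzero,
      Set.ncard_image_of_injective _ (fun z z' h => congrArg Prod.snd h), hDset]
  obtain ⟨z0, hz0⟩ : T1.Nonempty := Set.nonempty_of_ncard_ne_zero (by omega)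
  obtain ⟨⟨ρ0, w0⟩, hρ0, hw0⟩ : T2.Nonempty := Set.nonempty_of_ncard_ne_zero (by
    have : d < d * r := lt_mul_right (by omega) (by omega)
    omega)
  -- states
  let res : D.W → V → F := fun w a => if a ∈ D.W then quad w a else 0
  have hres : Function.Injective res := fun w w' h => hBinj w w' fun a ha => by
    have := congrFun h a
    simp only [res, if_pos ha, quad, add_right_inj] at this
    exact CharTwo.sq_injective this
  let emb : D.W × F × D.W → V × F × (V → F) := fun x => ((x.1 : V), x.2.1, res x.2.2)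
  have hemb : Function.Injective emb := fun x y h => by
    simp only [emb, Prod.mk.injEq] at h
    exact Prod.ext (Subtype.ext h.1) (Prod.ext h.2.1 (hres h.2.2))
  let act : iso B → V × F × (V → F) → V × F × (V → F) := fun g x =>
    ((D.nu g)⁻¹ • g.1 x.1, x.2.1 / D.nu g ^ 2, fun a => if a ∈ D.W then x.2.2 ((g⁻¹).1 a) else 0)
  have hact : ∀ g ∈ D.lev, ∀ h ∈ D.lev, ∀ x, act (g * h) x = act g (act h x) := by
    intro g hg h hh x
    simp only [act, D.nu_mul hg hh]
    refine Prod.ext ?_ (Prod.ext ?_ ?_)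
    · show _ • g.1 (h.1 x.1) = _ • g.1 (_ • h.1 x.1)
      rw [map_smul, smul_smul, mul_inv]
    · show x.2.1 / (D.nu g * D.nu h) ^ 2 = x.2.1 / D.nu h ^ 2 / D.nu g ^ 2
      rw [div_div, mul_pow, mul_comm]
    · funext a
      by_cases ha : a ∈ D.W
      · simp only [if_pos ha, if_pos (D.lev_mem_W (inv_mem hg) ha)]
        rw [mul_inv_rev]; rfl
      · simp only [if_neg ha]
  have hshift : ∀ g ∈ D.lev, ∀ w : D.W, ∃ w' : D.W,
      (fun a => if a ∈ D.W then res w ((g⁻¹).1 a) else 0) = res w' := by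
    intro g hg w
    obtain ⟨w', hw', he⟩ := D.exists_shift (R := fun a => quad w ((g⁻¹).1 a)) hQ0
      (fun a _ b _ => by rw [map_add, (hquad w).add, (g⁻¹).2])
      (fun c a _ => by rw [map_smul, (hquad w).smul])
    refine ⟨⟨w', hw'⟩, funext fun a => ?_⟩
    by_cases ha : a ∈ D.W
    · simp only [res, if_pos ha, if_pos (D.lev_mem_W (inv_mem hg) ha), he a ha, quad]
    · simp only [res, if_neg ha]
  set start := emb (z0, ρ0, w0)
  have hk : Nat.card (img act D.lev start) ≤ (D.levi H).relIndex D.lev * ((d - 1) * (d * r - d)) := by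
    refine (card_img_le_of_stable act (D.levi_le H) hact (T := emb '' (T1 ×ˢ T2)) (Set.toFinite _) ?_).trans
      (le_of_eq ?_)
    · intro g hg
      have hν := D.nu_ne hg.1
      obtain ⟨w', hw'⟩ := hshift g hg.1 w0
      have hz : (D.nu g)⁻¹ • g.1 (z0 : V) ∈ D.W := D.W.smul_mem _ (D.lev_mem_W hg.1 z0.2)
      have hνi : D.nu g⁻¹ = (D.nu g)⁻¹ := by
        have h := D.nu_mul (inv_mem hg.1) hg.1
        rw [inv_mul_cancel, D.nu_eq (show (1 : iso B).1 v = (1 : F) • v by rw [one_smul]; rfl)] at h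
        exact eq_inv_of_mul_eq_one_left h.symm
      refine ⟨(⟨_, hz⟩, ρ0 / D.nu g ^ 2, w'), ⟨⟨?_, ?_⟩, ⟨div_ne_zero hρ0 (pow_ne_zero 2 hν), ?_⟩⟩, ?_⟩
      · intro e
        apply hz0.1
        have e' := congrArg Subtype.val e
        rw [Submodule.coe_zero, smul_eq_zero] at e'
        exact Subtype.ext (g.1.map_eq_zero_iff.1 (e'.resolve_left (inv_ne_zero hν)))
      · intro a ha
        have h1 := D.levi_sbar (inv_mem hg) (show (a : V) ∈ D.sbar H from ha)
        rw [hνi] at h1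
        have h2 := hz0.2 ⟨_, h1.1⟩ h1
        show χ (B (a : V) ((D.nu g)⁻¹ • g.1 (z0 : V))) = 1
        rw [map_smul, ← apply_inv g (a : V), g.2, smul_eq_mul, ← smul_eq_mul, ← LinearMap.smul_apply, ← map_smul]
        exact h2
      · rintro ⟨a, c'⟩ hp
        have h1 := D.levi_el_even (inv_mem hg) a.2 (show D.el (a : V) (c' + Q0 a) ∈ H from hp)
        rw [hνi] at h1
        have haW : (D.nu g)⁻¹ • (g⁻¹).1 (a : V) ∈ D.W := D.W.smul_mem _ (D.lev_mem_W (inv_mem hg.1) a.2)
        set a' := (D.nu g)⁻¹ • (g⁻¹).1 (a : V) with ha'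
        have h2 := hw0 (⟨a', haW⟩, (D.nu g)⁻¹ ^ 2 * (c' + Q0 a) + Q0 a') (by
          show D.el a' ((D.nu g)⁻¹ ^ 2 * (c' + Q0 a) + Q0 a' + Q0 a') ∈ H
          rwa [add_assoc, CharTwo.add_self_eq_zero, add_zero])
        rw [hΨ, hlin1 hρ0] at h2
        rw [hΨ, hlin1 (div_ne_zero hρ0 (pow_ne_zero 2 hν))]
        convert h2 using 2
        have h3 := congrFun hw' (a : V)
        simp only [res, if_pos a.2, if_pos (D.lev_mem_W (inv_mem hg.1) a.2), quad] at h3
        have h4 : Q0 a' + B a' (w0 : V) ^ 2 = (D.nu g)⁻¹ ^ 2 * (quad w0 ((g⁻¹).1 (a : V))) :=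
          (hquad w0).smul _ _
        simp only [quad] at h4
        show ρ0 / D.nu g ^ 2 * (c' + B (a : V) (w' : V) ^ 2) =
          ρ0 * ((D.nu g)⁻¹ ^ 2 * (c' + Q0 a) + Q0 a' + B a' (w0 : V) ^ 2)
        rw [add_assoc, h4, h3, div_eq_mul_inv, inv_pow]
        linear_combination (-(ρ0 * (D.nu g ^ 2)⁻¹ * Q0 (a : V))) * CharTwo.two_eq_zero (R := F)
      · show emb _ = act g start
        simp only [emb, act, start, hw']
    · rw [Set.ncard_image_of_injective _ hemb, Set.ncard_prod, hT1, hT2]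
  -- the lower bound
  have horb : ∀ (z : D.W), z ≠ 0 → ∀ ρ : F, ρ ≠ 0 →
      2 * (Fintype.card F - 1) + (Fintype.card F ^ (2 * n - 1) - 1) * (Fintype.card F - 2) ≤
        2 * ((Fintype.card F - 1) * {w : D.W | emb (z, ρ, w) ∈ img act D.lev start}.ncard) := by
    intro z hz ρ hρ
    obtain ⟨ν, hν⟩ := hsq (ρ0 / ρ)
    have hν0 : ν ≠ 0 := fun e => by
      rw [e, zero_pow two_ne_zero] at hν
      exact div_ne_zero hρ0 hρ hν.symm
    have hz0' : (z0 : V) ≠ 0 := fun e => hz0.1 (Subtype.ext e)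
    have hνz : ν • (z : V) ≠ 0 := smul_ne_zero hν0 fun e => hz (Subtype.ext e)
    obtain ⟨g, hg, eg⟩ := exists_Fx D.nondeg D.alt (not_mem_of_perp D.hX z0.2 hz0')
      (not_mem_of_perp D.hX (D.W.smul_mem ν z.2) hνz) (fun x hx => by
        rw [show B x (z0 : V) = 0 from z0.2 x hx, show B x (ν • (z : V)) = 0 from D.W.smul_mem ν z.2 x hx])
    set g0 := D.tor (Units.mk0 ν hν0) * g
    have hg0 : g0 ∈ D.lev := mul_mem (D.tor_mem _) (D.fx_le_lev hg)
    have hnu : D.nu g0 = ν := by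
      rw [D.nu_mul (D.tor_mem _) (D.fx_le_lev hg), D.nu_tor, D.nu_fx hg, mul_one, Units.val_mk0]
    obtain ⟨w1, hw1⟩ := hshift g0 hg0 w0
    have hbase : act g0 start = emb (z, ρ, w1) := by
      refine Prod.ext ?_ (Prod.ext ?_ ?_)
      · show (D.nu g0)⁻¹ • (D.tor _).1 (g.1 (z0 : V)) = (z : V)
        rw [eg, D.tor_W _ (D.W.smul_mem ν z.2), hnu, inv_smul_smul₀ hν0]
      · show ρ0 / D.nu g0 ^ 2 = ρ
        rw [hnu, hν, div_div_cancel₀ hρ0]
      · exact hw1
    set O : Set V := {y | ∃ h : y ∈ D.W, emb (z, ρ, w1 + ⟨y, h⟩) ∈ img act D.lev start}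
    have h0 : (0 : V) ∈ O := ⟨zero_mem _, g0, hg0, by
      rw [hbase, show (⟨0, zero_mem _⟩ : D.W) = 0 from rfl, add_zero]⟩
    have hU := offset_count (U := B.orthogonal (plane F v v' ⊔ Submodule.span F {(z : V)})) h0 fun u hu _ => by
      refine (sqrt_range (quad w1 u)).trans (Nat.mul_le_mul_left 2 (Set.ncard_le_ncard ?_ (Set.toFinite _)))
      rintro s ⟨c, hc⟩
      have huW : u ∈ D.W := fun x hx => hu x (Submodule.mem_sup_left hx)
      have hzu : B (z : V) u = 0 := hu _ (Submodule.mem_sup_right (Submodule.mem_span_singleton_self _))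
      set t := (tvG D.alt u c)⁻¹
      have htfx : t ∈ Fx B (plane F v v') := inv_mem (D.tv_mem_fx huW c)
      refine ⟨D.W.smul_mem _ huW, t * g0, mul_mem (D.fx_le_lev htfx) hg0, ?_⟩
      rw [hact _ (D.fx_le_lev htfx) _ hg0, hbase]
      refine Prod.ext ?_ (Prod.ext ?_ (funext fun a => ?_))
      · show (D.nu t)⁻¹ • t.1 (z : V) = (z : V)
        rw [D.nu_fx htfx, inv_one, one_smul]
        refine (tvG D.alt u c).1.injective ?_
        rw [apply_inv]
        show (z : V) = tv D.alt u c (z : V)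
        rw [tv_apply, hzu, mul_zero, zero_smul, add_zero]
      · show ρ / D.nu t ^ 2 = ρ
        rw [D.nu_fx htfx, one_pow, div_one]
      · show (if a ∈ D.W then res w1 ((t⁻¹).1 a) else 0) = res (w1 + ⟨s • u, _⟩) a
        by_cases ha : a ∈ D.W
        · have hta : (t⁻¹).1 a ∈ D.W := D.lev_mem_W (D.fx_le_lev (inv_mem htfx)) ha
          simp only [res, if_pos ha, if_pos hta]
          rw [show (t⁻¹).1 a = tv D.alt u c a by simp only [t, inv_inv]; rfl, (hquad w1).tv D.alt, hc]
          simp only [quad, Submodule.coe_add, map_add, map_smul, smul_eq_mul, CharTwo.add_sq]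
          ring
        · simp only [res, if_neg ha]
    have hO : O.ncard ≤ {w : D.W | emb (z, ρ, w) ∈ img act D.lev start}.ncard := by
      rw [← Nat.card_coe_set_eq, ← Nat.card_coe_set_eq]
      refine Nat.card_le_card_of_injective (fun y : O => (⟨w1 + ⟨y.1, y.2.choose⟩, y.2.choose_spec⟩ :
        {w : D.W | emb (z, ρ, w) ∈ img act D.lev start})) fun y y' e => Subtype.ext ?_
      have e' : w1 + (⟨y.1, y.2.choose⟩ : D.W) = w1 + ⟨y'.1, y'.2.choose⟩ := congrArg Subtype.val e
      have e'' := add_left_cancel e'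
      exact Subtype.mk.inj e''
    have hcardU : Nat.card ↥(B.orthogonal (plane F v v' ⊔ Submodule.span F {(z : V)})) =
        Fintype.card F ^ (2 * n - 1) := by
      rw [Module.natCard_eq_pow_finrank (K := F), Nat.card_eq_fintype_card]
      congr 1
      have h := finrank_perp_sup D.nondeg D.hX ((Submodule.span_singleton_le_iff_mem _ _).2 z.2)
      rw [D.finrank_W, finrank_span_singleton (fun e => hz (Subtype.ext e))] at h
      omega
    rw [hcardU] at hU
    have hO1 : 1 ≤ O.ncard := (Set.ncard_pos (Set.toFinite _)).2 ⟨0, h0⟩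
    obtain ⟨o, ho⟩ : ∃ o, O.ncard = o + 1 := ⟨O.ncard - 1, by omega⟩
    rw [ho, Nat.add_sub_cancel] at hU
    rw [ho] at hO
    calc _ ≤ 2 * (Fintype.card F - 1) + 2 * (o * (Fintype.card F - 1)) := Nat.add_le_add_left hU _
      _ = 2 * ((Fintype.card F - 1) * (o + 1)) := by ring
      _ ≤ _ := Nat.mul_le_mul_left 2 (Nat.mul_le_mul_left _ hO)
  have hlow : (Nat.card D.W - 1) * (2 * (Fintype.card F - 1) + (Fintype.card F ^ (2 * n - 1) - 1) *
      (Fintype.card F - 2)) ≤ 2 * Nat.card (img act D.lev start) := by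
    set A := Σ zr : {z : D.W // z ≠ 0} × Fˣ, {w : D.W // emb (zr.1.1, (zr.2 : F), w) ∈ img act D.lev start}
    haveI : Finite (V × F × (V → F)) := inferInstance
    have hA : Nat.card A ≤ Nat.card (img act D.lev start) := by
      refine Nat.card_le_card_of_injective (fun x : A => (⟨_, x.2.2⟩ : img act D.lev start)) ?_
      rintro ⟨⟨⟨z, hz⟩, ρ⟩, w, hw⟩ ⟨⟨⟨z', hz'⟩, ρ'⟩, w', hw'⟩ e
      have e' := hemb (congrArg Subtype.val e)
      simp only [Prod.mk.injEq] at e'
      obtain ⟨rfl, e2, rfl⟩ := e'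
      obtain rfl : ρ = ρ' := Units.ext e2
      rfl
    refine le_trans ?_ (Nat.mul_le_mul_left 2 hA)
    rw [show Nat.card A = ∑ zr : {z : D.W // z ≠ 0} × Fˣ,
      Nat.card {w : D.W // emb (zr.1.1, (zr.2 : F), w) ∈ img act D.lev start} from Nat.card_sigma,
      Fintype.sum_prod_type, Finset.mul_sum]
    set K := 2 * (Fintype.card F - 1) + (Fintype.card F ^ (2 * n - 1) - 1) * (Fintype.card F - 2)
    rw [show (Nat.card D.W - 1) * K = ∑ _z : {z : D.W // z ≠ 0}, K by
      rw [Finset.sum_const, smul_eq_mul, Finset.card_univ, Fintype.card_subtype_compl, Fintype.card_subtype_eq,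
        Nat.card_eq_fintype_card]]
    refine Finset.sum_le_sum fun z _ => ?_
    rw [Finset.mul_sum]
    have hK : ∀ ρ : Fˣ, K ≤ 2 * ((Fintype.card F - 1) *
        Nat.card {w : D.W // emb (z.1, (ρ : F), w) ∈ img act D.lev start}) := fun ρ => by
      have := horb z.1 z.2 ρ ρ.ne_zero
      rw [← Nat.card_coe_set_eq] at this
      exact this
    refine Nat.le_of_mul_le_mul_left (?_ : (Fintype.card F - 1) * _ ≤ (Fintype.card F - 1) * _) (by omega)
    rw [Finset.mul_sum]
    refine le_trans ?_ (Finset.sum_le_sum (f := fun _ : Fˣ => K) fun ρ _ => by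
      rw [mul_left_comm]; exact hK ρ)
    rw [Finset.sum_const, smul_eq_mul, Finset.card_univ, Fintype.card_units]
  rw [D.card_W, Nat.card_eq_fintype_card (α := F)] at hds hlow
  have hbasic : (D.levi H).relIndex D.lev * (d * r) ≤ H.index := by
    have h := D.basic H
    rw [D.card_W, Nat.card_eq_fintype_card (α := F), ← hds] at h
    refine Nat.le_of_mul_le_mul_right (c := Nat.card (D.sbar H)) ?_ hs0
    calc _ = (D.levi H).relIndex D.lev * (Nat.card (D.sbar H) * d * r) := by ring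
      _ ≤ _ := h
  refine arith_fourier hq4 S.hn rfl hd1 hr2 ?_
    (hlow.trans (Nat.mul_le_mul_left 2 hk)) hbasic S.bound
  calc 2 * d * Fintype.card F ^ (if n = 1 then 1 else 2)
      = 2 * Fintype.card F ^ (if n = 1 then 1 else 2) * d := by ring
    _ ≤ Nat.card (D.sbar H) * d := Nat.mul_le_mul_right _ hs
    _ = _ := hds

end Cfsg.Lib.Linear.MinIndexSp
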