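import Cfsg.Agent.Lib.Linear.MinIndexSp.Quad
import Cfsg.Agent.Lib.Linear.MinIndexSp.SmallSbar
import Cfsg.Agent.Lib.Linear.SymplecticMax
import Cfsg.Agent.Lib.Linear.TransvX.Main

/-!
# Even characteristic, the image filling the quotient of the radical
-/

set_option autoImplicit false
set_option linter.unusedSectionVars false

namespace Cfsg.Lib.Linear.MinIndexSp

open Module
open Cfsg.Lib.Linear.Symp
open scoped Matrix

/-- An additive section of a subgroup of a product of elementary abelian groups. -/
theorem exists_section {A C : Type*} [AddCommGroup A] [AddCommGroup C] [Finite A] [Finite C]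
    (hA : ∀ a : A, a + a = 0) (hC : ∀ c : C, c + c = 0) (G : AddSubgroup (A × C)) (hG : ∀ a, ∃ c, (a, c) ∈ G) :
    ∃ f : A → C, (∀ a, (a, f a) ∈ G) ∧ ∀ a b, f (a + b) = f a + f b := by
  classical
  obtain ⟨K, hK, hmax⟩ := (Set.toFinite {K : AddSubgroup (A × C) | K ≤ G ∧ ∀ c, ((0 : A), c) ∈ K → c = 0}).exists_maximalFor
    (fun K : AddSubgroup (A × C) => Nat.card K) _
    ⟨⊥, bot_le, fun c hc => by simpa using hc⟩
  have honto : ∀ a, ∃ c, (a, c) ∈ K := by
    intro a
    by_contra hno
    push Not at hno
    obtain ⟨c, hc⟩ := hG a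
    let K' : AddSubgroup (A × C) :=
      { carrier := {p | p ∈ K ∨ p + (a, c) ∈ K}
        zero_mem' := Or.inl (zero_mem K)
        neg_mem' := fun {p} hp => by
          have : -p = p := neg_eq_of_add_eq_zero_left (Prod.ext (hA _) (hC _))
          rw [this]; exact hp
        add_mem' := fun {p p'} hp hp' => by
          have hd : (a, c) + (a, c) = 0 := Prod.ext (hA _) (hC _)
          rcases hp with h | h <;> rcases hp' with h' | h'
          · exact Or.inl (add_mem h h')
          · exact Or.inr (by rw [add_assoc]; exact add_mem h h')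
          · exact Or.inr (by rw [add_right_comm]; exact add_mem h h')
          · left
            have := add_mem h h'
            rwa [add_add_add_comm, hd, add_zero] at this }
    have hK' : K' ∈ {K : AddSubgroup (A × C) | K ≤ G ∧ ∀ c, ((0 : A), c) ∈ K → c = 0} := by
      refine ⟨fun p hp => ?_, fun e he => ?_⟩
      · rcases hp with h | h
        · exact hK.1 h
        · have := add_mem (hK.1 h) hc
          rwa [add_assoc, show (a, c) + (a, c) = 0 from Prod.ext (hA _) (hC _), add_zero] at this
      · rcases he with h | h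
        · exact hK.2 e h
        · exact absurd (by simpa using h) (hno (e + c))
    have hlt : K < K' := lt_of_le_of_ne (fun p hp => Or.inl hp) fun e => hno c (by
      rw [e]
      right
      rw [show (a, c) + (a, c) = 0 from Prod.ext (hA _) (hC _)]
      exact zero_mem K)
    have hcard : Nat.card K < Nat.card K' := by
      rw [← SetLike.coe_sort_coe K, ← SetLike.coe_sort_coe K', Nat.card_coe_set_eq, Nat.card_coe_set_eq]
      exact Set.ncard_lt_ncard (SetLike.coe_ssubset_coe.2 hlt) (Set.toFinite _)
    exact absurd (hmax hK' hcard.le) (not_le.2 hcard)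
  choose f hf using honto
  refine ⟨f, fun a => hK.1 (hf a), fun a b => ?_⟩
  have h := sub_mem (hf (a + b)) (add_mem (hf a) (hf b))
  rw [Prod.mk_add_mk, Prod.mk_sub_mk, sub_self] at h
  exact sub_eq_zero.1 (hK.2 _ h)

variable {ι : Type} [Fintype ι] [DecidableEq ι] {F : Type*} [Field F] [Fintype F]
  {B : LinearMap.BilinForm F (ι → F)} {n : ℕ} {v v' : ι → F} (D : Frame B n v v')

include D

/-- The image fills the quotient. -/
theorem Frame.full_false {H : Subgroup (iso B)} (S : Small D H) (h2 : (2 : F) = 0)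
    (hfull : ∀ w ∈ D.W, w ∈ D.sbar H) : False := by
  classical
  haveI : CharP F 2 := CharTwo.of_one_ne_zero_of_two_eq_zero one_ne_zero h2
  haveI := D.finiteDimensional
  haveI := finite_iso (B := B)
  have hq4 : 4 ≤ Fintype.card F := by
    obtain ⟨k, -, hk⟩ := FiniteField.card F 2
    have := S.hq
    rcases (show (k : ℕ) = 1 ∨ 2 ≤ (k : ℕ) by have := k.pos; omega) with h | h
    · rw [h] at hk; omega
    · rw [hk]; exact le_trans (by norm_num) (Nat.pow_le_pow_right two_pos h)
  obtain ⟨Q0, hQ0⟩ := exists_polar (B := B) D.alt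
  have hdim : Fintype.card ι = 2 * (n + 1) := by rw [← D.dim, Module.finrank_pi]
  have hI : Irred H := irred_of_small D.nondeg D.alt (by rw [D.dim]; exact S.bound)
  have hBs : ∀ x y, B x y = B y x := fun x y => by rw [D.swap y x, CharTwo.neg_eq]
  -- the additive group above the radical
  let G : AddSubgroup (D.W × F) :=
    { carrier := {p | D.el (p.1 : ι → F) (p.2 + Q0 p.1) ∈ H}
      zero_mem' := by
        show D.el ((0 : D.W) : ι → F) ((0 : F) + Q0 ((0 : D.W) : ι → F)) ∈ H
        rw [Submodule.coe_zero, hQ0.zero, add_zero, D.el_zero_zero]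
        exact one_mem H
      neg_mem' := fun {p} hp => by
        show D.el ((-p).1 : ι → F) ((-p).2 + Q0 ((-p).1 : ι → F)) ∈ H
        have e : -p = p := Prod.ext (Subtype.ext (funext fun i => CharTwo.neg_eq _)) (CharTwo.neg_eq _)
        rw [e]; exact hp
      add_mem' := fun {p p'} hp hp' => by
        show D.el ((p + p').1 : ι → F) ((p + p').2 + Q0 ((p + p').1 : ι → F)) ∈ H
        have h := mul_mem (show D.el (p.1 : ι → F) (p.2 + Q0 p.1) ∈ H from hp)
          (show D.el (p'.1 : ι → F) (p'.2 + Q0 p'.1) ∈ H from hp')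
        rw [D.el_mul (D.W_v p.1.2) (D.W_v p'.1.2)] at h
        rw [Prod.fst_add, Prod.snd_add, Submodule.coe_add, hQ0.add]
        convert h using 2
        rw [hBs (p'.1 : ι → F) (p.1 : ι → F)]
        ring }
  obtain ⟨f, hfG, hfadd⟩ := exists_section (fun a : D.W => Subtype.ext (funext fun i => CharTwo.add_self_eq_zero _))
    (fun c : F => CharTwo.add_self_eq_zero c) G (fun a => by
      obtain ⟨-, c, hc⟩ := hfull a a.2
      exact ⟨c + Q0 (a : ι → F), show D.el (a : ι → F) (c + Q0 (a : ι → F) + Q0 (a : ι → F)) ∈ H by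
        rwa [add_assoc, CharTwo.add_self_eq_zero, add_zero]⟩)
  -- transport to matrices
  let e := glEquiv ι F
  set L : Subgroup (GL ι F) := (H.map (iso B).subtype).comap e.toMonoidHom
  have hSy : TransvX.Sympl B := ⟨D.self, D.nondeg.2⟩
  have hel : ∀ (u : ι → F) (t : F), B v u = 0 → D.el u t ∈ H → TransvX.el B v u t ∈ L := by
    intro u t hu h
    refine ⟨D.el u t, h, LinearEquiv.ext fun x => ?_⟩
    show (D.el u t).1 x = e (TransvX.el B v u t) x
    rw [glEquiv_apply, TransvX.el_act hSy hu, D.el_apply hu, hBs x v, hBs x u]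
    module
  let π : (ι → F) → D.W := fun u => if h : B v u = 0 then ⟨u + B u v' • v, D.mem_W.2 ⟨by
    rw [map_add, map_smul, D.self, smul_zero, add_zero, h], by
    rw [map_add, map_smul, D.pair', smul_eq_mul, hBs v' u, mul_neg, mul_one, add_neg_cancel]⟩⟩ else 0
  let φ : (ι → F) → F := fun u => f (π u) + Q0 (π u : ι → F)
  have hφ : TransvX.RootFun B L v φ := by
    refine ⟨fun u hu => ?_, fun u w hu hw => ?_⟩
    · refine hel u _ hu ?_
      have h : D.el (π u : ι → F) (φ u) ∈ H := hfG (π u)
      convert h using 1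
      refine Subtype.ext (LinearEquiv.ext fun x => ?_)
      rw [D.el_apply hu, D.el_apply (D.W_v (π u).2)]
      simp only [π, dif_pos hu, map_add, map_smul, smul_eq_mul]
      have h2' : (2 : F) • ((B u v' * B x v) • v) = 0 := by rw [h2, zero_smul]
      linear_combination (norm := module) -h2'
    · have huw : B v (u + w) = 0 := by rw [map_add, hu, hw, add_zero]
      have hπ : π (u + w) = π u + π w := by
        simp only [π, dif_pos hu, dif_pos hw, dif_pos huw]
        refine Subtype.ext ?_
        simp only [Submodule.coe_add, map_add, LinearMap.add_apply]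
        module
      simp only [φ, hπ, hfadd, Submodule.coe_add, hQ0.add]
      have hB' : B (π u : ι → F) (π w : ι → F) = B u w := by
        simp only [π, dif_pos hu, dif_pos hw, map_add, map_smul, LinearMap.add_apply, LinearMap.smul_apply,
          smul_eq_mul, D.self, hw, hBs u v, hu, mul_zero, add_zero]
      rw [hB']
      ring
  have hLG : ∀ g ∈ L, ∀ x y, B (g.val *ᵥ x) (g.val *ᵥ y) = B x y := by
    rintro g ⟨k, -, hk⟩ x y
    rw [← glEquiv_apply, ← glEquiv_apply]
    show B (e g x) (e g y) = _
    have : e g = k.1 := hk.symm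
    rw [this]
    exact k.2 x y
  have C : TransvX.Irr B L := by
    refine ⟨hSy, hLG, fun U hU => hI U fun h hh x hx => ?_⟩
    have hg : e.symm h.1 ∈ L := ⟨h, hh, (e.apply_symm_apply _).symm⟩
    have := hU _ hg x hx
    rw [← glEquiv_apply] at this
    show h.1 x ∈ U
    change e (e.symm h.1) x ∈ U at this
    rwa [e.apply_symm_apply] at this
  rcases TransvX.trichotomy C D.ne_zero (by rw [hdim]; have := S.hn; omega) ⟨n + 1, by rw [hdim]; ring⟩ hφ
    with hall | ⟨b, P⟩ | ⟨hF, -⟩
  · refine S.bad ((AddSubgroup.eq_top_iff' _).2 fun c => ?_)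
    rw [D.mem_rsub]
    obtain ⟨k, hk, ek⟩ := hall v c
    have : k = D.el 0 c := by
      refine Subtype.ext (LinearEquiv.ext fun x => ?_)
      have e1 : k.1 = e (TransvX.el B v 0 c) := ek
      rw [e1, glEquiv_apply, TransvX.el_act hSy (map_zero _), D.el_apply (map_zero _), hBs x v]
      simp
    rwa [this] at hk
  swap
  · omega
  -- the subgroup preserves a quadratic function
  set Q := TransvX.qfun B L v b
  have hQ : Polar B Q := ⟨fun x y => P.qfun_add x y, fun c x => P.qfun_smul c x⟩
  have hpres : ∀ h ∈ H, ∀ x, Q (h.1 x) = Q x := by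
    intro h hh x
    have hg : e.symm h.1 ∈ L := ⟨h, hh, (e.apply_symm_apply _).symm⟩
    have := Cfsg.Lib.Linear.Orth.mem_iso.1 (P.le_iso hg) x
    rw [← glEquiv_apply] at this
    change Q (e (e.symm h.1) x) = _ at this
    rwa [e.apply_symm_apply] at this
  let act : iso B → ((ι → F) → F) → ((ι → F) → F) := fun g R x => R ((g⁻¹).1 x)
  set O : Set (ι → F) := {y | (fun x => Q x + B x y ^ 2) ∈ img act ⊤ Q}
  have hN : O.ncard ≤ H.index := by
    rw [← H.relIndex_top_right]
    refine le_trans ?_ (card_img_le_of_fixed act le_top (fun g _ k _ R => funext fun x => by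
      show R (((g * k)⁻¹).1 x) = R ((k⁻¹).1 ((g⁻¹).1 x))
      rw [mul_inv_rev]; rfl) (x := Q) fun g hg => funext fun x => hpres _ (inv_mem hg) x)
    rw [← Nat.card_coe_set_eq]
    haveI : Finite ((ι → F) → F) := Pi.finite
    refine Nat.card_le_card_of_injective (fun y : O => (⟨_, y.2⟩ : img act ⊤ Q)) fun y y' h => Subtype.ext ?_
    have h1 : (fun x => Q x + B x y.1 ^ 2) = fun x => Q x + B x y'.1 ^ 2 := congrArg Subtype.val h
    refine eq_of_sub_eq_zero (D.nondeg.2 _ fun x => ?_)
    have h3 := congrFun h1 x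
    simp only [add_right_inj] at h3
    rw [map_sub, sub_eq_zero]
    exact CharTwo.sq_injective h3
  have h0 : (0 : ι → F) ∈ O := by
    refine ⟨1, Subgroup.mem_top _, funext fun x => ?_⟩
    show Q ((1⁻¹ : iso B).1 x) = _
    rw [inv_one, map_zero, zero_pow two_ne_zero, add_zero]
    rfl
  have h3 := offset_count (U := (⊤ : Submodule F (ι → F))) h0 fun u _ _ => by
    refine (sqrt_range (Q u)).trans (Nat.mul_le_mul_left 2 (Set.ncard_le_ncard ?_ (Set.toFinite _)))
    rintro s ⟨c, hc⟩
    refine ⟨(tvG D.alt u c)⁻¹, Subgroup.mem_top _, funext fun x => ?_⟩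
    show Q (((tvG D.alt u c)⁻¹⁻¹).1 x) = _
    rw [inv_inv]
    show Q (tv D.alt u c x) = _
    rw [hQ.tv D.alt, hc, map_smul, smul_eq_mul, mul_pow]
  rw [Nat.card_congr (Submodule.topEquiv (R := F) (M := ι → F)).toEquiv,
    Module.natCard_eq_pow_finrank (K := F) (V := ι → F), D.dim, Nat.card_eq_fintype_card] at h3
  have hb := S.bound
  set Y := Fintype.card F ^ (2 * (n + 1))
  set q := Fintype.card F
  have h4 : (O.ncard - 1) * (q - 1) ≤ H.index * (q - 1) := Nat.mul_le_mul_right _ (by omega)
  have h5 : (Y - 1) * 2 ≤ (Y - 1) * (q - 2) := Nat.mul_le_mul_left _ (by omega)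
  omega

end Cfsg.Lib.Linear.MinIndexSp
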