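import Cfsg.Agent.Lib.Linear.MinIndexSp.Radical

/-!
# Lifting the Levi complement

If an element of the torus other than the identity lifts to a subgroup, a conjugate of the subgroup contains it, and
then it contains the commutators of the liftable isometries fixing the pair.
-/

set_option autoImplicit false
set_option linter.unusedSectionVars false

namespace Cfsg.Lib.Linear.MinIndexSp

open Module
open Cfsg.Lib.Linear.Symp
open scoped commutatorElement

variable {F V : Type*} [Field F] [AddCommGroup V] [Module F V] [FiniteDimensional F V]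
  {B : LinearMap.BilinForm F V}

/-- The fixer of a subspace is generated by the transvections orthogonal to it. -/
theorem fixer_le_T (hB : B.Nondegenerate) (hA : B.IsAlt) :
    ∀ (d : ℕ) (X : Submodule F V), finrank F V ≤ finrank F X + d → fixer B X ≤ T hA X := by
  intro d
  induction d with
  | zero =>
    intro X h g hg
    have hX : X = ⊤ := Submodule.eq_top_of_finrank_eq (le_antisymm (Submodule.finrank_le X) h)
    have : g = 1 := LinearEquiv.ext fun x => hg.2 x (hX ▸ Submodule.mem_top)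
    rw [this]; exact one_mem _
  | succ d ih =>
    intro X h g hg
    by_cases hX : X = ⊤
    · have : g = 1 := LinearEquiv.ext fun x => hg.2 x (hX ▸ Submodule.mem_top)
      rw [this]; exact one_mem _
    obtain ⟨a, ha⟩ : ∃ a, a ∉ X := by
      by_contra hc
      push Not at hc
      exact hX ((Submodule.eq_top_iff').2 hc)
    have hga : g a ∉ X := fun hm => ha (by
      have := hg.2 _ hm
      rwa [← g.injective this])
    obtain ⟨t, ht, e⟩ := exists_T_map hB hA X ha hga (fun x hx => by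
      conv_rhs => rw [← hg.2 x hx, hg.1])
    have hk : t⁻¹ * g ∈ T hA (X ⊔ Submodule.span F {a}) := by
      refine ih _ (by rw [Submodule.finrank_sup_span_singleton ha]; omega) ⟨?_, ?_⟩
      · exact mul_mem (inv_mem (T_le_iso hA X ht)) hg.1
      · intro x hx
        obtain ⟨y, hy, z, hz, rfl⟩ := Submodule.mem_sup.1 hx
        obtain ⟨c, rfl⟩ := Submodule.mem_span_singleton.1 hz
        rw [LinearEquiv.mul_apply]
        refine t.injective ?_
        rw [← LinearEquiv.mul_apply t, mul_inv_cancel]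
        show g (y + c • a) = t (y + c • a)
        rw [map_add, map_add, map_smul, map_smul, hg.2 y hy, (T_le_fixer hA X ht).2 y hy, e]
    have := mul_mem ht (T_mono hA le_sup_left hk)
    rwa [mul_inv_cancel_left] at this

theorem Fx_le_closure (hB : B.Nondegenerate) (hA : B.IsAlt) (X : Submodule F V) :
    Fx B X ≤ Subgroup.closure {g : iso B | ∃ w ∈ B.orthogonal X, ∃ c, g = tvG hA w c} := by
  intro g hg
  have h := fixer_le_T hB hA _ X le_add_self (Subgroup.mem_subgroupOf.1 hg)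
  have hmap : (Subgroup.closure {g : iso B | ∃ w ∈ B.orthogonal X, ∃ c, g = tvG hA w c}).map (iso B).subtype =
      T hA X := by
    rw [MonoidHom.map_closure, T]
    congr 1
    ext t
    constructor
    · rintro ⟨_, ⟨w, hw, c, rfl⟩, rfl⟩
      exact ⟨w, hw, c, rfl⟩
    · rintro ⟨w, hw, c, rfl⟩
      exact ⟨tvG hA w c, ⟨w, hw, c, rfl⟩, rfl⟩
  rw [← hmap] at h
  obtain ⟨g', hg', e⟩ := h
  exact Subtype.ext (show g'.1 = g.1 from e) ▸ hg'

variable {n : ℕ} {v v' : V} (D : Frame B n v v')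
include D

theorem Frame.tv_mem_fx {w : V} (hw : w ∈ D.W) (c : F) : tvG D.alt w c ∈ Fx B (plane F v v') :=
  mem_Fx.2 fun x hx => by
    show tv D.alt w c x = x
    rw [tv_apply, show B x w = 0 from hw x hx, mul_zero, zero_smul, add_zero]

theorem Frame.exists_scale {w : V} (hw : w ∈ D.W) (hw0 : w ≠ 0) {κ : F} (hκ : κ ≠ 0) :
    ∃ g ∈ Fx B (plane F v v'), g.1 w = κ • w :=
  exists_Fx D.nondeg D.alt (not_mem_of_perp D.hX hw hw0)
    (not_mem_of_perp D.hX (D.W.smul_mem κ hw) (smul_ne_zero hκ hw0)) (fun x hx => by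
      rw [show B x w = 0 from hw x hx, show B x (κ • w) = 0 from D.W.smul_mem κ hw x hx])

/-- A square other than one expresses a transvection as a commutator. -/
theorem Frame.tv_eq_comm {w : V} (hw : w ∈ D.W) (hw0 : w ≠ 0) {κ : F} (hκ : κ ≠ 0) (h : κ ^ 2 ≠ 1) (c : F) :
    ∃ g ∈ Fx B (plane F v v'), g.1 w = κ • w ∧ tvG D.alt w c = ⁅g, tvG D.alt w (c / (κ ^ 2 - 1))⁆ := by
  obtain ⟨g, hg, e⟩ := D.exists_scale hw hw0 hκ
  refine ⟨g, hg, e, ?_⟩
  have hinv : (tvG D.alt w (c / (κ ^ 2 - 1)))⁻¹ = tvG D.alt w (-(c / (κ ^ 2 - 1))) :=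
    inv_eq_of_mul_eq_one_right (by rw [← tvG_add, add_neg_cancel]; exact Subtype.ext (tv_zero D.alt w))
  rw [commutatorElement_def, tvG_conj, e, hinv]
  have hs : tvG D.alt (κ • w) (c / (κ ^ 2 - 1)) = tvG D.alt w (κ ^ 2 * (c / (κ ^ 2 - 1))) :=
    Subtype.ext (tv_smul D.alt w κ _)
  rw [hs, ← tvG_add]
  congr 1
  have := sub_ne_zero.2 h
  field_simp
  ring

/-- The fixer of the pair is perfect. -/
theorem Frame.fx_perfect [Fintype F] (hq : 3 ≤ Fintype.card F) (h : 2 ≤ n ∨ 4 ≤ Fintype.card F) :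
    Fx B (plane F v v') ≤ ⁅Fx B (plane F v v'), Fx B (plane F v v')⁆ := by
  classical
  refine (Fx_le_closure D.nondeg D.alt _).trans ((Subgroup.closure_le _).2 ?_)
  rintro _ ⟨w, hw, c, rfl⟩
  rcases eq_or_ne w 0 with rfl | hw0
  · rw [show tvG D.alt (0 : V) c = 1 from Subtype.ext (LinearEquiv.ext fun x => by simp [tvG])]
    exact one_mem _
  by_cases hκ : ∃ κ : F, κ ≠ 0 ∧ κ ^ 2 ≠ 1
  · obtain ⟨κ, h0, h1⟩ := hκ
    obtain ⟨g, hg, -, e⟩ := D.tv_eq_comm hw hw0 h0 h1 c
    rw [e]
    exact Subgroup.commutator_mem_commutator hg (D.tv_mem_fx hw _)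
  push Not at hκ
  have h3 : Fintype.card F ≤ 3 := by
    have : (Finset.univ : Finset F) ⊆ {0, 1, -1} := fun x _ => by
      simp only [Finset.mem_insert, Finset.mem_singleton]
      rcases eq_or_ne x 0 with h | h
      · exact Or.inl h
      · exact Or.inr (sq_eq_one_iff.1 (hκ x h))
    exact (Finset.card_le_card this).trans (Finset.card_le_three)
  have h2 : (2 : F) ≠ 0 := fun e => by
    haveI : CharP F 2 := CharTwo.of_one_ne_zero_of_two_eq_zero one_ne_zero e
    have : (Finset.univ : Finset F) ⊆ {0, 1} := fun x _ => by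
      simp only [Finset.mem_insert, Finset.mem_singleton]
      rcases eq_or_ne x 0 with h | h
      · exact Or.inl h
      · rcases sq_eq_one_iff.1 (hκ x h) with h' | h'
        · exact Or.inr h'
        · exact Or.inr (h'.trans (CharTwo.neg_eq 1))
    have := (Finset.card_le_card this).trans Finset.card_le_two
    rw [Finset.card_univ] at this
    omega
  have hn : 2 ≤ n := by omega
  -- a second vector orthogonal to the first
  obtain ⟨f, hfW, hwf, hfw⟩ : ∃ f ∈ D.W, B w f = 0 ∧ f ∉ Submodule.span F {w} := by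
    have hU : Submodule.span F {w} ≤ D.W := (Submodule.span_singleton_le_iff_mem _ _).2 hw
    have hd := finrank_perp_sup D.nondeg D.hX hU
    rw [D.finrank_W, finrank_span_singleton hw0] at hd
    by_contra hc
    push Not at hc
    have hle : B.orthogonal (plane F v v' ⊔ Submodule.span F {w}) ≤ Submodule.span F {w} := fun x hx =>
      hc x (fun y hy => hx y (Submodule.mem_sup_left hy))
        (hx w (Submodule.mem_sup_right (Submodule.mem_span_singleton_self w)))
    have := Submodule.finrank_mono hle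
    rw [finrank_span_singleton hw0] at this
    omega
  set K := Fx B (plane F v v')
  let π : K →* Abelianization K := Abelianization.of
  let τ : ∀ z : V, z ∈ D.W → F → K := fun z hz d => ⟨tvG D.alt z d, D.tv_mem_fx hz d⟩
  have hmul : ∀ z hz d d', τ z hz (d + d') = τ z hz d * τ z hz d' := fun z hz d d' => Subtype.ext (tvG_add D.alt z d d')
  have hsame : ∀ z (hz : z ∈ D.W), z ≠ 0 → ∀ d, π (τ z hz d) = π (τ w hw d) := by
    intro z hz hz0 d
    obtain ⟨g, hg, e⟩ := exists_Fx D.nondeg D.alt (not_mem_of_perp D.hX hw hw0) (not_mem_of_perp D.hX hz hz0)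
      (fun x hx => (hw x hx).trans (hz x hx).symm)
    have : τ z hz d = ⟨g, hg⟩ * τ w hw d * (⟨g, hg⟩ : K)⁻¹ := Subtype.ext (by
      show tvG D.alt z d = g * tvG D.alt w d * g⁻¹
      rw [tvG_conj, e])
    rw [this, map_mul, map_mul, map_inv, mul_inv_cancel_comm]
  have hf0 : f ≠ 0 := fun e => hfw (e ▸ Submodule.zero_mem _)
  have hne1 : w + f ≠ 0 := fun e => hfw (by
    rw [eq_neg_of_add_eq_zero_right e]
    exact Submodule.neg_mem _ (Submodule.mem_span_singleton_self w))
  have hne2 : w - f ≠ 0 := fun e => hfw (by rw [← sub_eq_zero.1 e]; exact Submodule.mem_span_singleton_self w)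
  have key : ∀ d, π (τ w hw (2 * d)) = 1 := fun d => by
    have hid : τ (w + f) (add_mem hw hfW) d * τ (w - f) (sub_mem hw hfW) d = τ w hw (2 * d) * τ f hfW (2 * d) := by
      refine Subtype.ext (Subtype.ext (LinearEquiv.ext fun x => ?_))
      show tv D.alt (w + f) d (tv D.alt (w - f) d x) = tv D.alt w (2 * d) (tv D.alt f (2 * d) x)
      simp only [tv_apply, map_add, map_sub, map_smul, LinearMap.add_apply, LinearMap.sub_apply,
        LinearMap.smul_apply, D.self, hwf, D.alt.isRefl _ _ hwf, smul_zero, sub_zero, add_zero]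
      module
    have h4 := congrArg π hid
    rw [map_mul, map_mul, hsame _ (add_mem hw hfW) hne1, hsame _ (sub_mem hw hfW) hne2, hsame _ hfW hf0, two_mul,
      hmul w hw, map_mul] at h4
    rw [two_mul, hmul w hw, map_mul]
    exact mul_eq_left.1 h4.symm
  have h5 := key (c / 2)
  rw [mul_div_cancel₀ c h2] at h5
  have h6 : τ w hw c ∈ commutator K := by
    rw [← Abelianization.ker_of, MonoidHom.mem_ker]
    exact h5
  rw [← Subgroup.map_subtype_commutator K]
  exact ⟨_, h6, rfl⟩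

omit D in
/-- A conjugate of a subgroup. -/
def conjBy (g : iso B) (H : Subgroup (iso B)) : Subgroup (iso B) := H.map (MulAut.conj g).toMonoidHom

omit D in
theorem mem_conjBy {g x : iso B} {H : Subgroup (iso B)} : x ∈ conjBy g H ↔ g⁻¹ * x * g ∈ H := by
  rw [conjBy, Subgroup.mem_map_equiv, MulAut.conj_symm_apply]

omit D in
theorem index_conjBy (g : iso B) (H : Subgroup (iso B)) : (conjBy g H).index = H.index :=
  Subgroup.index_map_equiv _ (MulAut.conj g)

theorem Frame.el_zero_comm {a : V} (ha : B v a = 0) (c e : F) : D.el 0 c * D.el a e = D.el a e * D.el 0 c := by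
  rw [D.el_mul (map_zero _) ha, D.el_mul ha (map_zero _), zero_add, add_zero]
  simp [add_comm c e]

theorem Frame.rad_conj_el {q : iso B} (hq : q ∈ D.rad) {a : V} (ha : a ∈ D.W) (c : F) :
    ∃ c', q * D.el a c * q⁻¹ = D.el a c' := by
  obtain ⟨b, hb, e, rfl⟩ := hq
  rw [D.el_inv (D.W_v hb), D.el_mul (D.W_v hb) (D.W_v ha),
    D.el_mul (by rw [map_add, D.W_v hb, D.W_v ha, add_zero]) (by rw [map_neg, D.W_v hb, neg_zero]),
    add_neg_cancel_comm]
  exact ⟨_, rfl⟩

theorem Frame.rad_conj_zero {q : iso B} (hq : q ∈ D.rad) (c : F) : q * D.el 0 c * q⁻¹ = D.el 0 c := by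
  obtain ⟨b, hb, e, rfl⟩ := hq
  rw [← D.el_zero_comm (D.W_v hb), mul_inv_cancel_right]

theorem Frame.sbar_conjBy {q : iso B} (hq : q ∈ D.rad) (H : Subgroup (iso B)) :
    D.sbar (conjBy q H) = D.sbar H := by
  ext a
  constructor
  · rintro ⟨ha, c, hc⟩
    obtain ⟨c', e⟩ := D.rad_conj_el (inv_mem hq) ha c
    rw [inv_inv] at e
    exact ⟨ha, c', e ▸ mem_conjBy.1 hc⟩
  · rintro ⟨ha, c, hc⟩
    obtain ⟨c', e⟩ := D.rad_conj_el hq ha c
    refine ⟨ha, c', mem_conjBy.2 ?_⟩
    rw [← e, show q⁻¹ * (q * D.el a c * q⁻¹) * q = D.el a c by group]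
    exact hc

theorem Frame.rsub_conjBy {q : iso B} (hq : q ∈ D.rad) (H : Subgroup (iso B)) :
    D.rsub (conjBy q H) = D.rsub H := by
  ext c
  rw [D.mem_rsub, D.mem_rsub, mem_conjBy]
  conv_lhs => rw [← D.rad_conj_zero hq c, show q⁻¹ * (q * D.el 0 c * q⁻¹) * q = D.el 0 c by group]

theorem Frame.levi_le_conjBy {q : iso B} (hq : q ∈ D.rad) (H : Subgroup (iso B)) :
    D.levi H ≤ D.levi (conjBy q H) := by
  rintro g ⟨hg, p, hp, h⟩
  refine ⟨hg, q * p * (g * q⁻¹ * g⁻¹), mul_mem (mul_mem hq hp) (D.conj_rad hg (inv_mem hq)), mem_conjBy.2 ?_⟩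
  rw [show q⁻¹ * (q * p * (g * q⁻¹ * g⁻¹) * g) * q = p * g by group]
  exact h

/-- If a torus element other than the identity lifts, a conjugate contains it. -/
theorem Frame.exists_tor_mem [Finite F] {H : Subgroup (iso B)} {ν : Fˣ} (hν : ν ≠ 1)
    (h : D.tor ν ∈ D.levi H) : ∃ q ∈ D.rad, D.tor ν ∈ conjBy q H := by
  obtain ⟨a, ha, c, hc⟩ := D.exists_lift h
  have h1 : (ν : F) - 1 ≠ 0 := sub_ne_zero.2 fun e => hν (Units.ext e)
  set y := ((ν : F) - 1)⁻¹ • a with hy
  have hyW : y ∈ D.W := Submodule.smul_mem _ _ ha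
  have hconj : ∀ b ∈ D.W, ∀ e : F, D.tor ν * D.el b e * (D.tor ν)⁻¹ = D.el ((ν : F) • b) ((ν : F) ^ 2 * e) :=
    fun b hb e => by rw [D.el_conj (D.tor_mem ν) hb, D.nu_tor, D.tor_W ν hb]
  obtain ⟨c1, hc1⟩ : ∃ c1, D.el y 0 * (D.el a c * D.tor ν) * (D.el y 0)⁻¹ = D.el 0 c1 * D.tor ν := by
    rw [show D.el y 0 * (D.el a c * D.tor ν) * (D.el y 0)⁻¹ =
      D.el y 0 * D.el a c * (D.tor ν * (D.el y 0)⁻¹ * (D.tor ν)⁻¹) * D.tor ν by group, D.el_inv (D.W_v hyW),
      hconj _ (neg_mem hyW), D.el_mul (D.W_v hyW) (D.W_v ha),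
      D.el_mul (by rw [map_add, D.W_v hyW, D.W_v ha, add_zero])
        (by rw [map_smul, map_neg, D.W_v hyW, neg_zero, smul_zero])]
    refine ⟨_, congrArg₂ (fun u w => D.el u w * D.tor ν) ?_ rfl⟩
    have : ((ν : F) - 1) • y = a := by rw [hy, smul_inv_smul₀ h1]
    rw [← this, sub_smul, one_smul]
    module
  have hH1 : D.el 0 c1 * D.tor ν ∈ conjBy (D.el y 0) H := by
    rw [mem_conjBy, ← hc1,
      show (D.el y 0)⁻¹ * (D.el y 0 * (D.el a c * D.tor ν) * (D.el y 0)⁻¹) * D.el y 0 = D.el a c * D.tor ν by group]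
    exact hc
  by_cases h2 : (ν : F) ^ 2 = 1
  · -- the square
    refine ⟨D.el y 0, D.el_mem_rad hyW 0, ?_⟩
    have hsq : D.tor ν * D.tor ν = 1 := Subtype.ext (LinearEquiv.ext fun x => by
      show (D.tor ν).1 ((D.tor ν).1 x) = x
      have e : ((ν⁻¹ : Fˣ) : F) = ν := by
        rw [Units.val_inv_eq_inv_val]
        exact inv_eq_of_mul_eq_one_right (by rw [← sq]; exact h2)
      rw [D.tor_apply, D.tor_apply, e]
      simp only [map_add, map_smul, LinearMap.add_apply, LinearMap.smul_apply, smul_eq_mul, D.self, D.pair,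
        mul_zero, add_zero, mul_one]
      match_scalars <;> grind)
    have h3 := mul_mem hH1 hH1
    rw [show D.el 0 c1 * D.tor ν * (D.el 0 c1 * D.tor ν) =
      D.el 0 c1 * (D.tor ν * D.el 0 c1 * (D.tor ν)⁻¹) * (D.tor ν * D.tor ν) by group, hsq, mul_one,
      hconj _ (zero_mem _), smul_zero, h2, one_mul, D.el_mul (map_zero _) (map_zero _), add_zero] at h3
    simp only [LinearMap.map_zero, LinearMap.zero_apply, map_zero, add_zero] at h3
    have hc2 : c1 ∈ D.rsub (conjBy (D.el y 0) H) := by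
      have h2' : (2 : F) ≠ 0 := fun e => h1 (by
        have : ((ν : F) - 1) * ((ν : F) - 1) = 0 := by linear_combination h2 + (1 - (ν : F)) * e
        exact mul_self_eq_zero.1 this)
      set R := D.rsub (conjBy (D.el y 0) H)
      have hs : Function.Surjective (fun z : R => z + z) := by
        refine Finite.injective_iff_surjective.1 fun z w e => Subtype.ext ?_
        have e' : z.1 + z.1 = w.1 + w.1 := congrArg Subtype.val e
        refine mul_left_cancel₀ h2' ?_
        rw [two_mul, two_mul, e']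
      obtain ⟨z, hz⟩ := hs ⟨c1 + c1, h3⟩
      have e' : z.1 + z.1 = c1 + c1 := congrArg Subtype.val hz
      have : z.1 = c1 := mul_left_cancel₀ h2' (by rw [two_mul, two_mul, e'])
      exact this ▸ z.2
    exact (Subgroup.mul_mem_cancel_left _ hc2).1 hH1
  · set e := c1 / ((ν : F) ^ 2 - 1) with he
    refine ⟨D.el 0 e * D.el y 0, mul_mem (D.el_mem_rad (zero_mem _) e) (D.el_mem_rad hyW 0), mem_conjBy.2 ?_⟩
    have := mem_conjBy.1 hH1
    convert this using 1
    rw [mul_inv_rev, D.el_inv (map_zero _), neg_zero]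
    have e2 : D.el 0 (-e) * D.tor ν * D.el 0 e = D.el 0 c1 * D.tor ν := by
      rw [show D.el 0 (-e) * D.tor ν * D.el 0 e =
        D.el 0 (-e) * (D.tor ν * D.el 0 e * (D.tor ν)⁻¹) * D.tor ν by group, hconj _ (zero_mem _), smul_zero,
        D.el_mul (map_zero _) (map_zero _), add_zero]
      simp only [LinearMap.map_zero, LinearMap.zero_apply, map_zero, add_zero]
      congr 2
      have := sub_ne_zero.2 h2
      rw [he]
      field_simp
      ring
    rw [← e2]
    group

/-- The commutators of liftable elements lie in the subgroup. -/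
theorem Frame.comm_le [Finite V] {H : Subgroup (iso B)} {ν : Fˣ} (hν : ν ≠ 1) (htor : D.tor ν ∈ H)
    {K : Subgroup (iso B)} (hK : K ≤ Fx B (plane F v v')) (hKJ : K ≤ D.levi H) : ⁅K, K⁆ ≤ H := by
  have h1 : (ν : F) - 1 ≠ 0 := sub_ne_zero.2 fun e => hν (Units.ext e)
  have htJ : D.tor ν ∈ D.levi H := ⟨D.tor_mem ν, 1, one_mem _, by rwa [one_mul]⟩
  have hclean : ∀ g ∈ K, ∃ c, D.el 0 c * g ∈ H := by
    intro g hg
    obtain ⟨a, ha, c, hc⟩ := D.exists_lift (hKJ hg)
    have h2 := mul_mem (mul_mem (mul_mem htor hc) (inv_mem htor)) (inv_mem hc)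
    rw [show D.tor ν * (D.el a c * g) * (D.tor ν)⁻¹ * (D.el a c * g)⁻¹ =
      D.tor ν * D.el a c * (D.tor ν)⁻¹ * (D.tor ν * g * (D.tor ν)⁻¹ * g⁻¹) * (D.el a c)⁻¹ by group,
      D.tor_comm ν (hK hg), mul_inv_cancel_right, mul_inv_cancel, mul_one, D.el_conj (D.tor_mem ν) ha,
      D.nu_tor, D.tor_W ν ha, D.el_inv (D.W_v ha),
      D.el_mul (by rw [map_smul, D.W_v ha, smul_zero]) (by rw [map_neg, D.W_v ha, neg_zero])] at h2
    have hb : ((ν : F) - 1) • a ∈ D.sbar H :=
      ⟨Submodule.smul_mem _ _ ha, _, by rw [sub_smul, one_smul, sub_eq_add_neg]; exact h2⟩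
    have hst : ∀ b ∈ D.sbar H, ((ν : F) - 1) • b ∈ D.sbar H := fun b hb' => by
      have h := D.levi_sbar htJ hb'
      rw [D.nu_tor, D.tor_W ν hb'.1] at h
      rw [sub_smul, one_smul]
      exact sub_mem h hb'
    have hs : Function.Surjective (fun b : D.sbar H => (⟨_, hst b.1 b.2⟩ : D.sbar H)) :=
      Finite.injective_iff_surjective.1 fun b b' e =>
        Subtype.ext (smul_right_injective V h1 (congrArg Subtype.val e))
    obtain ⟨b, hb'⟩ := hs ⟨_, hb⟩
    have hba : b.1 = a := smul_right_injective V h1 (congrArg Subtype.val hb')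
    obtain ⟨-, e, he⟩ := hba ▸ b.2
    refine ⟨-e + c + B a (-a), ?_⟩
    have := mul_mem (inv_mem he) hc
    rwa [← mul_assoc, D.el_inv (D.W_v ha), D.el_mul (by rw [map_neg, D.W_v ha, neg_zero]) (D.W_v ha),
      neg_add_cancel] at this
  refine Subgroup.commutator_le.2 fun g hg k hk => ?_
  obtain ⟨c, hc⟩ := hclean g hg
  obtain ⟨e, he⟩ := hclean k hk
  have hcomm : ∀ g ∈ K, ∀ c : F, g * D.el 0 c = D.el 0 c * g := fun g hg c => by
    have := D.el_conj (D.fx_le_lev (hK hg)) (zero_mem D.W) c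
    rw [D.nu_fx (hK hg), map_zero, smul_zero, one_pow, one_mul] at this
    conv_rhs => rw [← this, inv_mul_cancel_right]
  have hcc : ∀ c e : F, D.el 0 c * D.el 0 e = D.el 0 e * D.el 0 c := fun c e => D.el_zero_comm (map_zero _) c e
  have := Subgroup.commutator_mem_commutator hc he
  have hle : ⁅H, H⁆ ≤ H := Subgroup.commutator_le.2 fun x hx y hy => by
    rw [commutatorElement_def]
    exact mul_mem (mul_mem (mul_mem hx hy) (inv_mem hx)) (inv_mem hy)
  have e1 : ⁅D.el 0 c * g, D.el 0 e * k⁆ = ⁅g, k⁆ := by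
    have a1 : Commute (D.el 0 c) g := (hcomm g hg c).symm
    have a2 : Commute (D.el 0 c) k := (hcomm k hk c).symm
    have b1 : Commute (D.el 0 e) g := (hcomm g hg e).symm
    have b2 : Commute (D.el 0 e) k := (hcomm k hk e).symm
    have cd : Commute (D.el 0 c) (D.el 0 e) := hcc c e
    rw [commutatorElement_def, commutatorElement_def, mul_inv_rev, mul_inv_rev]
    calc D.el 0 c * g * (D.el 0 e * k) * (g⁻¹ * (D.el 0 c)⁻¹) * (k⁻¹ * (D.el 0 e)⁻¹)
        = D.el 0 c * (g * D.el 0 e) * k * g⁻¹ * ((D.el 0 c)⁻¹ * k⁻¹) * (D.el 0 e)⁻¹ := by group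
      _ = D.el 0 c * D.el 0 e * (g * k * g⁻¹ * k⁻¹) * (D.el 0 c)⁻¹ * (D.el 0 e)⁻¹ := by
          rw [b1.symm.eq, (a2.inv_left.inv_right).eq]; group
      _ = g * k * g⁻¹ * k⁻¹ := by
          have a : Commute (D.el 0 c * D.el 0 e) (g * k * g⁻¹ * k⁻¹) :=
            ((((a1.mul_left b1).mul_right (a2.mul_left b2)).mul_right (a1.mul_left b1).inv_right).mul_right
              (a2.mul_left b2).inv_right)
          rw [a.eq, cd.eq]; group
  rw [← e1]
  exact hle this

end Cfsg.Lib.Linear.MinIndexSp
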