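import Cfsg.Agent.Lib.Linear.MinIndexSp.Cases
import Cfsg.Agent.Lib.Linear.MinIndexSp.Full
import Cfsg.Agent.Lib.Linear.MinIndexSp.Fourier
import Cfsg.Prelude.Def_Classical

/-!
# The minimal index of a proper subgroup of a symplectic group over a field with at least three elements
-/

set_option autoImplicit false
set_option linter.unusedSectionVars false

namespace Cfsg.Lib.Linear.MinIndexSp

open Module
open Cfsg.Lib.Linear.Symp
open scoped LinearAlgebra.Projectivization

variable {ι : Type} [Fintype ι] [DecidableEq ι] {F : Type*} [Field F] [Fintype F]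
  {B : LinearMap.BilinForm F (ι → F)}

/-- No proper subgroup has index less than the number of points. -/
theorem no_small {n : ℕ} (hB : B.Nondegenerate) (hA : B.IsAlt) (hdim : finrank F (ι → F) = 2 * (n + 1))
    (hn : 1 ≤ n) (hq : 3 ≤ Fintype.card F) (hexc : 2 ≤ n ∨ 4 ≤ Fintype.card F) (H : Subgroup (iso B))
    (hproper : H ≠ ⊤) : ¬ H.index * (Fintype.card F - 1) + 1 < Fintype.card F ^ (2 * (n + 1)) := by
  classical
  intro hN
  obtain ⟨v, hv⟩ : ∃ v, ¬ Good hA H v := by
    by_contra h
    push Not at h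
    exact hproper (eq_top_of_good hB h)
  have hv0 : v ≠ 0 := fun e => hv (e ▸ Good.zero)
  obtain ⟨x, hx⟩ := exists_apply_ne_zero hB hv0
  have hxv : B v x ≠ 0 := fun e => hx (hA.isRefl _ _ e)
  have D : Frame B n v ((B v x)⁻¹ • x) :=
    ⟨hB, hA, by rw [map_smul, smul_eq_mul, inv_mul_cancel₀ hxv], hdim⟩
  have hbad : D.rsub H ≠ ⊤ := fun e => hv fun c => by
    have : c ∈ D.rsub H := e ▸ trivial
    rw [D.mem_rsub, D.el_zero] at this
    exact this
  have S : Small D H := ⟨hproper, hN, hbad, hq, hn, hexc⟩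
  by_cases h0 : ∀ a ∈ D.sbar H, a = 0
  · refine D.zero_false S ?_
    rw [AddSubgroup.eq_bot_iff_forall _ |>.2 h0, AddSubgroup.card_bot]
  push Not at h0
  by_cases h2 : (2 : F) = 0
  swap
  · exact D.odd_false S h2 h0
  by_cases hfull : ∀ w ∈ D.W, w ∈ D.sbar H
  · exact D.full_false S h2 hfull
  push Not at hfull
  haveI : CharP F 2 := CharTwo.of_one_ne_zero_of_two_eq_zero one_ne_zero h2
  by_cases hs : Nat.card (D.sbar H) ≤ Fintype.card F ^ (if n = 1 then 1 else 2)
  · exact D.even_small_false S h2 h0 hs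
  refine D.fourier_false S hfull ?_
  -- the orders are powers of two
  obtain ⟨k, -, hk⟩ := FiniteField.card F 2
  have hdvd : Nat.card (D.sbar H) ∣ Nat.card D.W := by
    have hle : D.sbar H ≤ D.W.toAddSubgroup := fun a ha => ha.1
    rw [← Nat.card_congr (AddSubgroup.addSubgroupOfEquivOfLe hle).toEquiv]
    exact AddSubgroup.card_addSubgroup_dvd_card _
  rw [D.card_W, Nat.card_eq_fintype_card (α := F), hk, ← pow_mul] at hdvd
  obtain ⟨i, -, hi⟩ := (Nat.dvd_prime_pow Nat.prime_two).1 hdvd
  rw [hi, hk, ← pow_mul] at hs ⊢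
  rw [← pow_succ']
  exact Nat.pow_le_pow_right two_pos ((Nat.pow_lt_pow_iff_right (by norm_num)).1 (Nat.lt_of_not_le hs))

/-- The statement for the projective group. -/
theorem min_index (m : ℕ) (hm : 2 ≤ m) (hq : 3 ≤ Fintype.card F) (hexc : ¬ (m = 2 ∧ Fintype.card F = 3)) :
    (∀ H : Subgroup (Cfsg.PSp m F), H ≠ ⊤ →
        (Fintype.card F ^ (2 * m) - 1) / (Fintype.card F - 1) ≤ H.index) ∧
      ∃ H : Subgroup (Cfsg.PSp m F), H.index = (Fintype.card F ^ (2 * m) - 1) / (Fintype.card F - 1) := by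
  classical
  obtain ⟨n, rfl⟩ : ∃ n, m = n + 1 := ⟨m - 1, by omega⟩
  have hB := spB_nondegenerate (n + 1) F
  have hA := spB_isAlt (n + 1) F
  have hdim : finrank F (Fin (n + 1) ⊕ Fin (n + 1) → F) = 2 * (n + 1) := finrank_space
  set q := Fintype.card F with hqdef
  set P := (q ^ (2 * (n + 1)) - 1) / (q - 1) with hP
  have hdvd : q - 1 ∣ q ^ (2 * (n + 1)) - 1 := by
    simpa using Nat.sub_dvd_pow_sub_pow q 1 (2 * (n + 1))
  have hPq : P * (q - 1) = q ^ (2 * (n + 1)) - 1 := Nat.div_mul_cancel hdvd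
  set φ : iso (spB (n + 1) F) →* Cfsg.PSp (n + 1) F :=
    (QuotientGroup.mk' (Subgroup.center (Matrix.symplecticGroup (Fin (n + 1)) F))).comp spEquiv.symm.toMonoidHom
  have hsurj : Function.Surjective φ := (QuotientGroup.mk'_surjective _).comp spEquiv.symm.surjective
  refine ⟨fun H hH => ?_, ?_⟩
  · by_contra hlt
    push Not at hlt
    have hne : H.comap φ ≠ ⊤ := fun e => hH (Subgroup.index_eq_one.1 (by
      rw [← H.index_comap_of_surjective hsurj, e, Subgroup.index_top]))
    refine no_small hB hA hdim (by omega) hq (by omega) (H.comap φ) hne ?_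
    rw [H.index_comap_of_surjective hsurj]
    have h1 : (H.index + 1) * (q - 1) ≤ P * (q - 1) := Nat.mul_le_mul_right _ hlt
    rw [hPq, add_mul, one_mul] at h1
    have h2 : 1 ≤ q ^ (2 * (n + 1)) := Nat.one_le_pow _ _ (by omega)
    have h3 : 3 ≤ q := hq
    show H.index * (q - 1) + 1 < q ^ (2 * (n + 1))
    omega
  · haveI := isPretransitive (B := spB (n + 1) F) hB hA
    obtain ⟨x, hx⟩ : ∃ x : Fin (n + 1) ⊕ Fin (n + 1) → F, x ≠ 0 := exists_ne 0
    let p : ℙ F (Fin (n + 1) ⊕ Fin (n + 1) → F) := Projectivization.mk F x hx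
    refine ⟨(MulAction.stabilizer (iso (spB (n + 1) F)) p).map φ, ?_⟩
    rw [Subgroup.index_map_eq _ hsurj (fun g hg => ?_), MulAction.index_stabilizer_of_transitive,
      Projectivization.card'' F]
    · rw [Nat.card_eq_fintype_card (α := F), Module.natCard_eq_pow_finrank (K := F), hdim,
        Nat.card_eq_fintype_card (α := F)]
    · have hc : g ∈ Subgroup.center (iso (spB (n + 1) F)) := by
        have h1 : spEquiv.symm g ∈ Subgroup.center (Matrix.symplecticGroup (Fin (n + 1)) F) :=
          (QuotientGroup.eq_one_iff _).1 hg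
        rw [Subgroup.mem_center_iff] at h1 ⊢
        intro k
        refine spEquiv.symm.injective ?_
        rw [map_mul, map_mul, h1]
      obtain ⟨a, ha, hga⟩ := (mem_center_iff_smul hB hA g).1 hc
      rw [MulAction.mem_stabilizer_iff]
      show g • Projectivization.mk F x hx = Projectivization.mk F x hx
      rw [smul_mk', Projectivization.mk_eq_mk_iff']
      exact ⟨a, (hga x).symm⟩

end Cfsg.Lib.Linear.MinIndexSp
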