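import Cfsg.Agent.Lib.Linear.MinIndexSp.Count
import Cfsg.Agent.Lib.Linear.SymplecticGroup

/-!
# The orbit of a subspace under the isometries fixing a non-degenerate subspace
-/

set_option autoImplicit false
set_option linter.unusedSectionVars false

namespace Cfsg.Lib.Linear.MinIndexSp

open Module
open Cfsg.Lib.Linear.Symp

variable {F V : Type*} [Field F] [AddCommGroup V] [Module F V]
  {B : LinearMap.BilinForm F V}

/-- The isometries fixing a subspace pointwise, among the isometries. -/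
def Fx (B : LinearMap.BilinForm F V) (X : Submodule F V) : Subgroup (iso B) := (fixer B X).subgroupOf (iso B)

theorem mem_Fx {X : Submodule F V} {g : iso B} : g ∈ Fx B X ↔ ∀ x ∈ X, g.1 x = x :=
  Subgroup.mem_subgroupOf.trans ⟨fun h => h.2, fun h => ⟨g.2, h⟩⟩

theorem exists_Fx [FiniteDimensional F V] (hB : B.Nondegenerate) (hA : B.IsAlt) {X : Submodule F V} {a b : V} (ha : a ∉ X)
    (hb : b ∉ X) (h : ∀ x ∈ X, B x a = B x b) : ∃ g ∈ Fx B X, g.1 a = b := by
  obtain ⟨t, ht, e⟩ := exists_T_map hB hA X ha hb h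
  exact ⟨⟨t, T_le_iso hA X ht⟩, Subgroup.mem_subgroupOf.2 (T_le_fixer hA X ht), e⟩

/-- The image of a subspace. -/
def mv (g : iso B) (U : Submodule F V) : Submodule F V := U.map (g.1 : V →ₗ[F] V)

theorem mem_mv {g : iso B} {U : Submodule F V} {y : V} : y ∈ mv g U ↔ ∃ x ∈ U, g.1 x = y := Iff.rfl

theorem apply_mem_mv {g : iso B} {U : Submodule F V} {x : V} : g.1 x ∈ mv g U ↔ x ∈ U :=
  ⟨fun ⟨_, hy, e⟩ => g.1.injective e ▸ hy, fun h => ⟨x, h, rfl⟩⟩

theorem mv_mul (g h : iso B) (U : Submodule F V) : mv (g * h) U = mv g (mv h U) := by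
  rw [mv, mv, mv, ← Submodule.map_comp]; rfl

theorem mv_one (U : Submodule F V) : mv (1 : iso B) U = U := Submodule.map_id U

theorem apply_inv (g : iso B) (y : V) : g.1 ((g⁻¹).1 y) = y := by
  show (g * g⁻¹).1 y = y
  rw [mul_inv_cancel]; rfl

theorem inv_apply (g : iso B) (y : V) : (g⁻¹).1 (g.1 y) = y := by
  show (g⁻¹ * g).1 y = y
  rw [inv_mul_cancel]; rfl

theorem card_mv (g : iso B) (U : Submodule F V) : Nat.card (mv g U) = Nat.card U :=
  (Nat.card_congr (Submodule.equivMapOfInjective _ g.1.injective U).toEquiv).symm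

theorem mv_orth (g : iso B) (U : Submodule F V) : mv g (B.orthogonal U) = B.orthogonal (mv g U) := by
  ext y
  constructor
  · rintro ⟨x, hx, rfl⟩ _ ⟨u, hu, rfl⟩
    show B (g.1 u) (g.1 x) = 0
    rw [g.2]; exact hx u hu
  · intro hy
    refine ⟨(g⁻¹).1 y, fun u hu => ?_, apply_inv g y⟩
    show B u ((g⁻¹).1 y) = 0
    rw [← g.2, apply_inv]
    exact hy _ ⟨u, hu, rfl⟩

variable [FiniteDimensional F V] {X : Submodule F V}

theorem not_mem_of_perp (hX : X ⊓ B.orthogonal X = ⊥) {x : V} (hx : x ∈ B.orthogonal X) (h0 : x ≠ 0) : x ∉ X :=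
  fun h => h0 (by
    have : x ∈ X ⊓ B.orthogonal X := ⟨h, hx⟩
    rwa [hX, Submodule.mem_bot] at this)

theorem mv_le_perp {g : iso B} (hg : g ∈ Fx B X) {U : Submodule F V} (hU : U ≤ B.orthogonal X) :
    mv g U ≤ B.orthogonal X := by
  rintro _ ⟨u, hu, rfl⟩ x hx
  show B x (g.1 u) = 0
  rw [← mem_Fx.1 hg x hx, g.2]
  exact hU hu x hx

theorem mv_fixed {g : iso B} (hg : g ∈ Fx B X) : mv g X = X := by
  ext x
  refine ⟨?_, fun hx => ⟨x, hx, mem_Fx.1 hg x hx⟩⟩
  rintro ⟨y, hy, rfl⟩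
  show g.1 y ∈ X
  rwa [mem_Fx.1 hg y hy]

theorem finrank_perp_sup (hB : B.Nondegenerate) (hX : X ⊓ B.orthogonal X = ⊥) {U : Submodule F V}
    (hU : U ≤ B.orthogonal X) :
    finrank F ↥(B.orthogonal (X ⊔ U)) + finrank F U = finrank F ↥(B.orthogonal X) := by
  rw [LinearMap.BilinForm.finrank_orthogonal hB, LinearMap.BilinForm.finrank_orthogonal hB]
  have h := Submodule.finrank_sup_add_finrank_inf_eq X U
  rw [show X ⊓ U = ⊥ from eq_bot_iff.2 (le_trans (inf_le_inf_left _ hU) hX.le), finrank_bot, add_zero] at h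
  have := Submodule.finrank_le (X ⊔ U)
  omega

/-- A functional on a subspace of the complement is given by a vector of the complement. -/
theorem exists_rep (hB : B.Nondegenerate) (hX : X ⊓ B.orthogonal X = ⊥) {U : Submodule F V}
    (hU : U ≤ B.orthogonal X) (f : U →ₗ[F] F) :
    ∃ z ∈ B.orthogonal X, ∀ u : U, B (u : V) z = f u := by
  let Φ : ↥(B.orthogonal X) →ₗ[F] (U →ₗ[F] F) :=
    { toFun := fun z => (B.flip (z : V)).comp U.subtype
      map_add' := fun z z' => LinearMap.ext fun u => map_add (B (u : V)) (z : V) (z' : V)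
      map_smul' := fun c z => LinearMap.ext fun u => map_smul (B (u : V)) c (z : V) }
  have hker : finrank F (LinearMap.ker Φ) + finrank F U = finrank F ↥(B.orthogonal X) := by
    rw [← finrank_perp_sup hB hX hU, ← Submodule.finrank_map_subtype_eq (B.orthogonal X)]
    suffices h : (LinearMap.ker Φ).map (B.orthogonal X).subtype = B.orthogonal (X ⊔ U) by rw [h]
    ext z
    constructor
    · rintro ⟨z, hz, rfl⟩ w hw
      obtain ⟨x, hx, u, hu, rfl⟩ := Submodule.mem_sup.1 hw
      show B (x + u) (z : V) = 0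
      rw [map_add, LinearMap.add_apply, z.2 x hx,
        show B u (z : V) = 0 from LinearMap.congr_fun (LinearMap.mem_ker.1 hz) ⟨u, hu⟩, add_zero]
    · intro hz
      have hzX : z ∈ B.orthogonal X := fun x hx => hz x (Submodule.mem_sup_left hx)
      exact ⟨⟨z, hzX⟩, LinearMap.mem_ker.2 (LinearMap.ext fun u => hz u (Submodule.mem_sup_right u.2)), rfl⟩
  have hrn := LinearMap.finrank_range_add_finrank_ker Φ
  have htop : LinearMap.range Φ = ⊤ := by
    refine Submodule.eq_top_of_finrank_eq ?_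
    rw [Module.finrank_linearMap, Module.finrank_self, mul_one]
    omega
  obtain ⟨z, hz⟩ := LinearMap.range_eq_top.1 htop f
  exact ⟨z, z.2, fun u => LinearMap.congr_fun hz u⟩

/-- Two vectors of a subspace with product one split it as a slice times the field. -/
theorem card_slice [Finite V] (Y : Submodule F V) {p y : V} (hy : y ∈ Y) (h : B p y = 1) :
    Nat.card Y = Nat.card {x : V // x ∈ Y ∧ B p x = 1} * Nat.card F := by
  rw [← Nat.card_prod]
  refine Nat.card_congr
    { toFun := fun z => (⟨z.1 - (B p z.1 - 1) • y, sub_mem z.2 (Y.smul_mem _ hy), by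
        rw [map_sub, map_smul, h, smul_eq_mul, mul_one, sub_sub_cancel]⟩, B p z.1)
      invFun := fun w => ⟨w.1.1 + (w.2 - 1) • y, add_mem w.1.2.1 (Y.smul_mem _ hy)⟩
      left_inv := fun z => Subtype.ext (sub_add_cancel _ _)
      right_inv := fun w => ?_ }
  have e : B p (w.1.1 + (w.2 - 1) • y) = w.2 := by
    rw [map_add, map_smul, w.1.2.2, h, smul_eq_mul, mul_one, add_sub_cancel]
  refine Prod.ext (Subtype.ext ?_) e
  show w.1.1 + (w.2 - 1) • y - (B p (w.1.1 + (w.2 - 1) • y) - 1) • y = w.1.1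
  rw [e, add_sub_cancel_right]

variable [Finite V]

/-- Counting the incidences of an orbit with the non-zero vectors of the complement. -/
theorem orbit_mul_eq (hB : B.Nondegenerate) (hA : B.IsAlt) (hX : X ⊓ B.orthogonal X = ⊥) {U : Submodule F V}
    (hU : U ≤ B.orthogonal X) {p : V} (hp : p ∈ U) (hp0 : p ≠ 0) :
    Nat.card (img mv (Fx B X) U) * (Nat.card U - 1) =
      (Nat.card ↥(B.orthogonal X) - 1) * {U' ∈ img mv (Fx B X) U | p ∈ U'}.ncard := by
  classical
  haveI := Fintype.ofFinite V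
  haveI : Finite (Submodule F V) := Finite.of_injective (fun S : Submodule F V => (S : Set V)) SetLike.coe_injective
  haveI := Fintype.ofFinite (Submodule F V)
  set O := (img mv (Fx B X) U).toFinset with hO
  set P := Finset.univ.filter fun x : V => x ∈ B.orthogonal X ∧ x ≠ 0 with hP
  have hcardP : ∀ Y : Submodule F V, (Finset.univ.filter fun x : V => x ∈ Y ∧ x ≠ 0).card = Nat.card Y - 1 := by
    intro Y
    rw [Nat.card_eq_fintype_card, Fintype.card_subtype,
      show (Finset.univ.filter fun x : V => x ∈ Y ∧ x ≠ 0) = (Finset.univ.filter fun x : V => x ∈ Y).erase 0 by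
        ext x; simp [and_comm],
      Finset.card_erase_of_mem (by simp)]
  have hmem : ∀ U', U' ∈ O ↔ U' ∈ img mv (Fx B X) U := fun U' => Set.mem_toFinset
  have h1 : ∀ U' ∈ O, (P.filter fun x => x ∈ U').card = Nat.card U - 1 := by
    intro U' hU'
    obtain ⟨g, hg, rfl⟩ := (hmem _).1 hU'
    rw [← card_mv g U, ← hcardP, hP, Finset.filter_filter]
    exact congrArg Finset.card (Finset.filter_congr fun x _ =>
      ⟨fun h => ⟨h.2, h.1.2⟩, fun h => ⟨⟨mv_le_perp hg hU h.1, h.2⟩, h.1⟩⟩)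
  have h2 : ∀ x ∈ P, ∀ y ∈ P, (O.filter fun U' => x ∈ U').card ≤ (O.filter fun U' => y ∈ U').card := by
    intro x hx y hy
    simp only [hP, Finset.mem_filter, Finset.mem_univ, true_and] at hx hy
    obtain ⟨g, hg, hgx⟩ := exists_Fx hB hA (not_mem_of_perp hX hx.1 hx.2) (not_mem_of_perp hX hy.1 hy.2)
      (fun z hz => (hx.1 z hz).trans (hy.1 z hz).symm)
    refine Finset.card_le_card_of_injOn (mv g) (fun U' hU' => ?_) ?_
    · rw [Finset.mem_coe, Finset.mem_filter, hmem] at hU' ⊢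
      obtain ⟨⟨k, hk, rfl⟩, hxU⟩ := hU'
      exact ⟨⟨g * k, mul_mem hg hk, mv_mul g k U⟩, hgx ▸ apply_mem_mv.2 hxU⟩
    · intro U₁ _ U₂ _ e
      exact Submodule.map_injective_of_injective g.1.injective e
  have hpP : p ∈ P := Finset.mem_filter.2 ⟨Finset.mem_univ _, hU hp, hp0⟩
  have h3 := Finset.sum_card_bipartiteAbove_eq_sum_card_bipartiteBelow
    (fun (U' : Submodule F V) (x : V) => x ∈ U') (s := O) (t := P)
  simp only [Finset.bipartiteAbove, Finset.bipartiteBelow] at h3
  rw [Finset.sum_congr rfl h1, Finset.sum_congr rfl (g := fun _ => (O.filter fun U' => p ∈ U').card)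
    (fun x hx => le_antisymm (h2 x hx p hpP) (h2 p hpP x hx)), Finset.sum_const, Finset.sum_const, smul_eq_mul,
    smul_eq_mul, hP, hcardP] at h3
  rw [Nat.card_coe_set_eq, Set.ncard_eq_toFinset_card', ← hO, h3]
  congr 1
  rw [Set.ncard_eq_toFinset_card']
  congr 1
  ext U'
  simp [hO]

/-- A subspace which is not totally isotropic. -/
theorem nondeg_through (hB : B.Nondegenerate) (hA : B.IsAlt) (hX : X ⊓ B.orthogonal X = ⊥) {U : Submodule F V}
    (hU : U ≤ B.orthogonal X) {p u : V} (hp : p ∈ U) (hu : u ∈ U) (hpu : B p u = 1) :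
    Nat.card ↥(B.orthogonal X) ≤ {U' ∈ img mv (Fx B X) U | p ∈ U'}.ncard * Nat.card U := by
  classical
  haveI : Finite (Submodule F V) := Finite.of_injective (fun S : Submodule F V => (S : Set V)) SetLike.coe_injective
  rw [card_slice (B := B) (B.orthogonal X) (hU hu) hpu, card_slice (B := B) U hu hpu, ← mul_assoc]
  refine Nat.mul_le_mul_right _ ?_
  have hp0 : p ≠ 0 := fun e => by simp [e] at hpu
  have hnot : ∀ x, x ∈ B.orthogonal X → B p x = 1 → x ∉ X ⊔ Submodule.span F {p} := by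
    intro x _ hx hm
    obtain ⟨a, ha, b, hb, rfl⟩ := Submodule.mem_sup.1 hm
    obtain ⟨t, rfl⟩ := Submodule.mem_span_singleton.1 hb
    rw [map_add, map_smul, hA.self_eq_zero, hA.isRefl _ _ (hU hp a ha), smul_zero, add_zero] at hx
    exact zero_ne_one hx
  have key : ∀ x : {x : V // x ∈ B.orthogonal X ∧ B p x = 1}, ∃ g ∈ Fx B X, g.1 p = p ∧ g.1 u = x.1 := by
    rintro ⟨x, hx, hpx⟩
    obtain ⟨g, hg, e⟩ := exists_Fx hB hA (hnot u (hU hu) hpu) (hnot x hx hpx) (by
      intro z hz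
      obtain ⟨a, ha, b, hb, rfl⟩ := Submodule.mem_sup.1 hz
      obtain ⟨t, rfl⟩ := Submodule.mem_span_singleton.1 hb
      simp [show B a u = 0 from hU hu a ha, show B a x = 0 from hx a ha, hpu, hpx])
    exact ⟨g, mem_Fx.2 fun z hz => mem_Fx.1 hg z (Submodule.mem_sup_left hz),
      mem_Fx.1 hg p (Submodule.mem_sup_right (Submodule.mem_span_singleton_self p)), e⟩
  choose g hg hgp hgu using key
  let A := {U' ∈ img mv (Fx B X) U | p ∈ U'}
  rw [show A.ncard = Nat.card A from (Nat.card_coe_set_eq A).symm, ← Nat.card_prod]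
  let f : {x : V // x ∈ B.orthogonal X ∧ B p x = 1} → A := fun x =>
    ⟨mv (g x) U, ⟨g x, hg x, rfl⟩, ⟨p, hp, hgp x⟩⟩
  haveI : Nonempty {x : V // x ∈ B.orthogonal X ∧ B p x = 1} := ⟨⟨u, hU hu, hpu⟩⟩
  have hf : ∀ x, f (Function.invFun f (f x)) = f x := fun x => Function.invFun_eq ⟨x, rfl⟩
  refine Nat.card_le_card_of_injective (fun x => (f x,
    (⟨((g (Function.invFun f (f x)))⁻¹).1 x.1, ?_, ?_⟩ : {y : V // y ∈ U ∧ B p y = 1}))) ?_
  · refine (apply_mem_mv (g := g (Function.invFun f (f x)))).1 ?_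
    rw [apply_inv, show mv (g (Function.invFun f (f x))) U = mv (g x) U from congrArg Subtype.val (hf x)]
    exact ⟨u, hu, hgu x⟩
  · generalize hr : Function.invFun f (f x) = r
    have h1 : (g r)⁻¹.1 p = p := by
      conv_rhs => rw [← inv_apply (g r) p, hgp]
    have h2 := ((g r)⁻¹).2 p x.1
    rw [h1] at h2
    exact h2.trans x.2.2
  · intro x y h
    have h1 : f x = f y := congrArg Prod.fst h
    have h2 := congrArg (fun z => ((Prod.snd z : {y : V // y ∈ U ∧ B p y = 1}) : V)) h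
    simp only [h1] at h2
    exact Subtype.ext ((LinearEquiv.injective _) h2)

/-- A totally isotropic subspace. -/
theorem isotropic_through [Fintype F] (hB : B.Nondegenerate) (hA : B.IsAlt) (hX : X ⊓ B.orthogonal X = ⊥)
    {U : Submodule F V} (hU : U ≤ B.orthogonal X) (hiso : ∀ x ∈ U, ∀ y ∈ U, B x y = 0) {p : V} (hp : p ∈ U)
    (hp0 : p ≠ 0) :
    Nat.card U - 1 ≤ {U' ∈ img mv (Fx B X) U | p ∈ U'}.ncard * (Fintype.card F - 1) := by
  classical
  haveI : Finite (Submodule F V) := Finite.of_injective (fun S : Submodule F V => (S : Set V)) SetLike.coe_injective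
  set A := {U' ∈ img mv (Fx B X) U | p ∈ U'} with hA'
  have hUA : U ∈ A := ⟨⟨1, one_mem _, mv_one U⟩, hp⟩
  -- functionals killing the point
  let ev : (U →ₗ[F] F) →ₗ[F] F := LinearMap.applyₗ (⟨p, hp⟩ : U)
  have hev : LinearMap.range ev = ⊤ := by
    have hne : (⟨p, hp⟩ : U) ≠ 0 := fun e => hp0 (congrArg Subtype.val e)
    obtain ⟨f, hf⟩ := Module.Projective.exists_dual_ne_zero F hne
    refine LinearMap.range_eq_top.2 fun c => ⟨(c / f ⟨p, hp⟩) • f, ?_⟩
    show (c / f ⟨p, hp⟩) * f ⟨p, hp⟩ = c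
    rw [div_mul_cancel₀ _ hf]
  haveI : Finite (U →ₗ[F] F) := Module.finite_of_finite F
  have hcard : Nat.card (LinearMap.ker ev) * Fintype.card F = Nat.card U := by
    rw [Module.natCard_eq_pow_finrank (K := F) (V := LinearMap.ker ev), Module.natCard_eq_pow_finrank (K := F) (V := U),
      Nat.card_eq_fintype_card, ← pow_succ]
    congr 1
    have := LinearMap.finrank_range_add_finrank_ker ev
    rw [hev, finrank_top, Module.finrank_self, Module.finrank_linearMap, Module.finrank_self, mul_one] at this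
    omega
  -- the data of a functional
  have hz : ∀ f : {f : LinearMap.ker ev // f ≠ 0}, ∃ z ∈ B.orthogonal X, ∀ u : U, B (u : V) z = f.1.1 u :=
    fun f => exists_rep hB hX hU f.1.1
  choose z hzW hzf using hz
  have hu : ∀ f : {f : LinearMap.ker ev // f ≠ 0}, ∃ u : U, f.1.1 u = 1 := fun f => by
    obtain ⟨u, hu⟩ : ∃ u, f.1.1 u ≠ 0 := by
      by_contra h
      push Not at h
      exact f.2 (Subtype.ext (LinearMap.ext h))
    exact ⟨(f.1.1 u)⁻¹ • u, by rw [map_smul, smul_eq_mul, inv_mul_cancel₀ hu]⟩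
  choose u hu1 using hu
  let b : {f : LinearMap.ker ev // f ≠ 0} × F → V := fun fs => z fs.1 + fs.2 • (u fs.1 : V)
  have hub : ∀ fs, B (u fs.1 : V) (b fs) = 1 := fun fs => by
    rw [map_add, map_smul, hzf, hu1, hA.self_eq_zero, smul_zero, add_zero]
  let M : {f : LinearMap.ker ev // f ≠ 0} × F → Submodule F V := fun fs =>
    (LinearMap.ker fs.1.1.1).map U.subtype ⊔ Submodule.span F {b fs}
  have hmeet : ∀ fs, ∀ x : U, (x : V) ∈ M fs ↔ fs.1.1.1 x = 0 := by
    intro fs x
    constructor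
    · intro hx
      obtain ⟨_, ⟨h, hh, rfl⟩, y, hy, e⟩ := Submodule.mem_sup.1 hx
      obtain ⟨t, rfl⟩ := Submodule.mem_span_singleton.1 hy
      have h1 := congrArg (B (u fs.1 : V)) e
      rw [map_add, map_smul, hub, show B (u fs.1 : V) (U.subtype h) = 0 from hiso _ (u fs.1).2 _ h.2,
        hiso _ (u fs.1).2 _ x.2, zero_add, smul_eq_mul, mul_one] at h1
      rw [h1, zero_smul, add_zero] at e
      rw [← Subtype.ext (show (h : V) = x from e)]
      exact hh
    · exact fun hx => Submodule.mem_sup_left ⟨x, hx, rfl⟩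
  have hM : ∀ fs, M fs ∈ A ∧ M fs ≠ U := by
    intro fs
    have hne : M fs ≠ U := fun e => one_ne_zero
      ((hu1 fs.1).symm.trans ((hmeet fs (u fs.1)).1 (by rw [e]; exact (u fs.1).2)))
    refine ⟨⟨?_, Submodule.mem_sup_left ⟨⟨p, hp⟩, LinearMap.mem_ker.1 fs.1.1.2, rfl⟩⟩, hne⟩
    set Y := (LinearMap.ker fs.1.1.1).map U.subtype with hY
    have hYU : Y ≤ U := Submodule.map_subtype_le _ _
    have hbW : b fs ∈ B.orthogonal X := add_mem (hzW fs.1) (Submodule.smul_mem _ _ (hU (u fs.1).2))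
    have hnot : ∀ w ∈ B.orthogonal X, w ∉ Y → w ∉ X ⊔ Y := by
      intro w hw hwY hm
      obtain ⟨a, ha, y, hy, rfl⟩ := Submodule.mem_sup.1 hm
      have : a ∈ X ⊓ B.orthogonal X := ⟨ha, (Submodule.add_mem_iff_left _ (hU (hYU hy))).1 hw⟩
      rw [hX, Submodule.mem_bot] at this
      rw [this, zero_add] at hwY
      exact hwY hy
    have hbY : b fs ∉ Y := fun hm => by
      have h1 := hiso _ (u fs.1).2 _ (hYU hm)
      rw [hub] at h1
      exact one_ne_zero h1
    have huY : (u fs.1 : V) ∉ Y := by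
      rintro ⟨h, hh, e⟩
      exact one_ne_zero ((hu1 fs.1).symm.trans ((Subtype.ext e : h = u fs.1) ▸ hh))
    obtain ⟨g, hg, e⟩ := exists_Fx hB hA (hnot _ (hU (u fs.1).2) huY) (hnot _ hbW hbY) (by
      intro w hw
      obtain ⟨a, ha, y, hy, rfl⟩ := Submodule.mem_sup.1 hw
      rw [map_add, LinearMap.add_apply, LinearMap.add_apply, show B a (u fs.1 : V) = 0 from hU (u fs.1).2 a ha,
        show B a (b fs) = 0 from hbW a ha, hiso _ (hYU hy) _ (u fs.1).2]
      obtain ⟨h, hh, rfl⟩ := hy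
      rw [map_add, map_smul, show B (U.subtype h) (z fs.1) = fs.1.1.1 h from hzf _ h, show fs.1.1.1 h = 0 from hh,
        show B (U.subtype h) (u fs.1 : V) = 0 from hiso _ h.2 _ (u fs.1).2, smul_zero, add_zero]
      all_goals simp)
    refine ⟨g, mem_Fx.2 fun w hw => mem_Fx.1 hg w (Submodule.mem_sup_left hw), ?_⟩
    have hsplit : U = Y ⊔ Submodule.span F {(u fs.1 : V)} := by
      refine le_antisymm (fun x hx => ?_) (sup_le hYU ((Submodule.span_singleton_le_iff_mem _ _).2 (u fs.1).2))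
      have : x - fs.1.1.1 ⟨x, hx⟩ • (u fs.1 : V) ∈ Y :=
        ⟨⟨x, hx⟩ - fs.1.1.1 ⟨x, hx⟩ • u fs.1, by simp [hu1], rfl⟩
      exact Submodule.mem_sup.2 ⟨_, this, _, Submodule.smul_mem _ _ (Submodule.mem_span_singleton_self _),
        sub_add_cancel _ _⟩
    show mv g U = Y ⊔ Submodule.span F {b fs}
    conv_lhs => rw [hsplit, mv, Submodule.map_sup, Submodule.map_span, Set.image_singleton]
    congr 1
    · ext w
      refine ⟨fun ⟨y, hy, e'⟩ => ?_, fun hw => ⟨w, hw, mem_Fx.1 hg w (Submodule.mem_sup_right hw)⟩⟩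
      rw [← e']
      show g.1 y ∈ Y
      rw [mem_Fx.1 hg y (Submodule.mem_sup_right hy)]
      exact hy
    · show Submodule.span F {g.1 (u fs.1 : V)} = _
      rw [e]
  -- the members other than the subspace
  let A' := {U' // U' ∈ A ∧ U' ≠ U}
  have he : ∀ U' : A', ∃ e : U, (e : V) ∉ U'.1 := by
    rintro ⟨U', ⟨⟨g, -, rfl⟩, -⟩, hne⟩
    by_contra h
    push Not at h
    refine hne (le_antisymm ?_ (fun x hx => h ⟨x, hx⟩))
    have h1 : U ≤ mv g U := fun x hx => h ⟨x, hx⟩
    exact (Submodule.eq_of_le_of_finrank_eq h1 (LinearEquiv.finrank_map_eq g.1 U).symm).ge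
  choose e he using he
  let F' : {f : LinearMap.ker ev // f ≠ 0} × F → A' := fun fs => ⟨M fs, hM fs⟩
  have hfe : ∀ fs : {f : LinearMap.ker ev // f ≠ 0} × F, fs.1.1.1 (e (F' fs)) ≠ 0 := fun fs h => he (F' fs) ((hmeet fs _).2 h)
  have hinj : Nat.card ({f : LinearMap.ker ev // f ≠ 0} × F) ≤ Nat.card (A' × Fˣ) := by
    refine Nat.card_le_card_of_injective (fun fs => (F' fs, Units.mk0 _ (hfe fs))) ?_
    rintro ⟨f, s⟩ ⟨f', s'⟩ h
    simp only [Prod.mk.injEq] at h
    obtain ⟨hm, hl⟩ := h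
    have hM' : M (f, s) = M (f', s') := congrArg Subtype.val hm
    have hff : f = f' := by
      refine Subtype.ext (Subtype.ext (LinearMap.ext fun x => ?_))
      set e0 := e (F' (f, s)) with he0
      have h0 : f.1.1 e0 ≠ 0 := hfe (f, s)
      have hv : f.1.1 e0 = f'.1.1 e0 := by
        have := congrArg Units.val hl
        simp only [Units.val_mk0] at this
        rw [this, he0, hm]
      have hk : f.1.1 (x - (f.1.1 x / f.1.1 e0) • e0) = 0 := by
        rw [map_sub, map_smul, smul_eq_mul, div_mul_cancel₀ _ h0, sub_self]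
      have hk' : f'.1.1 (x - (f.1.1 x / f.1.1 e0) • e0) = 0 :=
        (hmeet (f', s') _).1 (hM' ▸ (hmeet (f, s) _).2 hk)
      rw [map_sub, map_smul, smul_eq_mul, ← hv, div_mul_cancel₀ _ h0, sub_eq_zero] at hk'
      exact hk'.symm
    subst hff
    have hb : b (f, s) - b (f, s') ∈ M (f, s) :=
      sub_mem (Submodule.mem_sup_right (Submodule.mem_span_singleton_self _))
        (hM' ▸ Submodule.mem_sup_right (Submodule.mem_span_singleton_self _))
    simp only [b] at hb
    rw [add_sub_add_left_eq_sub, ← sub_smul] at hb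
    have := (hmeet (f, s) ((s - s') • u f)).1 hb
    rw [map_smul, hu1, smul_eq_mul, mul_one, sub_eq_zero] at this
    rw [this]
  haveI : Fintype (LinearMap.ker ev) := Fintype.ofFinite _
  have hf0 : Nat.card {f : LinearMap.ker ev // f ≠ 0} = Nat.card (LinearMap.ker ev) - 1 := by
    rw [Nat.card_eq_fintype_card, Nat.card_eq_fintype_card, Fintype.card_subtype_compl, Fintype.card_subtype_eq]
  have hA0 : Nat.card A' = A.ncard - 1 := by
    rw [← Set.ncard_sdiff_singleton_of_mem hUA, ← Nat.card_coe_set_eq]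
    rfl
  rw [Nat.card_prod, Nat.card_prod, hf0, hA0, Nat.card_units, Nat.card_eq_fintype_card (α := F)] at hinj
  have hk1 : 1 ≤ Nat.card (LinearMap.ker ev) := Nat.card_pos
  have hA1 : 1 ≤ A.ncard := (Set.ncard_pos).2 ⟨U, hUA⟩
  have hq : 1 < Fintype.card F := Fintype.one_lt_card
  rw [← hcard]
  obtain ⟨a, ha⟩ : ∃ a, A.ncard = a + 1 := ⟨A.ncard - 1, by omega⟩
  obtain ⟨k, hk⟩ : ∃ k, Nat.card (LinearMap.ker ev) = k + 1 := ⟨Nat.card (LinearMap.ker ev) - 1, by omega⟩
  obtain ⟨w, hw⟩ : ∃ w, Fintype.card F = w + 1 := ⟨Fintype.card F - 1, by omega⟩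
  rw [ha, hk, hw] at hinj ⊢
  simp only [Nat.add_sub_cancel] at hinj ⊢
  have : (k + 1) * (w + 1) ≤ (a + 1) * w + 1 := by nlinarith
  omega

/-- A subspace which is not totally isotropic has a large orbit. -/
theorem card_orbit_nondeg (hB : B.Nondegenerate) (hA : B.IsAlt) (hX : X ⊓ B.orthogonal X = ⊥)
    {U : Submodule F V} (hU : U ≤ B.orthogonal X) {p u : V} (hp : p ∈ U) (hu : u ∈ U) (hpu : B p u ≠ 0) :
    (Nat.card ↥(B.orthogonal X) - 1) * Nat.card ↥(B.orthogonal X) ≤
      Nat.card (img mv (Fx B X) U) * ((Nat.card U - 1) * Nat.card U) := by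
  have h1 : B p ((B p u)⁻¹ • u) = 1 := by rw [map_smul, smul_eq_mul, inv_mul_cancel₀ hpu]
  have hp0 : p ≠ 0 := fun e => by simp [e] at hpu
  rw [← mul_assoc, orbit_mul_eq hB hA hX hU hp hp0, mul_assoc]
  exact Nat.mul_le_mul_left _ (nondeg_through hB hA hX hU hp (U.smul_mem _ hu) h1)

/-- The orbit of a proper non-zero subspace is at least the number of points. -/
theorem card_orbit_ge [Fintype F] (hB : B.Nondegenerate) (hA : B.IsAlt) (hX : X ⊓ B.orthogonal X = ⊥)
    {U : Submodule F V} (hU : U ≤ B.orthogonal X) (h0 : U ≠ ⊥) (h1 : U ≠ B.orthogonal X) :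
    Nat.card ↥(B.orthogonal X) - 1 ≤ Nat.card (img mv (Fx B X) U) * (Fintype.card F - 1) := by
  classical
  haveI : Finite (Submodule F V) := Finite.of_injective (fun S : Submodule F V => (S : Set V)) SetLike.coe_injective
  have main : ∀ U : Submodule F V, U ≤ B.orthogonal X → U ≠ ⊥ →
      2 * finrank F U ≤ finrank F ↥(B.orthogonal X) →
      Nat.card ↥(B.orthogonal X) - 1 ≤ Nat.card (img mv (Fx B X) U) * (Fintype.card F - 1) := by
    intro U hU h0 hk
    have hU1 : 1 < Nat.card U := by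
      rw [Finite.one_lt_card_iff_nontrivial]
      exact Submodule.nontrivial_iff_ne_bot.2 h0
    obtain ⟨p, hp, hp0, hc⟩ : ∃ p ∈ U, p ≠ 0 ∧
        Nat.card U - 1 ≤ {U' ∈ img mv (Fx B X) U | p ∈ U'}.ncard * (Fintype.card F - 1) := by
      by_cases hiso : ∀ x ∈ U, ∀ y ∈ U, B x y = 0
      · obtain ⟨p, hp, hp0⟩ := Submodule.exists_mem_ne_zero_of_ne_bot h0
        exact ⟨p, hp, hp0, isotropic_through hB hA hX hU hiso hp hp0⟩
      · push Not at hiso
        obtain ⟨p, hp, u, hu, hpu⟩ := hiso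
        have h1 : B p ((B p u)⁻¹ • u) = 1 := by rw [map_smul, smul_eq_mul, inv_mul_cancel₀ hpu]
        refine ⟨p, hp, fun e => by simp [e] at hpu, ?_⟩
        have h2 := nondeg_through hB hA hX hU hp (U.smul_mem _ hu) h1
        have h3 : Nat.card U * Nat.card U ≤ Nat.card ↥(B.orthogonal X) := by
          rw [Module.natCard_eq_pow_finrank (K := F) (V := U),
            Module.natCard_eq_pow_finrank (K := F) (V := ↥(B.orthogonal X)), ← pow_add]
          exact Nat.pow_le_pow_right Nat.card_pos (by omega)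
        have h4 := Nat.le_of_mul_le_mul_right (h3.trans h2) (by omega)
        have hq : 1 < Fintype.card F := Fintype.one_lt_card
        calc Nat.card U - 1 ≤ {U' ∈ img mv (Fx B X) U | p ∈ U'}.ncard := by omega
          _ ≤ _ := Nat.le_mul_of_pos_right _ (by omega)
    refine Nat.le_of_mul_le_mul_right (c := Nat.card U - 1) ?_ (by omega)
    rw [mul_right_comm, orbit_mul_eq hB hA hX hU hp hp0, mul_assoc]
    exact Nat.mul_le_mul_left _ hc
  by_cases hk : 2 * finrank F U ≤ finrank F ↥(B.orthogonal X)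
  · exact main U hU h0 hk
  have hle : B.orthogonal (X ⊔ U) ≤ B.orthogonal X := LinearMap.BilinForm.orthogonal_le le_sup_left
  have hf := finrank_perp_sup hB hX hU
  have hne : B.orthogonal (X ⊔ U) ≠ ⊥ := by
    intro e
    rw [e, finrank_bot, zero_add] at hf
    exact h1 (Submodule.eq_of_le_of_finrank_eq hU hf)
  refine (main _ hle hne (by omega)).trans (Nat.mul_le_mul_right _ ?_)
  refine Nat.card_le_card_of_surjective (fun U' : img mv (Fx B X) U =>
    (⟨B.orthogonal (X ⊔ U'.1), ?_⟩ : img mv (Fx B X) (B.orthogonal (X ⊔ U)))) ?_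
  · obtain ⟨g, hg, e⟩ := U'.2
    refine ⟨g, hg, ?_⟩
    rw [← e, mv_orth, mv, mv, Submodule.map_sup]
    congr 2
    exact mv_fixed hg
  · rintro ⟨_, g, hg, rfl⟩
    refine ⟨⟨mv g U, g, hg, rfl⟩, Subtype.ext ?_⟩
    show B.orthogonal (X ⊔ mv g U) = mv g (B.orthogonal (X ⊔ U))
    rw [mv_orth, mv, mv, Submodule.map_sup]
    congr 2
    exact (mv_fixed hg).symm

end Cfsg.Lib.Linear.MinIndexSp
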