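import Cfsg.Agent.Lib.Linear.MinIndexSp.Orbit

/-!
# Quadratic forms polarising to an alternating form in characteristic two
-/

set_option autoImplicit false
set_option linter.unusedSectionVars false

namespace Cfsg.Lib.Linear.MinIndexSp

open Module
open Cfsg.Lib.Linear.Symp

variable {F V : Type*} [Field F] [AddCommGroup V] [Module F V] [FiniteDimensional F V]
  {B : LinearMap.BilinForm F V}

/-- A quadratic function with the given polar form. -/
structure Polar (B : LinearMap.BilinForm F V) (Q : V → F) : Prop where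
  add : ∀ x y, Q (x + y) = Q x + Q y + B x y
  smul : ∀ (c : F) (x : V), Q (c • x) = c ^ 2 * Q x

theorem Polar.zero {Q : V → F} (hQ : Polar B Q) : Q 0 = 0 := by
  have := hQ.smul 0 0
  rwa [zero_smul, zero_pow two_ne_zero, zero_mul] at this

theorem exists_polar [CharP F 2] (hA : B.IsAlt) : ∃ Q, Polar B Q := by
  classical
  let b := Module.finBasis F V
  let β : V →ₗ[F] V →ₗ[F] F := b.constr F fun i => b.constr F fun j => if i < j then B (b i) (b j) else 0
  have hβ : β + β.flip = B := by
    refine b.ext fun i => b.ext fun j => ?_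
    simp only [LinearMap.add_apply, LinearMap.flip_apply, β, Basis.constr_basis]
    rcases lt_trichotomy i j with h | h | h
    · rw [if_pos h, if_neg (not_lt.2 h.le), add_zero]
    · subst h
      simp [hA.self_eq_zero]
    · rw [if_neg (not_lt.2 h.le), if_pos h, zero_add, ← LinearMap.IsAlt.neg hA, CharTwo.neg_eq]
  refine ⟨fun x => β x x, fun x y => ?_, fun c x => ?_⟩
  · conv_rhs => rw [← hβ]
    simp only [map_add, LinearMap.add_apply, LinearMap.flip_apply]
    ring
  · simp only [map_smul, LinearMap.smul_apply, smul_eq_mul]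
    ring

/-- The action of a transvection. -/
theorem Polar.tv [CharP F 2] {Q : V → F} (hQ : Polar B Q) (hA : B.IsAlt) (u : V) (c : F) (x : V) :
    Q (Symp.tv hA u c x) = Q x + (c + c ^ 2 * Q u) * B x u ^ 2 := by
  rw [tv_apply, hQ.add, hQ.smul, map_smul, smul_eq_mul]
  ring

/-- An additive map with at most two zeros has at least half of the field as image. -/
theorem half_range {F : Type*} [Field F] [Fintype F] (σ : F →+ F) (h : {c | σ c = 0}.ncard ≤ 2) :
    Fintype.card F ≤ 2 * Nat.card σ.range := by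
  rw [← AddSubgroup.index_ker, ← Nat.card_eq_fintype_card, ← σ.ker.card_mul_index]
  refine Nat.mul_le_mul_right _ ?_
  rw [← Nat.card_coe_set_eq] at h
  exact h

/-- The multiples in a set meeting every line in half of it. -/
theorem offset_count [Finite V] [Fintype F] {U : Submodule F V} {O : Set V} (h0 : (0 : V) ∈ O)
    (h : ∀ u ∈ U, u ≠ 0 → Fintype.card F ≤ 2 * {s : F | s • u ∈ O}.ncard) :
    (Nat.card U - 1) * (Fintype.card F - 2) ≤ 2 * ((O.ncard - 1) * (Fintype.card F - 1)) := by
  classical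
  haveI := Fintype.ofFinite V
  have hS : ∀ u : {u : U // u ≠ 0}, Fintype.card F - 2 ≤ 2 * Nat.card {s : F // s • (u.1 : V) ∈ O ∧ s ≠ 0} := by
    intro u
    have h1 := h u.1 u.1.2 fun e => u.2 (Subtype.ext e)
    have e : ({s : F | s • (u.1 : V) ∈ O ∧ s ≠ 0} : Set F) = {s : F | s • (u.1 : V) ∈ O} \ {0} := by
      ext s; simp
    rw [show Nat.card {s : F // s • (u.1 : V) ∈ O ∧ s ≠ 0} = {s : F | s • (u.1 : V) ∈ O ∧ s ≠ 0}.ncard from
      Nat.card_coe_set_eq _, e, Set.ncard_sdiff_singleton_of_mem (by simpa using h0)]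
    omega
  have h2 : Nat.card (Σ u : {u : U // u ≠ 0}, {s : F // s • (u.1 : V) ∈ O ∧ s ≠ 0}) ≤
      Nat.card ({o : V // o ∈ O \ {0}} × Fˣ) := by
    refine Nat.card_le_card_of_injective (fun p => (⟨p.2.1 • (p.1.1 : V), p.2.2.1,
      smul_ne_zero p.2.2.2 fun e => p.1.2 (Subtype.ext e)⟩, Units.mk0 p.2.1 p.2.2.2)) ?_
    rintro ⟨u, s, hs⟩ ⟨u', s', hs'⟩ e
    simp only [Prod.mk.injEq, Subtype.mk.injEq, Units.mk0_inj] at e
    obtain ⟨e1, rfl⟩ := e
    obtain rfl : u = u' := Subtype.ext (Subtype.ext (smul_right_injective V hs.2 (congrArg Subtype.val e1)))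
    rfl
  have hleft : Nat.card (Σ u : {u : U // u ≠ 0}, {s : F // s • (u.1 : V) ∈ O ∧ s ≠ 0}) =
      ∑ u : {u : U // u ≠ 0}, Nat.card {s : F // s • (u.1 : V) ∈ O ∧ s ≠ 0} := Nat.card_sigma
  rw [hleft, Nat.card_prod, Nat.card_units, Nat.card_eq_fintype_card (α := F),
    show Nat.card {o : V // o ∈ O \ {0}} = O.ncard - 1 by
      rw [← Set.ncard_sdiff_singleton_of_mem h0]; exact Nat.card_coe_set_eq _] at h2
  refine le_trans ?_ (Nat.mul_le_mul_left 2 h2)
  rw [Finset.mul_sum]
  refine le_trans (le_of_eq ?_) (Finset.sum_le_sum fun u _ => hS u)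
  rw [Finset.sum_const, smul_eq_mul, Finset.card_univ, Fintype.card_subtype_compl, Fintype.card_subtype_eq,
    Nat.card_eq_fintype_card]

/-- The square roots of the coefficients of a transvection on a quadratic function meet the field in a half. -/
theorem sqrt_range [Fintype F] [CharP F 2] (a : F) :
    Fintype.card F ≤ 2 * {s : F | ∃ c, c + c ^ 2 * a = s ^ 2}.ncard := by
  haveI : ExpChar F 2 := ExpChar.prime Nat.prime_two
  let σ : F →+ F := AddMonoidHom.mk' (fun c => (frobeniusEquiv F 2).symm (c + c ^ 2 * a)) (fun c e => by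
    rw [← map_add]
    congr 1
    linear_combination (c * e * a) * CharTwo.two_eq_zero (R := F))
  refine (half_range σ ?_).trans (Nat.mul_le_mul_left 2 ?_)
  · refine le_trans (Set.ncard_le_ncard (t := {0, a⁻¹}) (fun c hc => ?_) (Set.toFinite _))
      ((Set.ncard_insert_le _ _).trans (by rw [Set.ncard_singleton]))
    have hc' : c + c ^ 2 * a = 0 := (frobeniusEquiv F 2).symm.injective (hc.trans (map_zero _).symm)
    rcases eq_or_ne c 0 with h | h
    · exact Or.inl h
    · right
      have : c * a = 1 := by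
        have h1 : 1 + c * a = 0 := (mul_eq_zero.1 (show c * (1 + c * a) = 0 by linear_combination hc')).resolve_left h
        exact (CharTwo.add_eq_zero.1 h1).symm
      exact eq_inv_of_mul_eq_one_left this
  · rw [← Nat.card_coe_set_eq]
    refine Nat.card_le_card_of_injective (fun s => (⟨s.1, ?_⟩ : {s : F | ∃ c, c + c ^ 2 * a = s ^ 2})) fun s t e =>
      Subtype.ext (congrArg (fun z => z.1) e)
    obtain ⟨c, hc⟩ := s.2
    refine ⟨c, ?_⟩
    rw [← hc]
    exact ((frobeniusEquiv F 2).apply_symm_apply _).symm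

end Cfsg.Lib.Linear.MinIndexSp
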