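import Cfsg.Agent.Lib.Linear.MinIndexSp.Orbit

/-!
# The radical of a point stabiliser and its Levi complement in a symplectic group

For a hyperbolic pair `v, v'` the element `el a c` is `x ↦ x + B(x,v) a + B(x,a) v + c B(x,v) v`.
A subgroup `H` determines the additive groups `sbar` and `rsub` and the subgroup `levi` of those elements of the
Levi complement which lift to `H`; the index of `H` is at least the product of the two indices.
-/

set_option autoImplicit false
set_option linter.unusedSectionVars false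

namespace Cfsg.Lib.Linear.MinIndexSp

open Module
open Cfsg.Lib.Linear.Symp

variable {F V : Type*} [Field F] [AddCommGroup V] [Module F V] {B : LinearMap.BilinForm F V}

/-- A symplectic space of dimension `2 (n + 1)` with a hyperbolic pair. -/
structure Frame (B : LinearMap.BilinForm F V) (n : ℕ) (v v' : V) : Prop where
  nondeg : B.Nondegenerate
  alt : B.IsAlt
  pair : B v v' = 1
  dim : finrank F V = 2 * (n + 1)

/-- The plane of the pair. -/
def plane (F : Type*) [Field F] {V : Type*} [AddCommGroup V] [Module F V] (v v' : V) : Submodule F V :=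
  Submodule.span F {v} ⊔ Submodule.span F {v'}

/-- The orthogonal space of the pair. -/
abbrev Frame.W {n : ℕ} {v v' : V} (_D : Frame B n v v') : Submodule F V := B.orthogonal (plane F v v')

/-- The factor on `v`. -/
def Frame.nu {n : ℕ} {v v' : V} (_D : Frame B n v v') (g : iso B) : F := B (g.1 v) v'

/-- The Levi complement. -/
def Frame.lev {n : ℕ} {v v' : V} (_D : Frame B n v v') : Subgroup (iso B) where
  carrier := {g | ∃ ν : Fˣ, g.1 v = (ν : F) • v ∧ g.1 v' = ((ν⁻¹ : Fˣ) : F) • v'}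
  one_mem' := ⟨1, by simp, by simp⟩
  mul_mem' := by
    rintro g h ⟨a, ha, ha'⟩ ⟨b, hb, hb'⟩
    refine ⟨a * b, ?_, ?_⟩
    · show g.1 (h.1 v) = _
      rw [hb, map_smul, ha, smul_smul, Units.val_mul, mul_comm]
    · show g.1 (h.1 v') = _
      rw [hb', map_smul, ha', smul_smul, mul_inv, Units.val_mul, mul_comm]
  inv_mem' := by
    rintro g ⟨a, ha, ha'⟩
    refine ⟨a⁻¹, ?_, ?_⟩
    · apply g.1.injective
      rw [apply_inv, map_smul, ha, smul_smul, Units.inv_mul, one_smul]
    · apply g.1.injective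
      rw [apply_inv, map_smul, ha', smul_smul, inv_inv, Units.mul_inv, one_smul]

variable {n : ℕ} {v v' : V} (D : Frame B n v v')
include D

theorem Frame.self (x : V) : B x x = 0 := D.alt.self_eq_zero x

theorem Frame.swap (x y : V) : B y x = -B x y := (LinearMap.IsAlt.neg D.alt x y).symm

theorem Frame.pair' : B v' v = -1 := by rw [D.swap, D.pair]

theorem Frame.mem_W {w : V} : w ∈ D.W ↔ B v w = 0 ∧ B v' w = 0 := by
  constructor
  · intro h
    exact ⟨h v (Submodule.mem_sup_left (Submodule.mem_span_singleton_self v)),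
      h v' (Submodule.mem_sup_right (Submodule.mem_span_singleton_self v'))⟩
  · rintro ⟨h1, h2⟩ x hx
    obtain ⟨a, ha, b, hb, rfl⟩ := Submodule.mem_sup.1 hx
    obtain ⟨s, rfl⟩ := Submodule.mem_span_singleton.1 ha
    obtain ⟨t, rfl⟩ := Submodule.mem_span_singleton.1 hb
    show B (s • v + t • v') w = 0
    simp [h1, h2]

theorem Frame.W_v {w : V} (hw : w ∈ D.W) : B v w = 0 := (D.mem_W.1 hw).1

theorem Frame.W_v' {w : V} (hw : w ∈ D.W) : B v' w = 0 := (D.mem_W.1 hw).2

theorem Frame.v_W {w : V} (hw : w ∈ D.W) : B w v = 0 := by rw [D.swap, D.W_v hw, neg_zero]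

theorem Frame.v'_W {w : V} (hw : w ∈ D.W) : B w v' = 0 := by rw [D.swap, D.W_v' hw, neg_zero]

theorem Frame.ne_zero : v ≠ 0 := fun h => by
  have := D.pair
  simp [h] at this

theorem Frame.ne_zero' : v' ≠ 0 := fun h => by
  have := D.pair
  simp [h] at this

/-- The part in the orthogonal space. -/
theorem Frame.exists_decomp (x : V) : ∃ w ∈ D.W, x = w + (B x v') • v + (B v x) • v' := by
  refine ⟨x - (B x v') • v - (B v x) • v', D.mem_W.2 ⟨?_, ?_⟩, by abel⟩
  · simp [D.self, D.pair]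
  · rw [map_sub, map_sub, map_smul, map_smul, D.self, D.pair', D.swap x v']
    simp

theorem Frame.hX : plane F v v' ⊓ B.orthogonal (plane F v v') = ⊥ := by
  rw [eq_bot_iff]
  rintro x ⟨hx, hx'⟩
  obtain ⟨a, ha, b, hb, rfl⟩ := Submodule.mem_sup.1 hx
  obtain ⟨s, rfl⟩ := Submodule.mem_span_singleton.1 ha
  obtain ⟨t, rfl⟩ := Submodule.mem_span_singleton.1 hb
  have h1 := D.W_v hx'
  have h2 := D.W_v' hx'
  simp [D.self, D.pair, D.pair'] at h1 h2
  simp [h1, h2]

theorem Frame.finiteDimensional : FiniteDimensional F V :=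
  Module.finite_of_finrank_pos (by rw [D.dim]; omega)

theorem Frame.finrank_W : finrank F D.W = 2 * n := by
  haveI := D.finiteDimensional
  have hv : v' ∉ Submodule.span F {v} := fun h => by
    obtain ⟨c, e⟩ := Submodule.mem_span_singleton.1 h
    have := D.pair
    rw [← e, map_smul, D.self, smul_zero] at this
    exact zero_ne_one this
  rw [LinearMap.BilinForm.finrank_orthogonal D.nondeg, D.dim, plane, Submodule.finrank_sup_span_singleton hv,
    finrank_span_singleton D.ne_zero]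
  omega

theorem Frame.card_W [Finite F] : Nat.card D.W = Nat.card F ^ (2 * n) := by
  haveI := D.finiteDimensional
  rw [← D.finrank_W]
  exact Module.natCard_eq_pow_finrank

/-! ### The radical -/

/-- The element of the radical. -/
def Frame.el (a : V) (c : F) : iso B :=
  tvG D.alt (v + a) 1 * tvG D.alt a (-1) * tvG D.alt v (c - 1)

theorem Frame.el_apply {a : V} (ha : B v a = 0) (c : F) (x : V) :
    (D.el a c).1 x = x + B x v • a + B x a • v + (c * B x v) • v := by
  show tv D.alt (v + a) 1 (tv D.alt a (-1) (tv D.alt v (c - 1) x)) = _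
  have hav : B a v = 0 := by rw [D.swap, ha, neg_zero]
  simp only [tv_apply, map_add, map_smul, map_sub, LinearMap.add_apply, LinearMap.smul_apply, D.self, ha,
    hav, smul_eq_mul, mul_zero, add_zero]
  module

theorem Frame.el_mul {a b : V} (ha : B v a = 0) (hb : B v b = 0) (c e : F) :
    D.el a c * D.el b e = D.el (a + b) (c + e + B b a) := by
  refine Subtype.ext (LinearEquiv.ext fun x => ?_)
  show (D.el a c).1 ((D.el b e).1 x) = _
  rw [D.el_apply ha, D.el_apply hb, D.el_apply (by rw [map_add, ha, hb, add_zero])]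
  have hbv : B b v = 0 := by rw [D.swap, hb, neg_zero]
  simp only [map_add, map_smul, LinearMap.add_apply, LinearMap.smul_apply, D.self, ha, hbv,
    smul_eq_mul, mul_zero, add_zero]
  module

theorem Frame.el_zero_zero : D.el 0 0 = 1 :=
  Subtype.ext (LinearEquiv.ext fun x => by
    rw [D.el_apply (map_zero _)]
    simp)

theorem Frame.el_zero (c : F) : D.el 0 c = tvG D.alt v c :=
  Subtype.ext (LinearEquiv.ext fun x => by
    rw [D.el_apply (map_zero _)]
    show _ = tv D.alt v c x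
    simp)

theorem Frame.el_inv {a : V} (ha : B v a = 0) (c : F) : (D.el a c)⁻¹ = D.el (-a) (-c) := by
  refine inv_eq_of_mul_eq_one_right ?_
  rw [D.el_mul ha (by rw [map_neg, ha, neg_zero]), add_neg_cancel, add_neg_cancel, map_neg,
    LinearMap.neg_apply, D.self, neg_zero, add_zero, D.el_zero_zero]

theorem Frame.el_inj {a b : V} (ha : a ∈ D.W) (hb : b ∈ D.W) {c e : F} (h : D.el a c = D.el b e) :
    a = b ∧ c = e := by
  have h1 := congrArg (fun g : iso B => g.1 v') h
  simp only [D.el_apply (D.W_v ha), D.el_apply (D.W_v hb), D.pair', D.W_v' ha, D.W_v' hb, zero_smul,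
    add_zero, mul_neg, mul_one, neg_smul, one_smul, add_assoc, add_right_inj] at h1
  have hce : c = e := by
    have h2 := congrArg (fun z => B z v') h1
    simp [D.v'_W ha, D.v'_W hb, D.pair] at h2
    exact h2
  subst hce
  simp at h1
  exact ⟨h1, rfl⟩

theorem Frame.el_comm {a b : V} (ha : B v a = 0) (hb : B v b = 0) (c e : F) :
    D.el a c * D.el b e = D.el 0 (2 * B b a) * (D.el b e * D.el a c) := by
  rw [D.el_mul ha hb, D.el_mul hb ha, D.el_mul (map_zero _) (by rw [map_add, ha, hb, add_zero]), zero_add,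
    LinearMap.map_zero, add_comm b a]
  congr 1
  rw [D.swap b a]
  ring

/-- The radical. -/
def Frame.rad : Subgroup (iso B) where
  carrier := {g | ∃ a ∈ D.W, ∃ c, g = D.el a c}
  one_mem' := ⟨0, zero_mem _, 0, D.el_zero_zero.symm⟩
  mul_mem' := by
    rintro _ _ ⟨a, ha, c, rfl⟩ ⟨b, hb, e, rfl⟩
    exact ⟨a + b, add_mem ha hb, _, D.el_mul (D.W_v ha) (D.W_v hb) c e⟩
  inv_mem' := by
    rintro _ ⟨a, ha, c, rfl⟩
    exact ⟨-a, neg_mem ha, -c, D.el_inv (D.W_v ha) c⟩

theorem Frame.el_mem_rad {a : V} (ha : a ∈ D.W) (c : F) : D.el a c ∈ D.rad := ⟨a, ha, c, rfl⟩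

/-! ### The Levi complement -/

theorem Frame.nu_eq {g : iso B} {ν : F} (h : g.1 v = ν • v) : D.nu g = ν := by
  rw [Frame.nu, h, map_smul, LinearMap.smul_apply, D.pair, smul_eq_mul, mul_one]

theorem Frame.nu_smul {g : iso B} (hg : g ∈ D.lev) : g.1 v = D.nu g • v := by
  obtain ⟨ν, hν, -⟩ := hg
  rw [D.nu_eq hν, hν]

theorem Frame.nu_ne {g : iso B} (hg : g ∈ D.lev) : D.nu g ≠ 0 := by
  obtain ⟨ν, hν, -⟩ := hg
  rw [D.nu_eq hν]; exact ν.ne_zero

theorem Frame.nu_smul' {g : iso B} (hg : g ∈ D.lev) : g.1 v' = (D.nu g)⁻¹ • v' := by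
  obtain ⟨ν, hν, hν'⟩ := hg
  rw [D.nu_eq hν, hν', Units.val_inv_eq_inv_val]

/-- The factor as a homomorphism. -/
def Frame.nuHom : D.lev →* Fˣ where
  toFun g := Units.mk0 (D.nu g.1) (D.nu_ne g.2)
  map_one' := Units.ext (D.nu_eq (show (1 : iso B).1 v = (1 : F) • v by rw [one_smul]; rfl))
  map_mul' g h := Units.ext (D.nu_eq (by
    show g.1.1 (h.1.1 v) = _
    rw [D.nu_smul h.2, map_smul, D.nu_smul g.2, smul_smul, Units.val_mul, Units.val_mk0, Units.val_mk0, mul_comm]))

theorem Frame.nu_mul {g h : iso B} (hg : g ∈ D.lev) (hh : h ∈ D.lev) : D.nu (g * h) = D.nu g * D.nu h :=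
  congrArg Units.val (map_mul D.nuHom (⟨g, hg⟩ : D.lev) ⟨h, hh⟩)

theorem Frame.lev_mem_W {g : iso B} (hg : g ∈ D.lev) {w : V} (hw : w ∈ D.W) : g.1 w ∈ D.W := by
  refine D.mem_W.2 ⟨?_, ?_⟩
  · have h := g.2 v w
    rw [D.nu_smul hg, map_smul, LinearMap.smul_apply, D.W_v hw, smul_eq_mul, mul_eq_zero] at h
    exact h.resolve_left (D.nu_ne hg)
  · have h := g.2 v' w
    rw [D.nu_smul' hg, map_smul, LinearMap.smul_apply, D.W_v' hw, smul_eq_mul, mul_eq_zero] at h
    exact h.resolve_left (inv_ne_zero (D.nu_ne hg))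

theorem Frame.el_conj {g : iso B} (hg : g ∈ D.lev) {a : V} (ha : a ∈ D.W) (c : F) :
    g * D.el a c * g⁻¹ = D.el (D.nu g • g.1 a) (D.nu g ^ 2 * c) := by
  refine Subtype.ext (LinearEquiv.ext fun x => ?_)
  obtain ⟨y, rfl⟩ : ∃ y, g.1 y = x := ⟨(g⁻¹).1 x, apply_inv g x⟩
  show g.1 ((D.el a c).1 ((g⁻¹).1 (g.1 y))) = _
  rw [inv_apply, D.el_apply (D.W_v ha), D.el_apply (D.W_v (Submodule.smul_mem _ _ (D.lev_mem_W hg ha)))]
  have h1 : B (g.1 y) v = (D.nu g)⁻¹ * B y v := by
    have h := g.2 y v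
    rw [D.nu_smul hg, map_smul, smul_eq_mul] at h
    rw [← h, ← mul_assoc, inv_mul_cancel₀ (D.nu_ne hg), one_mul]
  simp only [map_add, map_smul, D.nu_smul hg, smul_eq_mul, g.2 y a, h1, smul_smul]
  have hne := D.nu_ne hg
  match_scalars <;> field_simp

theorem Frame.conj_rad {g : iso B} (hg : g ∈ D.lev) {q : iso B} (hq : q ∈ D.rad) : g * q * g⁻¹ ∈ D.rad := by
  obtain ⟨a, ha, c, rfl⟩ := hq
  rw [D.el_conj hg ha]
  exact D.el_mem_rad (Submodule.smul_mem _ _ (D.lev_mem_W hg ha)) _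

theorem Frame.fx_le_lev [FiniteDimensional F V] : Fx B (plane F v v') ≤ D.lev := fun g hg => ⟨1, by
  rw [mem_Fx.1 hg v (Submodule.mem_sup_left (Submodule.mem_span_singleton_self v))]; simp, by
  rw [mem_Fx.1 hg v' (Submodule.mem_sup_right (Submodule.mem_span_singleton_self v'))]; simp⟩

theorem Frame.nu_fx [FiniteDimensional F V] {g : iso B} (hg : g ∈ Fx B (plane F v v')) : D.nu g = 1 :=
  D.nu_eq (by rw [one_smul]; exact mem_Fx.1 hg v (Submodule.mem_sup_left (Submodule.mem_span_singleton_self v)))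

/-- The map scaling the pair. -/
def Frame.tor (ν : Fˣ) : iso B := by
  refine ⟨{ toFun := fun x => x + (((ν : F) - 1) * B x v') • v + ((((ν⁻¹ : Fˣ) : F) - 1) * B v x) • v'
            map_add' := fun x y => by simp only [map_add, LinearMap.add_apply]; module
            map_smul' := fun c x => by
              simp only [map_smul, LinearMap.smul_apply, smul_eq_mul, RingHom.id_apply]; module
            invFun := fun x => x + ((((ν⁻¹ : Fˣ) : F) - 1) * B x v') • v + (((ν : F) - 1) * B v x) • v'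
            left_inv := fun x => ?_
            right_inv := fun x => ?_ }, fun x y => ?_⟩
  · simp only [map_add, map_smul, LinearMap.add_apply, LinearMap.smul_apply, smul_eq_mul, D.self, D.pair,
      mul_zero, add_zero, mul_one]
    match_scalars <;> (try simp only [Units.val_inv_eq_inv_val]) <;> field_simp <;> ring
  · simp only [map_add, map_smul, LinearMap.add_apply, LinearMap.smul_apply, smul_eq_mul, D.self, D.pair,
      mul_zero, add_zero, mul_one]
    match_scalars <;> (try simp only [Units.val_inv_eq_inv_val]) <;> field_simp <;> ring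
  · show B (x + (((ν : F) - 1) * B x v') • v + ((((ν⁻¹ : Fˣ) : F) - 1) * B v x) • v')
      (y + (((ν : F) - 1) * B y v') • v + ((((ν⁻¹ : Fˣ) : F) - 1) * B v y) • v') = B x y
    simp only [map_add, map_smul, LinearMap.add_apply, LinearMap.smul_apply, smul_eq_mul, D.self, D.pair,
      D.pair', D.swap y v', D.swap v x, Units.val_inv_eq_inv_val]
    field_simp
    ring

theorem Frame.tor_apply (ν : Fˣ) (x : V) :
    (D.tor ν).1 x = x + (((ν : F) - 1) * B x v') • v + ((((ν⁻¹ : Fˣ) : F) - 1) * B v x) • v' := rfl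

theorem Frame.tor_v (ν : Fˣ) : (D.tor ν).1 v = (ν : F) • v := by
  rw [D.tor_apply, D.pair, D.self, mul_zero, zero_smul, add_zero, mul_one, sub_smul, one_smul, add_sub_cancel]

theorem Frame.tor_mem (ν : Fˣ) : D.tor ν ∈ D.lev := ⟨ν, D.tor_v ν, by
  rw [D.tor_apply, D.self, D.pair, mul_zero, zero_smul, add_zero, mul_one, sub_smul, one_smul, add_sub_cancel]⟩

theorem Frame.nu_tor (ν : Fˣ) : D.nu (D.tor ν) = ν := D.nu_eq (D.tor_v ν)

theorem Frame.tor_W (ν : Fˣ) {w : V} (hw : w ∈ D.W) : (D.tor ν).1 w = w := by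
  rw [D.tor_apply, D.v'_W hw, D.W_v hw, mul_zero, mul_zero, zero_smul, zero_smul, add_zero, add_zero]

theorem Frame.tor_comm [FiniteDimensional F V] (ν : Fˣ) {g : iso B} (hg : g ∈ Fx B (plane F v v')) :
    D.tor ν * g = g * D.tor ν := by
  refine Subtype.ext (LinearEquiv.ext fun x => ?_)
  show (D.tor ν).1 (g.1 x) = g.1 ((D.tor ν).1 x)
  have hv := mem_Fx.1 hg v (Submodule.mem_sup_left (Submodule.mem_span_singleton_self v))
  have hv' := mem_Fx.1 hg v' (Submodule.mem_sup_right (Submodule.mem_span_singleton_self v'))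
  have h1 := g.2 x v'
  rw [hv'] at h1
  have h2 := g.2 v x
  rw [hv] at h2
  rw [D.tor_apply, D.tor_apply, map_add, map_add, map_smul, map_smul, hv, hv', h1, h2]

theorem Frame.nuHom_surjective : Function.Surjective D.nuHom := fun ν =>
  ⟨⟨D.tor ν, D.tor_mem ν⟩, Units.ext (D.nu_tor ν)⟩

/-- The Levi complement is the product of the fixer and the torus. -/
theorem Frame.lev_eq_fx [FiniteDimensional F V] {g : iso B} (hg : g ∈ D.lev) (h : D.nu g = 1) :
    g ∈ Fx B (plane F v v') := by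
  refine mem_Fx.2 fun x hx => ?_
  obtain ⟨a, ha, b, hb, rfl⟩ := Submodule.mem_sup.1 hx
  obtain ⟨s, rfl⟩ := Submodule.mem_span_singleton.1 ha
  obtain ⟨t, rfl⟩ := Submodule.mem_span_singleton.1 hb
  rw [map_add, map_smul, map_smul, D.nu_smul hg, D.nu_smul' hg, h, inv_one, one_smul, one_smul]

/-! ### The data of a subgroup -/

/-- The image of the intersection with the radical. -/
def Frame.sbar (H : Subgroup (iso B)) : AddSubgroup V where
  carrier := {a | a ∈ D.W ∧ ∃ c, D.el a c ∈ H}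
  zero_mem' := ⟨zero_mem _, 0, by rw [D.el_zero_zero]; exact one_mem H⟩
  add_mem' := by
    rintro a b ⟨ha, c, hc⟩ ⟨hb, e, he⟩
    exact ⟨add_mem ha hb, _, D.el_mul (D.W_v ha) (D.W_v hb) c e ▸ mul_mem hc he⟩
  neg_mem' := by
    rintro a ⟨ha, c, hc⟩
    exact ⟨neg_mem ha, -c, D.el_inv (D.W_v ha) c ▸ inv_mem hc⟩

theorem Frame.sbar_le {H : Subgroup (iso B)} {a : V} (h : a ∈ D.sbar H) : a ∈ D.W := h.1

/-- The central part of the intersection with the radical. -/
def Frame.rsub (H : Subgroup (iso B)) : AddSubgroup F where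
  carrier := {c | D.el 0 c ∈ H}
  zero_mem' := by
    show D.el 0 0 ∈ H
    rw [D.el_zero_zero]; exact one_mem H
  add_mem' := by
    intro c e hc he
    show D.el 0 (c + e) ∈ H
    have h := mul_mem (show D.el 0 c ∈ H from hc) (show D.el 0 e ∈ H from he)
    rw [D.el_mul (map_zero _) (map_zero _), add_zero] at h
    simpa using h
  neg_mem' := by
    intro c hc
    show D.el 0 (-c) ∈ H
    have h := inv_mem (show D.el 0 c ∈ H from hc)
    rwa [D.el_inv (map_zero _), neg_zero] at h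

theorem Frame.mem_rsub {H : Subgroup (iso B)} {c : F} : c ∈ D.rsub H ↔ D.el 0 c ∈ H := Iff.rfl

/-- The elements of the Levi complement lifting to the subgroup. -/
def Frame.levi (H : Subgroup (iso B)) : Subgroup (iso B) where
  carrier := {g | g ∈ D.lev ∧ ∃ q ∈ D.rad, q * g ∈ H}
  one_mem' := ⟨one_mem _, 1, one_mem _, by rw [one_mul]; exact one_mem H⟩
  mul_mem' := by
    rintro g h ⟨hg, q, hq, hgH⟩ ⟨hh, p, hp, hhH⟩
    exact ⟨mul_mem hg hh, q * (g * p * g⁻¹), mul_mem hq (D.conj_rad hg hp), by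
      rw [show q * (g * p * g⁻¹) * (g * h) = (q * g) * (p * h) by group]
      exact mul_mem hgH hhH⟩
  inv_mem' := by
    rintro g ⟨hg, q, hq, hgH⟩
    refine ⟨inv_mem hg, g⁻¹ * q⁻¹ * g⁻¹⁻¹, D.conj_rad (inv_mem hg) (inv_mem hq), ?_⟩
    rw [inv_inv, show g⁻¹ * q⁻¹ * g * g⁻¹ = (q * g)⁻¹ by group]
    exact inv_mem hgH

theorem Frame.levi_le (H : Subgroup (iso B)) : D.levi H ≤ D.lev := fun _ h => h.1

theorem Frame.exists_lift {H : Subgroup (iso B)} {g : iso B} (hg : g ∈ D.levi H) :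
    ∃ a ∈ D.W, ∃ c, D.el a c * g ∈ H := by
  obtain ⟨q, ⟨a, ha, c, rfl⟩, h⟩ := hg.2
  exact ⟨a, ha, c, h⟩

theorem Frame.levi_sbar {H : Subgroup (iso B)} {g : iso B} (hg : g ∈ D.levi H) {a : V} (ha : a ∈ D.sbar H) :
    D.nu g • g.1 a ∈ D.sbar H := by
  obtain ⟨b, hb, e, hbH⟩ := D.exists_lift hg
  obtain ⟨haW, c, hc⟩ := ha
  have hga := Submodule.smul_mem D.W (D.nu g) (D.lev_mem_W hg.1 haW)
  have h := mul_mem (mul_mem hbH hc) (inv_mem hbH)
  rw [show D.el b e * g * D.el a c * (D.el b e * g)⁻¹ = D.el b e * (g * D.el a c * g⁻¹) * (D.el b e)⁻¹ by group,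
    D.el_conj hg.1 haW, D.el_mul (D.W_v hb) (D.W_v hga), D.el_inv (D.W_v hb),
    D.el_mul (by rw [map_add, D.W_v hb, D.W_v hga, add_zero]) (by rw [map_neg, D.W_v hb, neg_zero]),
    add_neg_cancel_comm] at h
  exact ⟨hga, _, h⟩

theorem Frame.levi_rsub {H : Subgroup (iso B)} {g : iso B} (hg : g ∈ D.levi H) {c : F} (hc : c ∈ D.rsub H) :
    D.nu g ^ 2 * c ∈ D.rsub H := by
  obtain ⟨b, hb, e, hbH⟩ := D.exists_lift hg
  have h := mul_mem (mul_mem hbH (D.mem_rsub.1 hc)) (inv_mem hbH)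
  rw [show D.el b e * g * D.el 0 c * (D.el b e * g)⁻¹ = D.el b e * (g * D.el 0 c * g⁻¹) * (D.el b e)⁻¹ by group,
    D.el_conj hg.1 (zero_mem _), map_zero, smul_zero, D.el_mul (D.W_v hb) (map_zero _), D.el_inv (D.W_v hb),
    D.el_mul (by rw [add_zero]; exact D.W_v hb) (by rw [map_neg, D.W_v hb, neg_zero])] at h
  simp [D.self] at h
  rw [D.mem_rsub]
  exact h

/-- The orbits of the radical and the lifts together bound the index. -/
theorem Frame.index_bound [Finite (iso B)] (H : Subgroup (iso B)) :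
    (D.levi H).relIndex D.lev * H.relIndex D.rad ≤ H.index := by
  classical
  rw [Subgroup.relIndex, Subgroup.relIndex, Subgroup.index_eq_card, Subgroup.index_eq_card,
    Subgroup.index_eq_card, ← Nat.card_prod]
  refine Nat.card_le_card_of_injective (fun p : (D.lev ⧸ (D.levi H).subgroupOf D.lev) ×
    (D.rad ⧸ H.subgroupOf D.rad) => ((p.1.out.1 * p.2.out.1 : iso B) : iso B ⧸ H)) ?_
  rintro ⟨g, q⟩ ⟨g', q'⟩ h
  simp only [QuotientGroup.eq] at h
  set x := (g.out : iso B)⁻¹ * g'.out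
  have hx : x ∈ D.lev := mul_mem (inv_mem g.out.2) g'.out.2
  have e1 : g = g' := by
    rw [← QuotientGroup.out_eq' g, ← QuotientGroup.out_eq' g', QuotientGroup.eq, Subgroup.mem_subgroupOf]
    refine ⟨hx, (q.out : iso B)⁻¹ * (x * q'.out * x⁻¹), mul_mem (inv_mem q.out.2) (D.conj_rad hx q'.out.2), ?_⟩
    have e : (q.out : iso B)⁻¹ * (x * q'.out * x⁻¹) * x = ((g.out : iso B) * q.out)⁻¹ * (g'.out * q'.out) := by
      simp only [x]; group
    rw [← e] at h
    exact h
  subst e1
  have e2 : q = q' := by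
    rw [← QuotientGroup.out_eq' q, ← QuotientGroup.out_eq' q', QuotientGroup.eq, Subgroup.mem_subgroupOf]
    convert h using 1
    rw [Subgroup.coe_mul, Subgroup.coe_inv]
    group
  rw [e2]

variable [Finite V]

theorem Frame.card_rad [Finite F] : Nat.card D.rad = Nat.card D.W * Nat.card F := by
  rw [← Nat.card_prod]
  refine (Nat.card_congr (Equiv.ofBijective
    (fun p : D.W × F => (⟨D.el p.1 p.2, D.el_mem_rad p.1.2 _⟩ : D.rad)) ⟨?_, ?_⟩)).symm
  · rintro ⟨a, c⟩ ⟨b, e⟩ h
    obtain ⟨h1, h2⟩ := D.el_inj a.2 b.2 (congrArg Subtype.val h)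
    exact Prod.ext (Subtype.ext h1) h2
  · rintro ⟨_, a, ha, c, rfl⟩
    exact ⟨(⟨a, ha⟩, c), rfl⟩

theorem Frame.card_inter [Finite F] (H : Subgroup (iso B)) :
    Nat.card (H ⊓ D.rad : Subgroup (iso B)) = Nat.card (D.sbar H) * Nat.card (D.rsub H) := by
  classical
  rw [← Nat.card_prod]
  have hσ : ∀ a : D.sbar H, ∃ c, D.el a.1 c ∈ H := fun a => a.2.2
  choose σ hσ using hσ
  refine (Nat.card_congr (Equiv.ofBijective (fun p : D.sbar H × D.rsub H =>
    (⟨D.el p.1.1 (σ p.1) * D.el 0 p.2.1, mul_mem (hσ _) p.2.2,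
      mul_mem (D.el_mem_rad p.1.2.1 _) (D.el_mem_rad (zero_mem _) _)⟩ : (H ⊓ D.rad : Subgroup (iso B)))) ⟨?_, ?_⟩)).symm
  · rintro ⟨a, c⟩ ⟨b, e⟩ h
    have h' := congrArg Subtype.val h
    simp only [D.el_mul (D.W_v a.2.1) (map_zero _), D.el_mul (D.W_v b.2.1) (map_zero _), add_zero,
      LinearMap.map_zero, LinearMap.zero_apply] at h'
    obtain ⟨h1, h2⟩ := D.el_inj a.2.1 b.2.1 h'
    obtain rfl : a = b := Subtype.ext h1
    exact Prod.ext rfl (Subtype.ext (add_left_cancel h2))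
  · rintro ⟨g, hgH, a, ha, c, rfl⟩
    let a' : D.sbar H := ⟨a, ha, c, hgH⟩
    have e : D.el a (σ a') * D.el 0 (c - σ a') = D.el a c := by
      rw [D.el_mul (D.W_v ha) (map_zero _), add_zero, LinearMap.map_zero, LinearMap.zero_apply, add_zero,
        add_sub_cancel]
    have hR : D.el 0 (c - σ a') ∈ H := (H.mul_mem_cancel_left (hσ a')).1 (e ▸ hgH)
    exact ⟨(a', ⟨_, hR⟩), Subtype.ext e⟩

/-- The index in the radical. -/
theorem Frame.rad_relIndex [Finite F] (H : Subgroup (iso B)) :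
    H.relIndex D.rad * Nat.card (D.sbar H) = Nat.card D.W * (D.rsub H).index := by
  have h1 : Nat.card (H ⊓ D.rad : Subgroup (iso B)) * H.relIndex D.rad = Nat.card D.rad := by
    rw [← Subgroup.inf_relIndex_right, Subgroup.relIndex,
      ← Nat.card_congr (Subgroup.subgroupOfEquivOfLe (inf_le_right : H ⊓ D.rad ≤ D.rad)).toEquiv]
    exact Subgroup.card_mul_index _
  rw [D.card_inter, D.card_rad, ← (D.rsub H).card_mul_index] at h1
  exact Nat.eq_of_mul_eq_mul_left (Nat.card_pos (α := D.rsub H)) (by rw [mul_left_comm _ (Nat.card D.W)]; linarith)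

end Cfsg.Lib.Linear.MinIndexSp
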