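import Cfsg.Agent.Lib.Linear.MinIndexSp.Lift

/-!
# The points whose transvections lie in an irreducible subgroup
-/

set_option autoImplicit false
set_option linter.unusedSectionVars false

namespace Cfsg.Lib.Linear.MinIndexSp

open Module
open Cfsg.Lib.Linear.Symp

variable {F V : Type*} [Field F] [AddCommGroup V] [Module F V] [FiniteDimensional F V]
  {B : LinearMap.BilinForm F V}

/-- All transvections with this centre lie in the subgroup. -/
def Good (hA : B.IsAlt) (H : Subgroup (iso B)) (z : V) : Prop := ∀ c : F, tvG hA z c ∈ H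

/-- Irreducibility. -/
def Irred (H : Subgroup (iso B)) : Prop :=
  ∀ U : Submodule F V, (∀ h ∈ H, ∀ x ∈ U, h.1 x ∈ U) → U = ⊥ ∨ U = ⊤

variable {hA : B.IsAlt} {H : Subgroup (iso B)}

theorem Good.zero : Good hA H (0 : V) := fun c => by
  rw [show tvG hA (0 : V) c = 1 from Subtype.ext (LinearEquiv.ext fun x => by simp [tvG])]
  exact one_mem _

theorem Good.smul {z : V} (h : Good hA H z) (a : F) : Good hA H (a • z) := fun c => by
  rw [show tvG hA (a • z) c = tvG hA z (a ^ 2 * c) from Subtype.ext (tv_smul hA z a c)]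
  exact h _

theorem Good.map {z : V} (h : Good hA H z) {g : iso B} (hg : g ∈ H) : Good hA H (g.1 z) := fun c => by
  rw [← tvG_conj]
  exact mul_mem (mul_mem hg (h c)) (inv_mem hg)

theorem Good.line {z z' : V} (h : Good hA H z) (h' : Good hA H z') (hne : B z z' ≠ 0) (t : F) :
    Good hA H (z + t • z') := by
  have := h.map (h' (t / B z z'))
  rwa [show (tvG hA z' (t / B z z')).1 z = z + t • z' by
    show tv hA z' _ z = _
    rw [tv_apply, div_mul_cancel₀ _ hne]] at this

theorem Good.span_pair {z z' : V} (h : Good hA H z) (h' : Good hA H z') (hne : B z z' ≠ 0) (a b : F) :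
    Good hA H (a • z + b • z') := by
  rcases eq_or_ne a 0 with rfl | ha
  · rw [zero_smul, zero_add]; exact h'.smul b
  · have := (h.line h' hne (b / a)).smul a
    rwa [smul_add, smul_smul, mul_div_cancel₀ _ ha] at this

theorem eq_top_of_good (hB : B.Nondegenerate) (h : ∀ z, Good hA H z) : H = ⊤ := by
  rw [eq_top_iff, ← closure_tvG hB hA, Subgroup.closure_le]
  rintro _ ⟨v, c, rfl⟩
  exact h v c

theorem Good.fx_le {X : Submodule F V} (hB : B.Nondegenerate) (h : ∀ w ∈ B.orthogonal X, Good hA H w) :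
    Fx B X ≤ H := by
  refine (Fx_le_closure hB hA X).trans ((Subgroup.closure_le _).2 ?_)
  rintro _ ⟨w, hw, c, rfl⟩
  exact h w hw c

/-- A subgroup of small index is irreducible. -/
theorem irred_of_small [Finite V] [Fintype F] (hB : B.Nondegenerate) (hA : B.IsAlt)
    (hN : H.index * (Fintype.card F - 1) + 1 < Fintype.card F ^ finrank F V) : Irred H := by
  intro U hU
  by_contra hne
  push Not at hne
  haveI : Finite (iso B) :=
    Finite.of_injective (fun g => (⇑(g.1) : _ → _)) fun g k h => Subtype.ext (LinearEquiv.ext (congrFun h))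
  have hX : (⊥ : Submodule F V) ⊓ B.orthogonal ⊥ = ⊥ := bot_inf_eq _
  have h := card_orbit_ge hB hA hX (U := U) (by rw [LinearMap.BilinForm.orthogonal_bot]; exact le_top) hne.1
    (by rw [LinearMap.BilinForm.orthogonal_bot]; exact hne.2)
  have hfx : Fx B (⊥ : Submodule F V) = ⊤ := eq_top_iff.2 fun g _ => mem_Fx.2 fun x hx => by
    rw [(Submodule.mem_bot F).1 hx, map_zero]
  have h2 : Nat.card (img mv (Fx B (⊥ : Submodule F V)) U) ≤ H.index := by
    rw [hfx, ← H.relIndex_top_right]
    refine card_img_le_of_fixed mv le_top (fun g _ k _ W => mv_mul g k W) fun g hg => ?_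
    exact Submodule.eq_of_le_of_finrank_eq (fun y ⟨x, hx, e⟩ => e ▸ hU g hg x hx)
      (LinearEquiv.finrank_map_eq g.1 U)
  rw [LinearMap.BilinForm.orthogonal_bot, Nat.card_congr (Submodule.topEquiv (R := F) (M := V)).toEquiv,
    Module.natCard_eq_pow_finrank (K := F) (V := V), Nat.card_eq_fintype_card] at h
  have h3 := h.trans (Nat.mul_le_mul_right _ h2)
  omega

variable {n : ℕ} {v v' : V} (D : Frame B n v v')

/-- All points of the orthogonal space of a bad point of the plane cannot be good. -/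
theorem Frame.spread_false [Fintype F] (hq : 3 ≤ Fintype.card F) (hn : 1 ≤ n) (hI : Irred H)
    (hv : ¬ Good D.alt H v) (hW : ∀ w ∈ D.W, Good D.alt H w) : False := by
  classical
  have hfx : Fx B (plane F v v') ≤ H := Good.fx_le D.nondeg hW
  have hp : ∀ a b : F, a • v + b • v' ∈ plane F v v' := fun a b =>
    add_mem (Submodule.mem_sup_left (Submodule.smul_mem _ _ (Submodule.mem_span_singleton_self v)))
      (Submodule.mem_sup_right (Submodule.smul_mem _ _ (Submodule.mem_span_singleton_self v')))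
  have hpl : ∀ p ∈ plane F v v', ∃ a b : F, p = a • v + b • v' := by
    intro p hp
    obtain ⟨x, hx, y, hy, rfl⟩ := Submodule.mem_sup.1 hp
    obtain ⟨a, rfl⟩ := Submodule.mem_span_singleton.1 hx
    obtain ⟨b, rfl⟩ := Submodule.mem_span_singleton.1 hy
    exact ⟨a, b, rfl⟩
  have hperp : ∀ p ∈ plane F v v', ∀ w ∈ D.W, B p w = 0 ∧ B w p = 0 := fun p hp w hw =>
    ⟨hw p hp, D.alt.isRefl _ _ (hw p hp)⟩
  have move : ∀ w1 ∈ D.W, w1 ≠ 0 → ∀ p ∈ plane F v v', Good D.alt H (w1 + p) → ∀ w2 ∈ D.W, w2 ≠ 0 →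
      Good D.alt H (w2 + p) := by
    intro w1 h1 h10 p hp hg w2 h2 h20
    obtain ⟨g, hg', e⟩ := exists_Fx D.nondeg D.alt (not_mem_of_perp D.hX h1 h10) (not_mem_of_perp D.hX h2 h20)
      (fun x hx => (h1 x hx).trans (h2 x hx).symm)
    have := hg.map (hfx hg')
    rwa [map_add, e, mem_Fx.1 hg' p hp] at this
  have pure : ∀ p ∈ plane F v v', ∀ p' ∈ plane F v v', B p p' ≠ 0 → Good D.alt H p → Good D.alt H p' → False := by
    intro p hp p' hp' hne hg hg'
    obtain ⟨a, b, rfl⟩ := hpl p hp
    obtain ⟨c, d, rfl⟩ := hpl p' hp'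
    have hdet : a * d - b * c ≠ 0 := fun e => hne (by
      simp [D.self, D.pair, D.pair']
      linear_combination e)
    have := (hg.span_pair hg' hne d (-b)).smul (a * d - b * c)⁻¹
    refine hv (?_ : Good D.alt H v)
    convert this using 1
    match_scalars <;> field_simp <;> ring
  have mixed : ∀ w1 ∈ D.W, w1 ≠ 0 → ∀ w2 ∈ D.W, w2 ≠ 0 → ∀ p1 ∈ plane F v v', ∀ p2 ∈ plane F v v',
      B p1 p2 ≠ 0 → Good D.alt H (w1 + p1) → Good D.alt H (w2 + p2) → False := by
    intro w1 h1 h10 w2 h2 h20 p1 hp1 p2 hp2 hne g1 g2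
    have hall : ∀ t : F, t ≠ 0 → Good D.alt H (p1 + t • p2) := by
      intro t ht
      have g2' := move w2 h2 h20 p2 hp2 g2 ((-t⁻¹) • w1) (D.W.smul_mem _ h1)
        (smul_ne_zero (neg_ne_zero.2 (inv_ne_zero ht)) h10)
      have hB : B (w1 + p1) ((-t⁻¹) • w1 + p2) = B p1 p2 := by
        simp [D.self, (hperp p1 hp1 w1 h1).1, (hperp p2 hp2 w1 h1).2]
      have := g1.line g2' (by rw [hB]; exact hne) t
      convert this using 1
      match_scalars <;> field_simp <;> ring
    obtain ⟨t, ht⟩ : ∃ t : F, t ≠ 0 ∧ t ≠ 1 := by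
      by_contra hc
      push Not at hc
      have : (Finset.univ : Finset F) ⊆ {0, 1} := fun x _ => by
        rcases eq_or_ne x 0 with h | h
        · simp [h]
        · simp [hc x h]
      have := (Finset.card_le_card this).trans Finset.card_le_two
      rw [Finset.card_univ] at this
      omega
    refine pure _ (add_mem hp1 ((plane F v v').smul_mem 1 hp2)) _ (add_mem hp1 ((plane F v v').smul_mem t hp2))
      (fun e => ?_) (hall 1 one_ne_zero) (hall t ht.1)
    simp [D.self, D.swap p1 p2] at e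
    have : (t - 1) * B p1 p2 = 0 := by linear_combination e
    exact (mul_ne_zero (sub_ne_zero.2 ht.2) hne) this
  have claim : ∀ w1 ∈ D.W, ∀ w2 ∈ D.W, ∀ p1 ∈ plane F v v', ∀ p2 ∈ plane F v v',
      Good D.alt H (w1 + p1) → Good D.alt H (w2 + p2) → B p1 p2 = 0 := by
    intro w1 h1 w2 h2 p1 hp1 p2 hp2 g1 g2
    by_contra hne
    rcases eq_or_ne w1 0 with e1 | h10 <;> rcases eq_or_ne w2 0 with e2 | h20
    · rw [e1, zero_add] at g1; rw [e2, zero_add] at g2
      exact pure p1 hp1 p2 hp2 hne g1 g2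
    · rw [e1, zero_add] at g1
      have hB : B (w2 + p2) p1 ≠ 0 := by
        rw [map_add, LinearMap.add_apply, (hperp p1 hp1 w2 h2).2, zero_add, D.swap, neg_ne_zero]
        exact hne
      have g3 := g2.line g1 hB 1
      rw [one_smul, add_assoc] at g3
      refine mixed w2 h2 h20 w2 h2 h20 p2 hp2 _ (add_mem hp2 hp1) ?_ g2 g3
      rw [map_add, D.self, zero_add, D.swap, neg_ne_zero]
      exact hne
    · rw [e2, zero_add] at g2
      have hB : B (w1 + p1) p2 ≠ 0 := by
        rw [map_add, LinearMap.add_apply, (hperp p2 hp2 w1 h1).2, zero_add]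
        exact hne
      have g3 := g1.line g2 hB 1
      rw [one_smul, add_assoc] at g3
      refine mixed w1 h1 h10 w1 h1 h10 p1 hp1 _ (add_mem hp1 hp2) ?_ g1 g3
      rw [map_add, D.self, zero_add]
      exact hne
    · exact mixed w1 h1 h10 w2 h2 h20 p1 hp1 p2 hp2 hne g1 g2
  obtain ⟨w0, hw0, hw00⟩ : ∃ w ∈ D.W, w ≠ 0 := Submodule.exists_mem_ne_zero_of_ne_bot fun e => by
    have := D.finrank_W
    rw [show D.W = ⊥ from e, finrank_bot] at this
    omega
  set U := Submodule.span F {z | Good D.alt H z}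
  have hU : ∀ h ∈ H, ∀ x ∈ U, h.1 x ∈ U := fun h hh x hx => by
    induction hx using Submodule.span_induction with
    | mem y hy => exact Submodule.subset_span (Good.map hy hh)
    | zero => rw [map_zero]; exact zero_mem _
    | add y z _ _ hy hz => rw [map_add]; exact add_mem hy hz
    | smul c y _ hy => rw [map_smul]; exact U.smul_mem c hy
  rcases hI U hU with e | e
  · exact hw00 ((Submodule.mem_bot F).1 (e ▸ Submodule.subset_span (hW w0 hw0)))
  -- the plane parts lie on one line
  obtain ⟨p0, hp0, hline⟩ : ∃ p0 : V, p0 ∈ plane F v v' ∧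
      ∀ z, Good D.alt H z → z ∈ D.W ⊔ Submodule.span F {p0} := by
    by_cases hex : ∃ w ∈ D.W, ∃ p ∈ plane F v v', p ≠ 0 ∧ Good D.alt H (w + p)
    · obtain ⟨w, hw, p, hp', hp0, hg⟩ := hex
      refine ⟨p, hp', fun z hz => ?_⟩
      obtain ⟨w', hw', e'⟩ := D.exists_decomp z
      rw [e', add_assoc] at hz ⊢
      have h := claim w hw w' hw' p hp' _ (hp _ _) hg hz
      refine add_mem (Submodule.mem_sup_left hw') (Submodule.mem_sup_right ?_)
      obtain ⟨a, b, rfl⟩ := hpl p hp'
      simp [D.self, D.pair, D.pair'] at h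
      rw [Submodule.mem_span_singleton]
      by_cases ha : a = 0
      · have hb : b ≠ 0 := fun hb => hp0 (by simp [ha, hb])
        refine ⟨B v z / b, ?_⟩
        have : B z v' = 0 := by
          rw [ha] at h
          simp [hb] at h
          exact h
        rw [ha, this]
        match_scalars <;> field_simp <;> ring
      · refine ⟨B z v' / a, ?_⟩
        match_scalars <;> field_simp <;> linear_combination -h
    · push Not at hex
      refine ⟨0, zero_mem _, fun z hz => ?_⟩
      obtain ⟨w', hw', e'⟩ := D.exists_decomp z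
      rw [e', add_assoc] at hz ⊢
      rcases eq_or_ne ((B z v') • v + (B v z) • v') 0 with h0 | h0
      · rw [h0, add_zero]; exact Submodule.mem_sup_left hw'
      · exact absurd hz (hex w' hw' _ (hp _ _) h0)
  have hle : U ≤ D.W ⊔ Submodule.span F {p0} := Submodule.span_le.2 hline
  rw [e] at hle
  have h1 := Submodule.finrank_mono hle
  have h2 := Submodule.finrank_add_le_finrank_add_finrank D.W (Submodule.span F {p0})
  have h3 : finrank F (Submodule.span F {p0}) ≤ 1 := by
    rcases eq_or_ne p0 0 with h0 | h0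
    · rw [h0, Submodule.span_zero_singleton, finrank_bot]; omega
    · rw [finrank_span_singleton h0]
  rw [finrank_top, D.dim] at h1
  rw [D.finrank_W] at h2
  omega

/-- In dimension four a good point gives the contradiction. -/
theorem good_false [Fintype F] [Finite V] (hB : B.Nondegenerate) (hA : B.IsAlt) (hdim : finrank F V = 4)
    (hq : 3 ≤ Fintype.card F) (hN : H.index * (Fintype.card F - 1) + 1 < Fintype.card F ^ 4)
    (hproper : H ≠ ⊤) {z : V} (hz : Good hA H z) (hz0 : z ≠ 0) : False := by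
  classical
  have hI : Irred H := irred_of_small hB hA (hdim ▸ hN)
  -- a non-orthogonal good pair
  obtain ⟨z1, z2, g1, g2, h12⟩ : ∃ z1 z2, Good hA H z1 ∧ Good hA H z2 ∧ B z1 z2 ≠ 0 := by
    by_contra hc
    push Not at hc
    set U := Submodule.span F {y | Good hA H y}
    have hU : ∀ h ∈ H, ∀ x ∈ U, h.1 x ∈ U := fun h hh x hx => by
      induction hx using Submodule.span_induction with
      | mem y hy => exact Submodule.subset_span (Good.map hy hh)
      | zero => rw [map_zero]; exact zero_mem _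
      | add y z _ _ hy hz => rw [map_add]; exact add_mem hy hz
      | smul c y _ hy => rw [map_smul]; exact U.smul_mem c hy
    rcases hI U hU with e | e
    · exact hz0 ((Submodule.mem_bot F).1 (e ▸ Submodule.subset_span hz))
    · obtain ⟨x, hx⟩ := exists_apply_ne_zero hB hz0
      apply hx
      have hxU : x ∈ U := e ▸ Submodule.mem_top
      clear hx
      induction hxU using Submodule.span_induction with
      | mem y hy => exact hc y z hy hz
      | zero => simp
      | add y y' _ _ hy hy' => simp [hy, hy']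
      | smul c y _ hy => simp [hy]
  have g2' := g2.smul (B z1 z2)⁻¹
  have h1 : B z1 ((B z1 z2)⁻¹ • z2) = 1 := by rw [map_smul, smul_eq_mul, inv_mul_cancel₀ h12]
  generalize hz2 : (B z1 z2)⁻¹ • z2 = y at g2' h1
  have P : Frame B 1 z1 y := ⟨hB, hA, h1, hdim⟩
  have hplane : ∀ p ∈ plane F z1 y, Good hA H p := by
    intro p hp
    obtain ⟨a, ha, b, hb, rfl⟩ := Submodule.mem_sup.1 hp
    obtain ⟨s, rfl⟩ := Submodule.mem_span_singleton.1 ha
    obtain ⟨t, rfl⟩ := Submodule.mem_span_singleton.1 hb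
    exact g1.span_pair g2' (by rw [h1]; exact one_ne_zero) s t
  -- the frame on the orthogonal plane
  have hframe : ∀ u ∈ P.W, u ≠ 0 → ∃ u', ∃ D : Frame B 1 u u', u' ∈ P.W ∧ D.W = plane F z1 y := by
    intro u hu hu0
    obtain ⟨f, hf⟩ := Module.Projective.exists_dual_ne_zero F (show (⟨u, hu⟩ : P.W) ≠ 0 from
      fun e => hu0 (congrArg Subtype.val e))
    obtain ⟨z', hz', hzf⟩ := exists_rep hB P.hX le_rfl f
    have hne : B u z' ≠ 0 := by rw [hzf ⟨u, hu⟩]; exact hf
    have h1' : B u ((B u z')⁻¹ • z') = 1 := by rw [map_smul, smul_eq_mul, inv_mul_cancel₀ hne]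
    have D : Frame B 1 u ((B u z')⁻¹ • z') := ⟨hB, hA, h1', hdim⟩
    refine ⟨_, D, P.W.smul_mem _ hz', ?_⟩
    have hle : plane F z1 y ≤ D.W := by
      intro p hp
      refine D.mem_W.2 ⟨hA.isRefl _ _ (hu p hp), hA.isRefl _ _ (P.W.smul_mem _ hz' p hp)⟩
    refine (Submodule.eq_of_le_of_finrank_eq hle ?_).symm
    rw [D.finrank_W]
    have hy : y ∉ Submodule.span F {z1} := fun h => by
      obtain ⟨c, e⟩ := Submodule.mem_span_singleton.1 h
      rw [← e, map_smul, P.self, smul_zero] at h1
      exact zero_ne_one h1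
    rw [plane, Submodule.finrank_sup_span_singleton hy, finrank_span_singleton P.ne_zero]
  by_cases hWgood : ∀ u ∈ P.W, Good hA H u
  swap
  · push Not at hWgood
    obtain ⟨u, hu, hub⟩ := hWgood
    have hu0 : u ≠ 0 := fun e => hub (e ▸ Good.zero)
    obtain ⟨u', D, -, hD⟩ := hframe u hu hu0
    exact D.spread_false hq le_rfl hI hub (fun w hw => hplane w (hD ▸ hw))
  have hfxP : Fx B (plane F z1 y) ≤ H := Good.fx_le hB hWgood
  obtain ⟨u0, hu0, hu00⟩ : ∃ u ∈ P.W, u ≠ 0 := Submodule.exists_mem_ne_zero_of_ne_bot fun e => by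
    have := P.finrank_W
    rw [show P.W = ⊥ from e, finrank_bot] at this
    omega
  obtain ⟨u', D, hu', hD⟩ := hframe u0 hu0 hu00
  have hfxD : Fx B (plane F u0 u') ≤ H := Good.fx_le hB (fun w hw => hplane w (hD ▸ hw))
  have hWD : ∀ w ∈ P.W, w ∈ plane F u0 u' := by
    have hle : plane F u0 u' ≤ P.W := sup_le ((Submodule.span_singleton_le_iff_mem _ _).2 hu0)
      ((Submodule.span_singleton_le_iff_mem _ _).2 hu')
    have hn : u' ∉ Submodule.span F {u0} := fun h => by
      obtain ⟨c, e⟩ := Submodule.mem_span_singleton.1 h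
      have h2 := D.pair
      rw [← e, map_smul, P.self, smul_zero] at h2
      exact zero_ne_one h2
    intro w hw
    rw [Submodule.eq_of_le_of_finrank_eq hle (by
      rw [P.finrank_W, plane, Submodule.finrank_sup_span_singleton hn, finrank_span_singleton D.ne_zero])]
    exact hw
  by_cases hmix : ∃ w ∈ P.W, ∃ p ∈ plane F z1 y, w ≠ 0 ∧ p ≠ 0 ∧ Good hA H (w + p)
  · obtain ⟨w, hw, p, hp, hw0, hp0, hg⟩ := hmix
    refine hproper (eq_top_of_good hB (hA := hA) fun x => ?_)
    obtain ⟨w', hw', e⟩ := P.exists_decomp x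
    set p' := (B x y) • z1 + (B z1 x) • y with hp'def
    have hp' : p' ∈ plane F z1 y :=
      add_mem (Submodule.mem_sup_left (Submodule.smul_mem _ _ (Submodule.mem_span_singleton_self z1)))
        (Submodule.mem_sup_right (Submodule.smul_mem _ _ (Submodule.mem_span_singleton_self y)))
    rw [e, add_assoc]
    rcases eq_or_ne w' 0 with rfl | hw'0
    · rw [zero_add]; exact hplane _ hp'
    rcases eq_or_ne p' 0 with hp'0 | hp'0
    · rw [← hp'def, hp'0, add_zero]; exact hWgood _ hw'
    obtain ⟨k, hk, ek⟩ := exists_Fx hB hA (not_mem_of_perp P.hX hw hw0) (not_mem_of_perp P.hX hw' hw'0)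
      (fun x hx => (hw x hx).trans (hw' x hx).symm)
    have hg1 := hg.map (hfxP hk)
    rw [map_add, ek, mem_Fx.1 hk p hp] at hg1
    have hpD : ∀ p ∈ plane F z1 y, p ∈ D.W := fun p hp => hD ▸ hp
    obtain ⟨j, hj, ej⟩ := exists_Fx hB hA (not_mem_of_perp D.hX (hpD p hp) hp0)
      (not_mem_of_perp D.hX (hpD p' hp') hp'0) (fun x hx => (hpD p hp x hx).trans (hpD p' hp' x hx).symm)
    have hg2 := hg1.map (hfxD hj)
    rw [map_add, ej, mem_Fx.1 hj w' (hWD w' hw')] at hg2
    exact hg2
  push Not at hmix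
  -- the subgroup permutes the two planes
  have hmap : ∀ h ∈ H, mv h (plane F z1 y) = plane F z1 y ∨ mv h (plane F z1 y) = P.W := by
    intro h hh
    have hin : ∀ x ∈ mv h (plane F z1 y), x ∈ plane F z1 y ∨ x ∈ P.W := by
      rintro _ ⟨p, hp, rfl⟩
      obtain ⟨w', hw', e⟩ := P.exists_decomp (h.1 p)
      have hg : Good hA H (h.1 p) := (hplane p hp).map hh
      rw [e, add_assoc] at hg
      by_cases hw0 : w' = 0
      · left
        show h.1 p ∈ _
        rw [e, hw0, zero_add]
        exact add_mem (Submodule.mem_sup_left (Submodule.smul_mem _ _ (Submodule.mem_span_singleton_self z1)))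
          (Submodule.mem_sup_right (Submodule.smul_mem _ _ (Submodule.mem_span_singleton_self y)))
      · right
        show h.1 p ∈ _
        by_contra hne
        refine hmix w' hw' _ (add_mem (Submodule.mem_sup_left (Submodule.smul_mem _ _
          (Submodule.mem_span_singleton_self z1))) (Submodule.mem_sup_right (Submodule.smul_mem _ _
          (Submodule.mem_span_singleton_self y)))) hw0 (fun h0 => hne ?_) hg
        rw [e, add_assoc, h0, add_zero]
        exact hw'
    have hrank : finrank F (plane F z1 y) = 2 := by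
      obtain ⟨u', D, -, hD⟩ := hframe u0 hu0 hu00
      rw [← hD, D.finrank_W]
    have hrk : finrank F ↥(mv h (plane F z1 y)) = 2 := (LinearEquiv.finrank_map_eq h.1 _).trans hrank
    by_cases hsub : mv h (plane F z1 y) ≤ plane F z1 y
    · exact Or.inl (Submodule.eq_of_le_of_finrank_eq hsub (hrk.trans hrank.symm))
    refine Or.inr (Submodule.eq_of_le_of_finrank_eq ?_ (hrk.trans P.finrank_W.symm))
    obtain ⟨a, ha, haP⟩ := SetLike.not_le_iff_exists.1 hsub
    intro b hb
    rcases hin b hb with hbP | hbW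
    · rcases hin _ (add_mem ha hb) with h | h
      · exact absurd ((Submodule.add_mem_iff_left _ hbP).1 h) haP
      · exact (Submodule.add_mem_iff_right _ ((hin a ha).resolve_left haP)).1 h
    · exact hbW
  haveI : Finite (iso B) :=
    Finite.of_injective (fun g => (⇑(g.1) : _ → _)) fun g k h => Subtype.ext (LinearEquiv.ext (congrFun h))
  haveI : Finite (Submodule F V) := Finite.of_injective (fun S : Submodule F V => (S : Set V)) SetLike.coe_injective
  have hX : (⊥ : Submodule F V) ⊓ B.orthogonal ⊥ = ⊥ := bot_inf_eq _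
  have hfx : Fx B (⊥ : Submodule F V) = ⊤ := eq_top_iff.2 fun g _ => mem_Fx.2 fun x hx => by
    rw [(Submodule.mem_bot F).1 hx, map_zero]
  have h2 : Nat.card (img mv (Fx B (⊥ : Submodule F V)) (plane F z1 y)) ≤
      H.index * ({plane F z1 y, P.W} : Set (Submodule F V)).ncard := by
    rw [hfx, ← H.relIndex_top_right]
    exact card_img_le_of_stable mv le_top (fun g _ k _ W => mv_mul g k W) (Set.toFinite _) hmap
  have h2' : ({plane F z1 y, P.W} : Set (Submodule F V)).ncard ≤ 2 :=
    (Set.ncard_insert_le _ _).trans (by rw [Set.ncard_singleton])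
  have h3 := card_orbit_nondeg hB hA hX (U := plane F z1 y) (by rw [LinearMap.BilinForm.orthogonal_bot]; exact le_top)
    (Submodule.mem_sup_left (Submodule.mem_span_singleton_self z1))
    (Submodule.mem_sup_right (Submodule.mem_span_singleton_self y)) (by rw [h1]; exact one_ne_zero)
  have hrank : finrank F (plane F z1 y) = 2 := by rw [← hD, D.finrank_W]
  rw [LinearMap.BilinForm.orthogonal_bot, Nat.card_congr (Submodule.topEquiv (R := F) (M := V)).toEquiv,
    Module.natCard_eq_pow_finrank (K := F) (V := V), Module.natCard_eq_pow_finrank (K := F) (V := plane F z1 y),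
    Nat.card_eq_fintype_card, hdim, hrank] at h3
  have h4 : (Fintype.card F ^ 4 - 1) * Fintype.card F ^ 4 ≤
      2 * H.index * ((Fintype.card F ^ 2 - 1) * Fintype.card F ^ 2) := by
    refine h3.trans (Nat.mul_le_mul_right _ ?_)
    exact h2.trans (by rw [mul_comm 2]; exact Nat.mul_le_mul_left _ h2')
  obtain ⟨w, hw⟩ : ∃ w, Fintype.card F = w + 3 := ⟨Fintype.card F - 3, by omega⟩
  rw [hw] at hN h4
  have e4 : (w + 3) ^ 4 - 1 = ((w + 3) ^ 2 + 1) * ((w + 3) ^ 2 - 1) := by
    rw [show (w + 3) ^ 4 = ((w + 3) ^ 2) ^ 2 by ring, ← Nat.sq_sub_sq, one_pow]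
  rw [show w + 3 - 1 = w + 2 by omega] at *
  have hpos : 0 < (w + 3) ^ 2 - 1 := by
    have : 9 ≤ (w + 3) ^ 2 := by nlinarith
    omega
  have h5 : ((w + 3) ^ 2 + 1) * (w + 3) ^ 2 ≤ 2 * H.index := by
    refine Nat.le_of_mul_le_mul_right (c := ((w + 3) ^ 2 - 1) * (w + 3) ^ 2) ?_ (by positivity)
    calc ((w + 3) ^ 2 + 1) * (w + 3) ^ 2 * (((w + 3) ^ 2 - 1) * (w + 3) ^ 2)
        = ((w + 3) ^ 2 + 1) * ((w + 3) ^ 2 - 1) * ((w + 3) ^ 4) := by ring
      _ = ((w + 3) ^ 4 - 1) * (w + 3) ^ 4 := by rw [e4]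
      _ ≤ _ := h4
  nlinarith [Nat.mul_le_mul_right (w + 2) h5]

end Cfsg.Lib.Linear.MinIndexSp
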